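import Groth.Agent.Deform.SubMT.Main
import Groth.Agent.EtFound.Descent
import Groth.Agent.FpqcDescLib.Closed

/-!
# Types of subgroups of multiplicative type

The group of characters of a subgroup at a point is unique up to isomorphism; it is finite exactly when the subgroup is
finite there.
-/

set_option autoImplicit false
set_option linter.style.haveILetI false
set_option backward.isDefEq.respectTransparency false
set_option backward.isDefEq.respectTransparency.types false
set_option maxHeartbeats 600000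

universe u

open CategoryTheory CategoryTheory.Limits AlgebraicGeometry TopologicalSpace Opposite
open MonoidalCategory CartesianMonoidalCategory MonObj GrpObj

namespace Groth.Agent.Deform.SubMT

open HomMT GrpSchLib.AffineHopf

/-- Over a field the diagonalisable group determines its group of characters. -/
theorem nonempty_addEquiv_of_DS {K : Type u} [Field K] {M M' : Type} [AddCommGroup M] [AddGroup.FG M] [AddCommGroup M']
    (e : Grp.mk (Red.DS (Spec (CommRingCat.of K)) M) ≅ Grp.mk (Red.DS (Spec (CommRingCat.of K)) M')) :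
    Nonempty (M ≃+ M') := by
  obtain ⟨a⟩ := nonempty_DS_iso K M
  obtain ⟨a'⟩ := nonempty_DS_iso K M'
  let G : Over (Spec (CommRingCat.of K)) := sp K (MA M K)
  haveI : IsAffine G.left := inferInstanceAs (IsAffine (Spec (CommRingCat.of (MA M K))))
  haveI : IsAffineHom G.hom := isAffineHom_of_isAffine _
  obtain ⟨A, iA, hA, ⟨kc⟩⟩ := exists_gc G (𝟙 (Spec (CommRingCat.of K)))
  have hb : 𝟙 (Spec (CommRingCat.of K)) = bb (𝟙 (Spec (CommRingCat.of K))) K := by simp [bb]
  obtain ⟨b₁⟩ := GrpSchLib.MultTypeBC.bc_congr hb G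
  let b₀ : Grp.mk (Red.bc (𝟙 _) G) ≅ Grp.mk G :=
    ((Functor.mapGrpNatIso Over.pullbackId) ≪≫ Functor.mapGrpIdIso).app (Grp.mk G)
  let E : Grp.mk (sp K (MA M K)) ≅ Grp.mk (Red.bc (bb (𝟙 _) K) G) := b₀.symm ≪≫ b₁
  let E' : Grp.mk (sp K (MA M' K)) ≅ Grp.mk (Red.bc (bb (𝟙 _) K) G) := a' ≪≫ e.symm ≪≫ a.symm ≪≫ E
  let o : sp K (MA M K) ≅ Red.bc (bb (𝟙 _) K) G := (Grp.forget _).mapIso E
  let o' : sp K (MA M' K) ≅ Red.bc (bb (𝟙 _) K) G := (Grp.forget _).mapIso E'
  haveI : IsIso o.hom.left := ((Over.forget _).mapIso o).isIso_hom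
  haveI : IsIso o'.hom.left := ((Over.forget _).mapIso o').isIso_hom
  obtain ⟨ψ, hψ⟩ := (pt_bijective kc K).2 o.hom
  obtain ⟨ψ', hψ'⟩ := (pt_bijective kc K).2 o'.hom
  haveI : IsMonHom (pt kc K ψ) := hψ ▸ E.hom.hom.isMonHom_hom
  haveI : IsMonHom (pt kc K ψ') := hψ' ▸ E'.hom.hom.isMonHom_hom
  have hker : ∀ {P Q : Scheme.{u}} (f : P ⟶ Q) [IsIso f], f.ker = ⊥ := fun f _ =>
    eq_bot_iff.mpr fun U x hx => by simpa [Scheme.Hom.ker_apply] using hx
  obtain ⟨g, -, h, -⟩ := exists_iso_of_ker_eq kc (mult_of_isMonHom kc) (mult_of_isMonHom kc)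
    ((isClosedImmersion_iff_srj kc ψ).mp (hψ ▸ inferInstanceAs (IsClosedImmersion o.hom.left)))
    ((isClosedImmersion_iff_srj kc ψ').mp (hψ' ▸ inferInstanceAs (IsClosedImmersion o'.hom.left)))
    (by rw [hψ, hψ', hker, hker]) ⊥
  exact ⟨h⟩

variable {S : Scheme.{u}} {G : Over S} [GrpObj G] [IsAffineHom G.hom]

/-- The type at a point is unique. -/
theorem type_unique {T : Scheme.{u}} {g : T ⟶ S} {Z : (pullback G.hom g).IdealSheafData} (hZ : IsSub G g Z)
    {V V' : S.affineOpens} {B B' : Type u} [CommRing B] [Algebra (RV V) B] [CommRing B'] [Algebra (RV V') B']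
    {M M' : Type} [AddCommGroup M] [AddCommGroup M'] [AddGroup.FG M] {e : Spec (CommRingCat.of B) ⟶ T}
    {e' : Spec (CommRingCat.of B') ⟶ T} {ψ : AV G V →ₐ[RV V] MA M B} {ψ' : AV G V' →ₐ[RV V'] MA M' B'}
    (h : IsTriv G g Z V e ψ) (h' : IsTriv G g Z V' e' ψ') (p : Spec (CommRingCat.of B))
    (p' : Spec (CommRingCat.of B')) (hp : e p = e' p') : Nonempty (M ≃+ M') := by
  obtain ⟨iK, hmon, -⟩ := exists_grp hZ
  letI := iK
  haveI := hmon
  obtain ⟨d⟩ := nonempty_iso_of_triv h
  obtain ⟨d'⟩ := nonempty_iso_of_triv h'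
  obtain ⟨z, -, -⟩ := Scheme.Pullback.exists_preimage_pullback (f := e) (g := e') p p' hp
  let y : Spec (CommRingCat.of ((pullback e e').residueField z)) ⟶ pullback e e' :=
    (pullback e e').fromSpecResidueField z
  let a := y ≫ pullback.fst e e'
  let a' := y ≫ pullback.snd e e'
  obtain ⟨b₁⟩ := GrpSchLib.MultTypeBC.bc_bc a e (subK Z)
  obtain ⟨b₂⟩ := GrpSchLib.MultTypeBC.bc_iso a d
  obtain ⟨b₃⟩ := GrpSchLib.MultTypeBC.bc_DS a M
  obtain ⟨b₁'⟩ := GrpSchLib.MultTypeBC.bc_bc a' e' (subK Z)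
  obtain ⟨b₂'⟩ := GrpSchLib.MultTypeBC.bc_iso a' d'
  obtain ⟨b₃'⟩ := GrpSchLib.MultTypeBC.bc_DS a' M'
  obtain ⟨b₄⟩ := GrpSchLib.MultTypeBC.bc_congr (show a ≫ e = a' ≫ e' by
    simp only [a, a', Category.assoc, pullback.condition]) (subK Z)
  exact nonempty_addEquiv_of_DS (b₃.symm ≪≫ b₂.symm ≪≫ b₁ ≪≫ b₄ ≪≫ b₁'.symm ≪≫ b₂' ≪≫ b₃')

/-- At a point of a chart every trivialisation has the type of the chart. -/
theorem Chart.nonempty_addEquiv {V : S.affineOpens} (c : Chart G V) {T : Scheme.{u}} {f : Fam G T}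
    {V' : S.affineOpens} {B : Type u} [CommRing B] [Algebra (RV V') B] {M' : Type} [AddCommGroup M']
    {e : Spec (CommRingCat.of B) ⟶ T} {ψ' : AV G V' →ₐ[RV V'] MA M' B} (h : IsTriv G f.1 f.2.1 V' e ψ')
    (p : Spec (CommRingCat.of B)) (hp : c.InChart f (e p)) : Nonempty (c.M ≃+ M') := by
  obtain ⟨B₁, _, _, w, M₁, _, ψ₁, -, ⟨p₁, hp₁⟩, hM₁, htr⟩ := exists_triv f.2.2 V (e p) (c.inChart_mem hp)
  haveI := hM₁
  obtain ⟨h₁, -⟩ := c.exists_iso_of_inChart htr p₁ (hp₁.symm ▸ hp)
  obtain ⟨h₂⟩ := type_unique f.2.2 htr h p₁ p hp₁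
  exact ⟨h₁.symm.trans h₂⟩

/-- A diagonalisable group over a ring with finitely many characters is finite. -/
theorem isFinite_DS {B : Type u} [CommRing B] (M : Type) [AddCommGroup M] [Finite M] :
    IsFinite (Red.DS (Spec (CommRingCat.of B)) M).hom := by
  obtain ⟨a⟩ := nonempty_DS_iso B M
  let o : sp B (MA M B) ≅ Red.DS (Spec (CommRingCat.of B)) M := (Grp.forget _).mapIso a
  haveI : Module.Finite B (MA M B) :=
    Module.Finite.equiv (MonoidAlgebra.coeffLinearEquiv B (S := B) (M := Multiplicative M)).symm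
  haveI : IsFinite (sp B (MA M B)).hom :=
    (HasAffineProperty.SpecMap_iff_of_affineAnd (P := @IsFinite) inferInstance RingHom.finite_respectsIso _).mpr
      (RingHom.finite_algebraMap.mpr inferInstance)
  haveI : IsIso o.inv.left := ((Over.forget _).mapIso o).isIso_inv
  rw [← Over.w o.inv]
  exact inferInstanceAs (IsFinite (o.inv.left ≫ (sp B (MA M B)).hom))

/-- A finite diagonalisable group over a nonzero ring has finitely many characters. -/
theorem finite_of_isFinite_DS {B : Type u} [CommRing B] [Nontrivial B] (M : Type) [AddCommGroup M]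
    (h : IsFinite (Red.DS (Spec (CommRingCat.of B)) M).hom) : Finite M := by
  obtain ⟨a⟩ := nonempty_DS_iso B M
  let o : sp B (MA M B) ≅ Red.DS (Spec (CommRingCat.of B)) M := (Grp.forget _).mapIso a
  haveI := h
  haveI : IsIso o.hom.left := ((Over.forget _).mapIso o).isIso_hom
  have h1 : IsFinite (sp B (MA M B)).hom := by
    rw [← Over.w o.hom]
    infer_instance
  haveI : Module.Finite B (MA M B) := RingHom.finite_algebraMap.mp
    ((HasAffineProperty.SpecMap_iff_of_affineAnd (P := @IsFinite) inferInstance RingHom.finite_respectsIso _).mp h1)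
  haveI : Module.Finite B (Multiplicative M →₀ B) :=
    Module.Finite.equiv (MonoidAlgebra.coeffLinearEquiv B (S := B) (M := Multiplicative M))
  haveI : Finite (Multiplicative M) := Module.Finite.finite_basis (Finsupp.basisSingleOne (R := B))
  exact Finite.of_equiv _ Multiplicative.toAdd

/-- A subgroup all whose types are finite is finite. -/
theorem isFinite_subK {T : Scheme.{u}} {g : T ⟶ S} {Z : (pullback G.hom g).IdealSheafData} (hZ : IsSub G g Z)
    (h : ∀ t : T, ∃ (V : S.affineOpens) (B : Type u) (_ : CommRing B) (_ : Algebra (RV V) B)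
      (e : Spec (CommRingCat.of B) ⟶ T) (M : Type) (_ : AddCommGroup M) (ψ : AV G V →ₐ[RV V] MA M B),
      Etale e ∧ t ∈ Set.range e ∧ Finite M ∧ IsTriv G g Z V e ψ) : IsFinite (subK Z).hom := by
  obtain ⟨iK, hmon, -⟩ := exists_grp hZ
  letI := iK
  haveI := hmon
  choose V B iB iA e M iM ψ he hte hM htr using h
  haveI := he
  haveI := EtFound.fpqc_isFinite.{u}
  refine (covers_sigma e fun t => ⟨t, hte t⟩).descends @IsFinite (subK Z).hom (pullback.fst (Sigma.desc e) (subK Z).hom)
    (pullback.snd (Sigma.desc e) (subK Z).hom) (IsPullback.of_hasPullback _ _) ?_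
  refine IsZariskiLocalAtTarget.of_openCover (P := @IsFinite) (sigmaOpenCover _) fun t => ?_
  haveI := hM t
  obtain ⟨d⟩ := nonempty_iso_of_triv (htr t)
  let o : Red.bc (e t) (subK Z) ≅ Red.DS (Spec (CommRingCat.of (B t))) (M t) := (Grp.forget _).mapIso d
  haveI : IsIso o.hom.left := ((Over.forget _).mapIso o).isIso_hom
  haveI := isFinite_DS (B := B t) (M t)
  have h0 : IsFinite (pullback.snd (subK Z).hom (e t)) := by
    show IsFinite (Red.bc (e t) (subK Z)).hom
    rw [← Over.w o.hom]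
    infer_instance
  let f₀ := pullback.fst (Sigma.desc e) (subK Z).hom
  let ιt := Sigma.ι (fun t => Spec (CommRingCat.of (B t))) t
  have hsq : IsPullback (pullback.fst f₀ ιt ≫ pullback.snd (Sigma.desc e) (subK Z).hom) (pullback.snd f₀ ιt)
      (subK Z).hom (ιt ≫ Sigma.desc e) :=
    ((IsPullback.of_hasPullback f₀ ιt).flip.paste_vert (IsPullback.of_hasPullback (Sigma.desc e) (subK Z).hom)).flip
  rw [Sigma.ι_desc] at hsq
  show IsFinite (pullback.snd f₀ ιt)
  rw [← hsq.isoPullback_hom_snd]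
  exact inferInstanceAs (IsFinite (hsq.isoPullback.hom ≫ pullback.snd (subK Z).hom (e t)))

/-- The types of a finite subgroup are finite. -/
theorem finite_of_isFinite {T : Scheme.{u}} {g : T ⟶ S} {K' : Over T} [GrpObj K'] (j' : K' ⟶ Red.bc g G)
    [IsMonHom j'] [IsClosedImmersion j'.left] (hK : SGA3x.IsMultTypeFT K') [IsFinite K'.hom] {V : S.affineOpens}
    {B : Type u} [CommRing B] [Algebra (RV V) B] {M : Type} [AddCommGroup M] {e : Spec (CommRingCat.of B) ⟶ T}
    {ψ : AV G V →ₐ[RV V] MA M B} (h : IsTriv G g j'.left.ker V e ψ) (p : Spec (CommRingCat.of B)) : Finite M := by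
  obtain ⟨iK, hmon, -⟩ := exists_grp (isSub_ker j' hK)
  letI := iK
  haveI := hmon
  haveI : Nontrivial B := p.nontrivial
  obtain ⟨d⟩ := nonempty_iso_of_triv h
  let o : Red.bc e (subK j'.left.ker) ≅ Red.DS (Spec (CommRingCat.of B)) M := (Grp.forget _).mapIso d
  haveI : IsIso o.inv.left := ((Over.forget _).mapIso o).isIso_inv
  haveI : IsIso j'.left.toImage := inferInstance
  have h0 : IsFinite (subK j'.left.ker).hom := by
    have : inv j'.left.toImage ≫ K'.hom = (subK j'.left.ker).hom := by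
      rw [IsIso.inv_comp_eq]
      refine (Over.w j').symm.trans ?_
      show j'.left ≫ pullback.snd G.hom g = j'.left.toImage ≫ j'.left.imageι ≫ pullback.snd G.hom g
      rw [← Category.assoc]
      exact congrArg (· ≫ pullback.snd G.hom g) j'.left.toImage_imageι.symm
    rw [← this]
    infer_instance
  haveI : IsFinite (Red.bc e (subK j'.left.ker)).hom :=
    MorphismProperty.pullback_snd (P := @IsFinite) _ _ h0
  refine finite_of_isFinite_DS (B := B) M ?_
  rw [← Over.w o.inv]
  infer_instance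

end Groth.Agent.Deform.SubMT
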