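import Groth.Agent.Deform.SubMT.Quot
import Groth.Agent.FpqcDescLib.Basic

/-!
# Charts as open subfunctors

The universal subgroup on the piece descends to the chart, the chart maps monomorphically to the functor of families
and the families lying in the chart form an open subfunctor.
-/

set_option autoImplicit false
set_option linter.style.haveILetI false
set_option backward.isDefEq.respectTransparency false
set_option backward.isDefEq.respectTransparency.types false
set_option maxHeartbeats 600000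

universe u

open CategoryTheory CategoryTheory.Limits AlgebraicGeometry TopologicalSpace Opposite
open MonoidalCategory CartesianMonoidalCategory MonObj GrpObj
open TensorProduct

namespace Groth.Agent.Deform.SubMT

open HomMT

variable {S : Scheme.{u}} {G : Over S} [GrpObj G] [IsAffineHom G.hom]

theorem covers_of_etale {X Y : Scheme.{u}} (p : X ⟶ Y) [Etale p] [Surjective p] : FpqcDescLib.Covers p :=
  FpqcDescLib.covers_of_isCovering (FpqcDescLib.isCovering_of_lfp p)

theorem covers_sigma {T : Scheme.{u}} {κ : Type u} {W : κ → Scheme.{u}} (w : ∀ k, W k ⟶ T) [∀ k, Etale (w k)]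
    (hw : ∀ t, ∃ k, t ∈ Set.range (w k)) : FpqcDescLib.Covers (Sigma.desc w) := by
  haveI : Etale (Sigma.desc w) := IsZariskiLocalAtSource.sigmaDesc (P := @Etale) fun _ => inferInstance
  haveI : Surjective (Sigma.desc w) := ⟨fun x => by
    obtain ⟨k, y, rfl⟩ := hw x
    exact ⟨Sigma.ι W k y, by rw [← Scheme.Hom.comp_apply, Sigma.ι_desc]⟩⟩
  exact covers_of_etale _

/-- Morphisms agreeing etale locally are equal. -/
theorem hom_ext_etale {T X : Scheme.{u}} {v v' : T ⟶ X}
    (h : ∀ t : T, ∃ (W : Scheme.{u}) (w : W ⟶ T), Etale w ∧ t ∈ Set.range w ∧ w ≫ v = w ≫ v') : v = v' := by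
  choose W w hw ht heq using h
  haveI := hw
  haveI := (covers_sigma w fun t => ⟨t, ht t⟩).epi
  exact (cancel_epi (Sigma.desc w)).mp (Sigma.hom_ext _ _ fun t => by simpa using heq t)

/-- Families agreeing etale locally are equal. -/
theorem Fam.ext_etale {T : Scheme.{u}} {e e' : Fam G T}
    (h : ∀ t : T, ∃ (W : Scheme.{u}) (w : W ⟶ T), Etale w ∧ t ∈ Set.range w ∧ Fam.pull w e = Fam.pull w e') :
    e = e' := by
  have hg : e.1 = e'.1 := hom_ext_etale fun t => by
    obtain ⟨W, w, h1, h2, h3⟩ := h t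
    exact ⟨W, w, h1, h2, congrArg Sigma.fst h3⟩
  choose W w hw ht heq using h
  haveI : ∀ t, Flat (bm G (w t) e.1 (w t ≫ e.1) rfl) := fun t => by
    haveI := hw t
    exact MorphismProperty.of_isPullback (P := @Flat) (isPullback_bm rfl).flip inferInstance
  refine Fam.ext' hg (DescLib.eq_of_flat_family (fun t => bm G (w t) e.1 (w t ≫ e.1) rfl) (fun x => ?_) fun t => ?_)
  · obtain ⟨y, hy⟩ := ht (pullback.snd G.hom e.1 x)
    obtain ⟨z, hz, -⟩ := Scheme.Pullback.exists_preimage_pullback (f := pullback.snd G.hom e.1)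
      (g := w (pullback.snd G.hom e.1 x)) x y hy.symm
    refine ⟨_, (isPullback_bm (G := G) (rfl : w (pullback.snd G.hom e.1 x) ≫ e.1 = _)).isoPullback.inv z, ?_⟩
    rw [← Scheme.Hom.comp_apply, IsPullback.isoPullback_inv_fst]
    exact hz
  · have := Fam.comap_eq (heq t) (𝟙 _) (bm G (𝟙 _) (w t ≫ e'.1) (w t ≫ e.1) (by rw [Category.id_comp, hg]))
      (by rw [Category.id_comp]; exact (bm_fst _).symm)
      (by rw [Category.id_comp]; exact ((bm_snd _).trans (Category.comp_id _)).symm)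
    simp only [Fam.pull, ← Scheme.IdealSheafData.comap_comp, Category.id_comp] at this
    rw [← Scheme.IdealSheafData.comap_comp, this]
    congr 1
    apply pullback.hom_ext <;> simp [bm, Fam.pull]

/-- A trivialisation pulled back to its source. -/
theorem IsTriv.pull_base {T : Scheme.{u}} {g : T ⟶ S} {Z : (pullback G.hom g).IdealSheafData} {hZ : IsSub G g Z}
    {V : S.affineOpens} {B : Type u} [CommRing B] [Algebra (RV V) B] {M : Type} [AddCommGroup M]
    {e : Spec (CommRingCat.of B) ⟶ T} {ψ : AV G V →ₐ[RV V] MA M B} (h : IsTriv G g Z V e ψ) :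
    IsTriv G (Fam.pull e (⟨g, Z, hZ⟩ : Fam G T)).1 (Fam.pull e (⟨g, Z, hZ⟩ : Fam G T)).2.1 V (𝟙 _) ψ := by
  obtain ⟨hm, hs, hg, hk⟩ := h
  refine ⟨hm, hs, (Category.id_comp _).trans hg, ?_⟩
  show (Z.comap _).comap _ = _
  rw [← hk, ← Scheme.IdealSheafData.comap_comp]
  congr 1
  apply pullback.hom_ext <;> simp [bm, Fam.pull]

/-- Families over an affine scheme with trivialisations having equal kernels are equal. -/
theorem Fam.eq_of_triv {V : S.affineOpens} {B : Type u} [CommRing B] [Algebra (RV V) B] {M M' : Type} [AddCommGroup M]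
    [AddCommGroup M'] {e e' : Fam G (Spec (CommRingCat.of B))} {ψ : AV G V →ₐ[RV V] MA M B}
    {ψ' : AV G V →ₐ[RV V] MA M' B} (h : IsTriv G e.1 e.2.1 V (𝟙 _) ψ) (h' : IsTriv G e'.1 e'.2.1 V (𝟙 _) ψ')
    (hker : (pt (KV G V) B ψ).left.ker = (pt (KV G V) B ψ').left.ker) : e = e' := by
  obtain ⟨-, -, h1, hk⟩ := h
  obtain ⟨-, -, h1', hk'⟩ := h'
  have hg : e.1 = e'.1 := by
    rw [← Category.id_comp e.1, h1, ← h1', Category.id_comp]
  have hgb : e.1 = bb (βV V) B := by rw [← h1, Category.id_comp]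
  have h2 := congrArg (fun I => Scheme.IdealSheafData.comap I
    (bm G (𝟙 _) (bb (βV V) B) e.1 (by rw [Category.id_comp, hgb]))) (hk.trans (hker.trans hk'.symm))
  simp only [← Scheme.IdealSheafData.comap_comp] at h2
  rw [bm_comp _ _ (by rw [Category.assoc, Category.id_comp, Category.id_comp]),
    bm_comp _ _ (by rw [Category.assoc, Category.id_comp, Category.id_comp, hg]),
    bm_congr (Category.id_comp _) _ (by rw [Category.id_comp]), bm_id, Scheme.IdealSheafData.comap_id,
    bm_congr (Category.id_comp _) _ (by rw [Category.id_comp, hg])] at h2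
  exact Fam.ext' hg h2

namespace Chart

variable {V : S.affineOpens} (c : Chart G V)

/-- The subgroup on the piece. -/
noncomputable def ZO : (pullback G.hom (bb (βV V) c.O)).IdealSheafData := (pt (KV G V) c.O c.ψu).left.ker

theorem comap_ZO {B : Type u} [CommRing B] [Algebra (RV V) B] (σ : c.O →ₐ[RV V] B) :
    c.ZO.comap (bm G _ _ _ (spec_bb (βV V) σ)) = (pt (KV G V) B ((push σ).comp c.ψu)).left.ker :=
  (ker_push _ σ c.ψu_srj).symm

/-- Two points of the piece over the same point of the chart, on an affine scheme. -/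
theorem comap_ZO_eq {B : Type u} [CommRing B] [Algebra (RV V) B] (σ σ' : c.O →ₐ[RV V] B)
    (h : Spec.map (CommRingCat.ofHom σ.toRingHom) ≫ c.oQ = Spec.map (CommRingCat.ofHom σ'.toRingHom) ≫ c.oQ) :
    c.ZO.comap (bm G _ _ _ (spec_bb (βV V) σ)) = c.ZO.comap (bm G _ _ _ (spec_bb (βV V) σ')) := by
  rw [comap_ZO, comap_ZO]
  refine c.ker_eq_of_inv σ σ' fun r => ?_
  have h1 := congrArg (· ≫ c.Qo.ι) h
  simp only [Category.assoc, oQ_ι, o, ← Spec.map_comp] at h1
  exact congr($(Spec.map_injective h1) r)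

/-- Descent of the subgroup to the chart. -/
theorem exists_J : ∃ J : (pullback G.hom c.str).IdealSheafData,
    J.comap (bm G c.oQ c.str (bb (βV V) c.O) c.oQ_str) = c.ZO := by
  let q := bm G c.oQ c.str (bb (βV V) c.O) c.oQ_str
  haveI : Etale q := MorphismProperty.of_isPullback (P := @Etale) (isPullback_bm c.oQ_str).flip inferInstance
  haveI : Surjective q := MorphismProperty.of_isPullback (P := @Surjective) (isPullback_bm c.oQ_str).flip inferInstance
  have hmem : Presieve.ofArrows (fun _ : PUnit.{u+1} => pullback G.hom (bb (βV V) c.O)) (fun _ => q) ∈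
      Scheme.fpqcPrecoverage (pullback G.hom c.str) :=
    Scheme.fppfPrecoverage_le_fpqcPrecoverage _
      ((Scheme.presieve₀_mem_precoverage_iff (P := @Flat ⊓ @LocallyOfFinitePresentation)
        ⟨PUnit.{u+1}, fun _ => pullback G.hom (bb (βV V) c.O), fun _ => q⟩).mpr
        ⟨fun x => ⟨PUnit.unit, q.surjective x⟩, fun _ => ⟨inferInstanceAs (Flat q),
          inferInstanceAs (LocallyOfFinitePresentation q)⟩⟩)
  obtain ⟨J, hJ, -⟩ := DescLib.existsUnique_descend_fpqc (fun _ : PUnit.{u+1} => q) hmem (fun _ => c.ZO) (by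
    intro _ _
    -- compare over the product of two copies of the piece
    let P := pullback c.oQ c.oQ
    let a : P ⟶ Spec (CommRingCat.of c.O) := pullback.fst _ _
    let b : P ⟶ Spec (CommRingCat.of c.O) := pullback.snd _ _
    have hab : a ≫ bb (βV V) c.O = b ≫ bb (βV V) c.O := by
      rw [← oQ_str, ← Category.assoc, pullback.condition, Category.assoc]
    let gP : P ⟶ S := a ≫ bb (βV V) c.O
    have hkey : c.ZO.comap (bm G a _ gP rfl) = c.ZO.comap (bm G b _ gP hab.symm) := by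
      choose B iB aB σ j hj hjz hjx using fun z : P => exists_affine_refine (R := RV V) a z
      haveI := hj
      haveI : ∀ z, Flat (bm G (j z) gP (j z ≫ gP) rfl) := fun z =>
        MorphismProperty.of_isPullback (P := @Flat) (isPullback_bm rfl).flip inferInstance
      refine DescLib.eq_of_flat_family (fun z => bm G (j z) gP (j z ≫ gP) rfl) (fun x => ?_) fun z => ?_
      · obtain ⟨y, hy⟩ := hjz (pullback.snd G.hom gP x)
        obtain ⟨w, hw, -⟩ := Scheme.Pullback.exists_preimage_pullback (f := pullback.snd G.hom gP)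
          (g := j (pullback.snd G.hom gP x)) x y hy.symm
        refine ⟨_, (isPullback_bm (G := G) (rfl : j (pullback.snd G.hom gP x) ≫ gP = _)).isoPullback.inv w, ?_⟩
        rw [← Scheme.Hom.comp_apply, IsPullback.isoPullback_inv_fst]
        exact hw
      obtain ⟨τ, hτ⟩ : ∃ τ, Spec.map τ = j z ≫ b := ⟨_, Spec.map_preimage _⟩
      have hτR : Spec.map (CommRingCat.ofHom (algebraMap (RV V) c.O) ≫ τ) =
          Spec.map (CommRingCat.ofHom (algebraMap (RV V) (B z))) := by
        rw [← cancel_mono (βV V), Spec.map_comp, Category.assoc, hτ]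
        have h1 : j z ≫ b ≫ bb (βV V) c.O = bb (βV V) (B z) := by
          rw [← hab, ← Category.assoc, hjx, spec_bb]
        simpa [bb] using h1
      let σ' : c.O →ₐ[RV V] B z :=
        { τ.hom with commutes' := fun r => congr($(Spec.map_injective hτR) r) }
      have hjb : j z ≫ b = Spec.map (CommRingCat.ofHom σ'.toRingHom) := hτ.symm
      have hjg : j z ≫ gP = bb (βV V) (B z) := by
        show j z ≫ a ≫ _ = _
        rw [← Category.assoc, hjx, spec_bb]
      have h2 := c.comap_ZO_eq (σ z) σ' (by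
        rw [← hjx, ← hjb, Category.assoc, Category.assoc, pullback.condition])
      have h3 := congrArg (fun I => Scheme.IdealSheafData.comap I
        (bm G (𝟙 _) (bb (βV V) (B z)) (j z ≫ gP) (by rw [Category.id_comp, hjg]))) h2
      simp only [← Scheme.IdealSheafData.comap_comp] at h3 ⊢
      refine Eq.trans ?_ (h3.trans ?_)
      · congr 1
        apply pullback.hom_ext
        · simp [bm]
        · simp [bm, reassoc_of% hjx, hjx]
      · congr 1
        apply pullback.hom_ext
        · simp [bm]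
        · simp [bm, reassoc_of% hjb, hjb]
    let x := pullback.fst q q
    let y := pullback.snd q q
    let l : pullback q q ⟶ P := pullback.lift (x ≫ pullback.snd _ _) (y ≫ pullback.snd _ _) (by
      rw [Category.assoc, Category.assoc, ← bm_snd c.oQ_str, ← Category.assoc,
        pullback.condition, Category.assoc])
    let m : pullback q q ⟶ pullback G.hom gP := pullback.lift (x ≫ pullback.fst _ _) l (by
      rw [Category.assoc, pullback.condition, ← Category.assoc]
      show _ = l ≫ a ≫ _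
      rw [pullback.lift_fst_assoc])
    have hx : m ≫ bm G a _ gP rfl = x := by
      apply pullback.hom_ext
      · rw [Category.assoc, bm_fst, pullback.lift_fst]
      · rw [Category.assoc, bm_snd, pullback.lift_snd_assoc, pullback.lift_fst]
    have hy : m ≫ bm G b _ gP hab.symm = y := by
      apply pullback.hom_ext
      · rw [Category.assoc, bm_fst, pullback.lift_fst]
        have := congrArg (· ≫ pullback.fst G.hom c.str) (pullback.condition (f := q) (g := q))
        simpa [q, bm_fst] using this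
      · rw [Category.assoc, bm_snd, pullback.lift_snd_assoc, pullback.lift_snd]
    show c.ZO.comap x = c.ZO.comap y
    rw [← hx, ← hy, Scheme.IdealSheafData.comap_comp, Scheme.IdealSheafData.comap_comp, hkey])
  exact ⟨J, hJ PUnit.unit⟩

/-- The universal subgroup on the chart. -/
noncomputable def J : (pullback G.hom c.str).IdealSheafData := c.exists_J.choose

theorem isTriv_J : IsTriv G c.str c.J V c.oQ c.ψu := ⟨c.ψu_mult, c.ψu_srj, c.oQ_str, c.exists_J.choose_spec⟩

theorem isSub_J : IsSub G c.str c.J := fun t =>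
  ⟨V, c.O, inferInstance, inferInstance, c.oQ, c.M, c.iM, c.ψu, inferInstance, c.oQ.surjective t, c.fgM, c.isTriv_J⟩

/-- The universal family of the chart. -/
noncomputable def univ : Fam G c.Q := ⟨c.str, c.J, c.isSub_J⟩

/-- Points of the chart with the same family are equal. -/
theorem mono {T : Scheme.{u}} {v v' : T ⟶ c.Q} (h : Fam.pull v c.univ = Fam.pull v' c.univ) : v = v' := by
  refine hom_ext_etale fun t => ?_
  let X := pullback (pullback.fst v c.oQ) (pullback.fst v' c.oQ)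
  obtain ⟨z₁, hz₁⟩ := (pullback.fst v c.oQ).surjective t
  obtain ⟨z₂, hz₂⟩ := (pullback.fst v' c.oQ).surjective t
  obtain ⟨z, hz, -⟩ := Scheme.Pullback.exists_preimage_pullback (f := pullback.fst v c.oQ)
    (g := pullback.fst v' c.oQ) z₁ z₂ (hz₁.trans hz₂.symm)
  obtain ⟨B, _, _, σ, j, hj, ⟨z', hz'⟩, hjx⟩ := exists_affine_refine (R := RV V)
    (pullback.fst _ _ ≫ pullback.snd v c.oQ : X ⟶ Spec (CommRingCat.of c.O)) z
  let w : Spec (CommRingCat.of B) ⟶ T := j ≫ pullback.fst _ _ ≫ pullback.fst v c.oQ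
  have hwt : w z' = t := by
    rw [Scheme.Hom.comp_apply, Scheme.Hom.comp_apply, hz', hz, hz₁]
  haveI : Etale w := inferInstance
  have hwv : w ≫ v = Spec.map (CommRingCat.ofHom σ.toRingHom) ≫ c.oQ := by
    rw [← hjx]
    simp only [w, Category.assoc]
    rw [pullback.condition (f := v) (g := c.oQ)]
  -- the second lift
  let b : Spec (CommRingCat.of B) ⟶ Spec (CommRingCat.of c.O) := j ≫ pullback.snd _ _ ≫ pullback.snd v' c.oQ
  have hbv : w ≫ v' = b ≫ c.oQ := by
    simp only [w, b, Category.assoc]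
    rw [← pullback.condition (f := v') (g := c.oQ), pullback.condition_assoc]
  obtain ⟨τ, hτ⟩ : ∃ τ, Spec.map τ = b := ⟨_, Spec.map_preimage _⟩
  have hfst : v ≫ c.str = v' ≫ c.str := congrArg Sigma.fst h
  have hτR : Spec.map (CommRingCat.ofHom (algebraMap (RV V) c.O) ≫ τ) =
      Spec.map (CommRingCat.ofHom (algebraMap (RV V) B)) := by
    rw [← cancel_mono (βV V), Spec.map_comp, Category.assoc, hτ]
    show b ≫ bb (βV V) c.O = bb (βV V) B
    rw [← oQ_str, ← Category.assoc, ← hbv, Category.assoc, ← hfst, ← Category.assoc, hwv, Category.assoc, oQ_str,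
      spec_bb]
  let σ' : c.O →ₐ[RV V] B := { τ.hom with commutes' := fun r => congr($(Spec.map_injective hτR) r) }
  have hwv' : w ≫ v' = Spec.map (CommRingCat.ofHom σ'.toRingHom) ≫ c.oQ := hbv.trans (congrArg (· ≫ c.oQ) hτ.symm)
  have ht₁ : IsTriv G c.str c.J V (w ≫ v) ((push σ).comp c.ψu) := hwv ▸ c.isTriv_J.push σ
  have ht₂ : IsTriv G c.str c.J V (w ≫ v') ((push σ').comp c.ψu) := hwv' ▸ c.isTriv_J.push σ'
  have e₁ := ht₁.pull_base (hZ := c.isSub_J)
  have e₂ := ht₂.pull_base (hZ := c.isSub_J)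
  have heq : Fam.pull (w ≫ v) c.univ = Fam.pull (w ≫ v') c.univ := by rw [Fam.pull_comp w v, Fam.pull_comp w v', h]
  have hker : (pt (KV G V) B ((push σ).comp c.ψu)).left.ker = (pt (KV G V) B ((push σ').comp c.ψu)).left.ker := by
    change IsTriv G (Fam.pull (w ≫ v) c.univ).1 (Fam.pull (w ≫ v) c.univ).2.1 V (𝟙 _) _ at e₁
    rw [heq] at e₁
    obtain ⟨-, -, h1, k1⟩ := e₁
    obtain ⟨-, -, h2, k2⟩ := e₂
    rw [← k1, ← k2]
    rfl
  haveI := c.fgM
  obtain ⟨g, hg, e, he⟩ := exists_iso_of_ker_eq (KV G V) (c.ψu_mult.map σ) (c.ψu_mult.map σ')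
    (c.ψu_srj.map c.ψu_mult σ) (c.ψu_srj.map c.ψu_mult σ') hker (PrimeSpectrum.asIdeal z')
  let L : B →ₐ[RV V] Localization.Away g := IsScalarTower.toAlgHom (RV V) B _
  let l : Spec (CommRingCat.of (Localization.Away g)) ⟶ Spec (CommRingCat.of B) :=
    Spec.map (CommRingCat.ofHom L.toRingHom)
  haveI : IsOpenImmersion l := IsOpenImmersion.of_isLocalization g
  obtain ⟨z'', hz''⟩ : z' ∈ Set.range l := by
    show z' ∈ Set.range (PrimeSpectrum.comap (algebraMap B (Localization.Away g)))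
    rw [PrimeSpectrum.localization_away_comap_range (Localization.Away g) g]
    exact hg
  refine ⟨_, l ≫ w, inferInstance, ⟨z'', by rw [Scheme.Hom.comp_apply, hz'', hwt]⟩, ?_⟩
  obtain ⟨γ', hγ'⟩ := c.aut e
  have h1 := he _ L (IsLocalization.Away.algebraMap_isUnit g)
  have hlev : ∀ τ : c.O →ₐ[RV V] B, (reM c.q).comp ((push L).comp ((push τ).comp c.ψu)) =
      (push (L.comp (τ.comp c.loc))).comp c.F.φ := fun τ => by
    rw [← AlgHom.comp_assoc, ← push_reM, AlgHom.comp_assoc, ← AlgHom.comp_assoc (reM c.q), ← push_reM,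
      AlgHom.comp_assoc, ψu_spec, ← AlgHom.comp_assoc, ← AlgHom.comp_assoc, push_comp, push_comp]
    rfl
  have h2 : L.comp (σ'.comp c.loc) = (L.comp (σ.comp c.loc)).comp (c.F.twist γ') := by
    refine c.F.ext_φ ?_
    rw [← hlev, h1, ← AlgHom.comp_assoc, reM_comp,
      show c.q.comp e.toAddMonoidHom = γ'.toAddMonoidHom.comp c.q from AddMonoidHom.ext hγ', ← reM_comp,
      AlgHom.comp_assoc, hlev]
    conv_rhs => rw [← push_comp (c.F.twist γ') (L.comp (σ.comp c.loc)), AlgHom.comp_assoc, FinRep.twist_spec,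
      ← AlgHom.comp_assoc, push_reM, AlgHom.comp_assoc]
  rw [Category.assoc l w v, Category.assoc l w v', hwv, hwv', ← cancel_mono c.Qo.ι]
  simp only [Category.assoc, oQ_ι, o, l, ← Spec.map_comp]
  congr 1
  refine CommRingCat.hom_ext (RingHom.ext fun r => ?_)
  show L (σ (c.loc r)) = L (σ' (c.loc r))
  have h3 := DFunLike.congr_fun h2 (r : c.F.C)
  refine Eq.trans ?_ h3.symm
  show _ = L (σ (c.loc (c.F.twist γ' r)))
  have h4 : c.F.twist γ' (r : c.F.C) = r := r.2 (Multiplicative.ofAdd γ'.symm)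
  rw [h4]

/-- A point of the piece gives a point of the chart with that family. -/
theorem exists_pull_eq {T : Scheme.{u}} (e : Fam G T) {B : Type u} [CommRing B] [Algebra (RV V) B] {M' : Type}
    [AddCommGroup M'] {w : Spec (CommRingCat.of B) ⟶ T} {ψ' : AV G V →ₐ[RV V] MA M' B}
    (htr : IsTriv G e.1 e.2.1 V w ψ') (h : M' ≃+ c.M) (hP : c.P B ((reM h.toAddMonoidHom).comp ψ')) :
    ∃ v : Spec (CommRingCat.of B) ⟶ c.Q, Fam.pull v c.univ = Fam.pull w e := by
  have hm := htr.1
  have hs := htr.2.1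
  obtain ⟨σ, hσ⟩ := c.exists_classify (mult_reM hm _) (hs.reindex h.surjective) hP
  refine ⟨Spec.map (CommRingCat.ofHom σ.toRingHom) ≫ c.oQ, Fam.eq_of_triv
    ((c.isTriv_J.push σ).pull_base (hZ := c.isSub_J)) (IsTriv.pull_base (hZ := e.2.2) htr) ?_⟩
  rw [hσ, ker_reM]

/-- The points of the base of a family where it lies in the chart. -/
def InChart {T : Scheme.{u}} (e : Fam G T) (t : T) : Prop :=
  ∃ (K : Type u) (_ : Field K) (x : Spec (CommRingCat.of K) ⟶ T) (v : Spec (CommRingCat.of K) ⟶ c.Q),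
    t ∈ Set.range x ∧ Fam.pull v c.univ = Fam.pull x e

theorem inChart_mem {T : Scheme.{u}} {e : Fam G T} {t : T} (h : c.InChart e t) : e.1 t ∈ V.1 := by
  obtain ⟨K, _, x, v, ⟨k, hk⟩, hv⟩ := h
  have h1 : v ≫ c.str = x ≫ e.1 := congrArg Sigma.fst hv
  rw [← hk, ← Scheme.Hom.comp_apply, ← h1, Scheme.Hom.comp_apply, str, Scheme.Hom.comp_apply]
  exact bb_mem V _ _

/-- A point in the chart lies in a piece of a trivialisation where the condition holds. -/
theorem exists_iso_of_inChart {T : Scheme.{u}} {e : Fam G T} {B : Type u} [CommRing B] [Algebra (RV V) B] {M' : Type}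
    [AddCommGroup M'] [AddGroup.FG M'] {w : Spec (CommRingCat.of B) ⟶ T} {ψ' : AV G V →ₐ[RV V] MA M' B}
    (htr : IsTriv G e.1 e.2.1 V w ψ') (p : Spec (CommRingCat.of B)) (hp : c.InChart e (w p)) :
    ∃ h : M' ≃+ c.M, ∃ g : B, g ∉ p.asIdeal ∧ ∀ (B' : Type u) [CommRing B'] [Algebra (RV V) B'] (σ : B →ₐ[RV V] B'),
      IsUnit (σ g) → c.P B' ((push σ).comp ((reM h.toAddMonoidHom).comp ψ')) := by
  obtain ⟨K, _, x, v, ⟨k, hk⟩, hv⟩ := hp
  obtain ⟨z, hz₁, hz₂⟩ := Scheme.Pullback.exists_preimage_pullback (f := x) (g := w) k p hk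
  obtain ⟨z₂, hz₂'⟩ := (pullback.fst v c.oQ).surjective (pullback.fst x w z |> fun q => q)
  obtain ⟨y, hy, -⟩ := Scheme.Pullback.exists_preimage_pullback (f := pullback.fst x w) (g := pullback.fst v c.oQ) z z₂
    hz₂'.symm
  let Y := pullback (pullback.fst x w) (pullback.fst v c.oQ)
  let yw : Y ⟶ Spec (CommRingCat.of B) := pullback.fst _ _ ≫ pullback.snd x w
  let yo : Y ⟶ Spec (CommRingCat.of c.O) := pullback.snd _ _ ≫ pullback.snd v c.oQ
  let yk : Y ⟶ Spec (CommRingCat.of K) := pullback.fst _ _ ≫ pullback.fst x w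
  let iy := Y.fromSpecResidueField y
  obtain ⟨ρ, hρ⟩ : ∃ ρ, Spec.map ρ = iy ≫ yw := ⟨_, Spec.map_preimage _⟩
  letI : Algebra (RV V) (Y.residueField y) := (ρ.hom.comp (algebraMap (RV V) B)).toAlgebra
  let σw : B →ₐ[RV V] Y.residueField y := { ρ.hom with commutes' := fun r => rfl }
  obtain ⟨τ, hτ⟩ : ∃ τ, Spec.map τ = iy ≫ yo := ⟨_, Spec.map_preimage _⟩
  have hk1 : (iy ≫ yk) ≫ x = (iy ≫ yw) ≫ w := by
    simp only [yk, yw, Category.assoc]
    rw [pullback.condition (f := x) (g := w)]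
  have hk2 : (iy ≫ yk) ≫ v = (iy ≫ yo) ≫ c.oQ := by
    simp only [yk, yo, Category.assoc]
    rw [← pullback.condition (f := v) (g := c.oQ), pullback.condition_assoc]
  have hbase : (iy ≫ yo) ≫ bb (βV V) c.O = bb (βV V) (Y.residueField y) := by
    rw [← oQ_str, ← Category.assoc, ← hk2, Category.assoc, show v ≫ c.str = x ≫ e.1 from congrArg Sigma.fst hv,
      ← Category.assoc, hk1, Category.assoc, htr.2.2.1, ← hρ]
    exact spec_bb (βV V) σw
  have hτR : Spec.map (CommRingCat.ofHom (algebraMap (RV V) c.O) ≫ τ) =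
      Spec.map (CommRingCat.ofHom (algebraMap (RV V) (Y.residueField y))) := by
    rw [← cancel_mono (βV V), Spec.map_comp, Category.assoc, hτ]
    exact hbase
  let σo : c.O →ₐ[RV V] Y.residueField y :=
    { τ.hom with commutes' := fun r => congr($(Spec.map_injective hτR) r) }
  have t₁ := (c.isTriv_J.push σo).pull_base (hZ := c.isSub_J)
  have t₂ := (htr.push σw).pull_base (hZ := e.2.2)
  have heq : Fam.pull (Spec.map (CommRingCat.ofHom σo.toRingHom) ≫ c.oQ) c.univ =
      Fam.pull (Spec.map (CommRingCat.ofHom σw.toRingHom) ≫ w) e := by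
    rw [show Spec.map (CommRingCat.ofHom σo.toRingHom) = iy ≫ yo from hτ,
      show Spec.map (CommRingCat.ofHom σw.toRingHom) = iy ≫ yw from hρ, ← hk2, ← hk1, Fam.pull_comp, hv,
      ← Fam.pull_comp]
  change IsTriv G (Fam.pull (Spec.map (CommRingCat.ofHom σo.toRingHom) ≫ c.oQ) c.univ).1
    (Fam.pull (Spec.map (CommRingCat.ofHom σo.toRingHom) ≫ c.oQ) c.univ).2.1 V (𝟙 _) _ at t₁
  rw [heq] at t₁
  have hker : (pt (KV G V) (Y.residueField y) ((push σw).comp ψ')).left.ker = (pt (KV G V) (Y.residueField y) ((push σo).comp c.ψu)).left.ker := by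
    obtain ⟨-, -, h1, k1⟩ := t₁
    obtain ⟨-, -, h2, k2⟩ := t₂
    rw [← k1, ← k2]
  obtain ⟨g', hg', h, hh⟩ := exists_iso_of_ker_eq (KV G V) (htr.1.map σw) (c.ψu_mult.map σo)
    (htr.2.1.map htr.1 σw) (c.ψu_srj.map c.ψu_mult σo) hker ⊥
  have h1 := hh _ (AlgHom.id _ _) (isUnit_iff_ne_zero.mpr fun e0 => hg' (by
    rw [Submodule.mem_bot]; exact e0))
  simp only [P_map.push_id_comp] at h1
  have hPu := c.P_map c.ψu_mult c.ψu_srj c.ψu_P σo
  rw [h1, ← AlgHom.comp_assoc, ← push_reM, AlgHom.comp_assoc] at hPu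
  obtain ⟨g, hg⟩ := c.locus B ((reM h.toAddMonoidHom).comp ψ') (mult_reM htr.1 _) (htr.2.1.reindex h.surjective)
  refine ⟨h, g, fun hmem => ?_, fun B' _ _ σ hu => (hg B' σ).mpr hu⟩
  have hu : IsUnit (σw g) := (hg _ σw).mp hPu
  have hp' : (Spec.map ρ) (IsLocalRing.closedPoint (Y.residueField y)) = p := by
    rw [hρ, Scheme.Hom.comp_apply, Scheme.fromSpecResidueField_apply, Scheme.Hom.comp_apply, hy, hz₂]
  rw [← hp'] at hmem
  exact (IsLocalRing.mem_maximalIdeal _).mp hmem hu

/-- The open piece of the base of a family lying in the chart, and the map to the chart there. -/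
theorem exists_loc {T : Scheme.{u}} (e : Fam G T) :
    ∃ (Ω : T.Opens) (ι₀ : (Ω : Scheme.{u}) ⟶ c.Q), (∀ t, c.InChart e t → t ∈ Ω) ∧
      Fam.pull ι₀ c.univ = Fam.pull Ω.ι e := by
  have hloc : ∀ t : {t : T // c.InChart e t}, ∃ (B : Type u) (_ : CommRing B) (w : Spec (CommRingCat.of B) ⟶ T)
      (v : Spec (CommRingCat.of B) ⟶ c.Q), Etale w ∧ t.1 ∈ Set.range w ∧ Fam.pull v c.univ = Fam.pull w e := by
    rintro ⟨t, ht⟩
    obtain ⟨B, _, _, w, M', _, ψ', hw, ⟨p, hp⟩, hM, htr⟩ := exists_triv e.2.2 V t (c.inChart_mem ht)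
    haveI := hM
    obtain ⟨h, g, hg, hP⟩ := c.exists_iso_of_inChart (e := e) htr p (hp.symm ▸ ht)
    let L : B →ₐ[RV V] Localization.Away g := IsScalarTower.toAlgHom (RV V) B _
    let l : Spec (CommRingCat.of (Localization.Away g)) ⟶ Spec (CommRingCat.of B) :=
      Spec.map (CommRingCat.ofHom L.toRingHom)
    haveI : IsOpenImmersion l := IsOpenImmersion.of_isLocalization g
    obtain ⟨p', hp'⟩ : p ∈ Set.range l := by
      show p ∈ Set.range (PrimeSpectrum.comap (algebraMap B (Localization.Away g)))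
      rw [PrimeSpectrum.localization_away_comap_range (Localization.Away g) g]
      exact hg
    obtain ⟨v, hv⟩ := c.exists_pull_eq e (htr.push L) h (by
      rw [← AlgHom.comp_assoc, ← push_reM, AlgHom.comp_assoc]
      exact hP _ L (IsLocalization.Away.algebraMap_isUnit g))
    exact ⟨_, inferInstance, l ≫ w, v, inferInstance, ⟨p', by rw [Scheme.Hom.comp_apply, hp', hp]⟩, hv⟩
  choose B iB w v hw hwt hv using hloc
  haveI : ∀ t, Etale (w t) := hw
  let Ω : T.Opens := ⟨⋃ t, Set.range (w t), isOpen_iUnion fun t => (w t).isOpenMap.isOpen_range⟩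
  let w' : ∀ t, Spec (CommRingCat.of (B t)) ⟶ Ω.toScheme := fun t => IsOpenImmersion.lift Ω.ι (w t) (by
    rw [Scheme.Opens.range_ι]
    exact Set.subset_iUnion (fun t => Set.range (w t)) t)
  have hw' : ∀ t, w' t ≫ Ω.ι = w t := fun t => IsOpenImmersion.lift_fac _ _ _
  haveI : ∀ t, Etale (w' t) := fun t => by
    haveI : Etale (w' t ≫ Ω.ι) := by rw [hw']; infer_instance
    exact Etale.of_comp (w' t) Ω.ι
  have hsurj : ∀ z : Ω.toScheme, ∃ t, z ∈ Set.range (w' t) := fun z => by
    obtain ⟨t, y, hy⟩ := Set.mem_iUnion.mp z.2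
    refine ⟨t, y, Ω.ι.isOpenEmbedding.injective ?_⟩
    rw [← Scheme.Hom.comp_apply, hw']
    exact hy
  have hagree : ∀ (U : Scheme.{u}) (t t' : {t : T // c.InChart e t}) (a : U ⟶ _) (a' : U ⟶ _),
      a ≫ w' t = a' ≫ w' t' → a ≫ v t = a' ≫ v t' := fun U t t' a a' h => c.mono (by
    have h1 := congrArg (· ≫ Ω.ι) h
    simp only [Category.assoc, hw'] at h1
    rw [Fam.pull_comp, hv, ← Fam.pull_comp, h1, Fam.pull_comp, ← hv, ← Fam.pull_comp])
  obtain ⟨ι₀, hι₀, -⟩ := (covers_sigma w' hsurj).desc (Sigma.desc v) fun U a a' h => by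
    refine hom_ext_etale fun u => ?_
    obtain ⟨k, x, hx⟩ := (sigmaOpenCover fun t => Spec (CommRingCat.of (B t))).exists_eq (a u)
    obtain ⟨k', x', hx'⟩ := (sigmaOpenCover fun t => Spec (CommRingCat.of (B t))).exists_eq (a' u)
    let fk := Sigma.ι (fun t => Spec (CommRingCat.of (B t))) k
    let fk' := Sigma.ι (fun t => Spec (CommRingCat.of (B t))) k'
    let U₁ : U.Opens := a ⁻¹ᵁ fk.opensRange ⊓ a' ⁻¹ᵁ fk'.opensRange
    have ha : Set.range (U₁.ι ≫ a) ⊆ Set.range fk := by
      rintro _ ⟨z, rfl⟩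
      exact z.2.1
    have ha' : Set.range (U₁.ι ≫ a') ⊆ Set.range fk' := by
      rintro _ ⟨z, rfl⟩
      exact z.2.2
    refine ⟨_, U₁.ι, inferInstance, ⟨⟨u, ⟨x, hx⟩, ⟨x', hx'⟩⟩, rfl⟩, ?_⟩
    rw [← Category.assoc, ← Category.assoc, ← IsOpenImmersion.lift_fac fk _ ha,
      ← IsOpenImmersion.lift_fac fk' _ ha', Category.assoc, Category.assoc, Sigma.ι_desc, Sigma.ι_desc]
    refine hagree _ _ _ _ _ ?_
    have h2 := congrArg (U₁.ι ≫ ·) h
    simp only [← Category.assoc] at h2
    rw [← IsOpenImmersion.lift_fac fk _ ha, ← IsOpenImmersion.lift_fac fk' _ ha', Category.assoc, Category.assoc,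
      Sigma.ι_desc, Sigma.ι_desc] at h2
    exact h2
  refine ⟨Ω, ι₀, fun t ht => Set.mem_iUnion.mpr ⟨⟨t, ht⟩, hwt _⟩, Fam.ext_etale fun z => ?_⟩
  obtain ⟨t, ht⟩ := hsurj z
  refine ⟨_, w' t, inferInstance, ht, ?_⟩
  rw [← Fam.pull_comp, ← Fam.pull_comp, hw', ← hv]
  have := congrArg (Sigma.ι (fun t => Spec (CommRingCat.of (B t))) t ≫ ·) hι₀
  simp only [Sigma.ι_desc, Sigma.ι_desc_assoc] at this
  rw [this]

/-- The classifying map. -/
noncomputable def nat : yoneda.obj c.Q ⟶ functor G := yonedaEquiv.symm c.univ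

theorem nat_app (T : Scheme.{u}) (v : T ⟶ c.Q) : c.nat.app (op T) v = Fam.pull v c.univ := rfl

/-- The chart is an open subfunctor. -/
theorem isOpenImmersion_nat : IsOpenImmersion.presheaf c.nat := by
  refine MorphismProperty.relative.of_exists fun T t => ?_
  let e : Fam G T := yonedaEquiv t
  have ht : ∀ (W : Scheme.{u}) (h : W ⟶ T), t.app (op W) h = Fam.pull h e := fun W h =>
    (congrArg (fun t => t.app (op W) h) (yonedaEquiv.symm_apply_apply t)).symm
  obtain ⟨Ω, ι₀, hmem, hι₀⟩ := c.exists_loc e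
  refine ⟨Ω, yoneda.map ι₀, Ω.ι, ?_, inferInstance⟩
  refine IsPullback.of_forall_isPullback_app fun W => (Types.isPullback_iff _ _ _ _).2 ⟨?_, ?_, ?_⟩
  · refine ConcreteCategory.hom_ext _ _ fun l => ?_
    show c.nat.app W (l ≫ ι₀) = t.app W (l ≫ Ω.ι)
    rw [ht, Fam.pull_comp]
    show Fam.pull (l ≫ ι₀) c.univ = _
    rw [Fam.pull_comp, hι₀]
  · rintro l l' ⟨-, h⟩
    exact (cancel_mono Ω.ι).1 h
  · intro (a₀ : W.unop ⟶ c.Q) (h : W.unop ⟶ T) hιh
    have hιh' : Fam.pull a₀ c.univ = Fam.pull h e := hιh.trans (ht _ h)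
    have hrange : Set.range h ⊆ Set.range Ω.ι := by
      rw [Scheme.Opens.range_ι]
      rintro _ ⟨z, rfl⟩
      refine hmem _ ⟨W.unop.residueField z, inferInstance, W.unop.fromSpecResidueField z ≫ h,
        W.unop.fromSpecResidueField z ≫ a₀, ⟨IsLocalRing.closedPoint _, ?_⟩, ?_⟩
      · rw [Scheme.Hom.comp_apply]
        exact congrArg (fun q => h q) (Scheme.fromSpecResidueField_apply z _)
      · rw [Fam.pull_comp, hιh', ← Fam.pull_comp]
    refine ⟨IsOpenImmersion.lift Ω.ι h hrange, ?_, IsOpenImmersion.lift_fac _ _ _⟩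
    show IsOpenImmersion.lift Ω.ι h hrange ≫ ι₀ = a₀
    refine c.mono ?_
    rw [Fam.pull_comp, hι₀, ← Fam.pull_comp, IsOpenImmersion.lift_fac, hιh']

end Chart

end Groth.Agent.Deform.SubMT
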