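import Groth.Agent.Deform.SubMT.Rep
import Mathlib.GroupTheory.FiniteAbelian.Basic
import Mathlib.GroupTheory.Torsion

/-!
# Construction of the charts

For a finite group of characters the chart is everything. For a smooth group the chart of a type `M`, a bound `F` on the
supports and generators with invertible coefficients is controlled at a level `M / n M` on which a bounded set injects.
-/

set_option autoImplicit false
set_option linter.style.haveILetI false
set_option backward.isDefEq.respectTransparency false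
set_option backward.isDefEq.respectTransparency.types false
set_option maxHeartbeats 600000

universe u

open CategoryTheory CategoryTheory.Limits AlgebraicGeometry TopologicalSpace Opposite
open TensorProduct

namespace Groth.Agent.Deform.SubMT

open HomMT

/-- A finite subset of a finitely generated commutative group injects into a finite quotient by multiples. -/
theorem exists_injOn_quot {M : Type} [AddCommGroup M] [AddGroup.FG M] (E : Finset M) :
    ∃ n : ℕ, 0 < n ∧ ∀ x ∈ E, ∀ y ∈ E, x - y ∈ (nsmulAddMonoidHom n : M →+ M).range → x = y := by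
  classical
  obtain ⟨r, κ, fκ, p, hp, e, ⟨f⟩⟩ := AddCommGroup.equiv_free_prod_directSum_zmod (G := M)
  letI := fκ
  haveI : ∀ i, NeZero (p i ^ e i) := fun i => ⟨pow_ne_zero _ (hp i).ne_zero⟩
  let T := DirectSum κ fun i => ZMod (p i ^ e i)
  let W : Type := Π i : κ, ZMod (p i ^ e i)
  let c := ∏ i, p i ^ e i
  have hc : 0 < c := Finset.prod_pos fun i _ => pow_pos (hp i).pos _
  have hT : ∀ (n : ℕ) (t : T), c ∣ n → n • t = 0 := fun n t hn => by
    refine DFinsupp.ext fun i => ?_
    rw [DFinsupp.smul_apply, DFinsupp.zero_apply, nsmul_eq_mul,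
      (ZMod.natCast_eq_zero_iff n _).mpr ((Finset.dvd_prod_of_mem (fun i => p i ^ e i) (Finset.mem_univ i)).trans hn),
      zero_mul]
  let B := ∑ x ∈ E, ∑ y ∈ E, ∑ i, ((f (x - y)).1 i).natAbs
  refine ⟨c * (B + 1), Nat.mul_pos hc (Nat.succ_pos _), fun x hx y hy ⟨z, hz⟩ => ?_⟩
  have h : f (x - y) = (c * (B + 1)) • f z := by
    rw [← hz, nsmulAddMonoidHom_apply, map_nsmul]
  have h2 : (f (x - y)).2 = 0 := by
    rw [h, Prod.smul_snd]
    exact hT _ _ (dvd_mul_right _ _)
  have h1 : (f (x - y)).1 = 0 := Finsupp.ext fun i => by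
    by_contra hne
    have hdvd : ((c * (B + 1) : ℕ) : ℤ) ∣ (f (x - y)).1 i := ⟨(f z).1 i, by
      rw [h, Prod.smul_fst, Finsupp.smul_apply, nsmul_eq_mul]⟩
    have hle : ((f (x - y)).1 i).natAbs ≤ B :=
      le_trans (le_trans (Finset.single_le_sum (f := fun j => ((f (x - y)).1 j).natAbs) (fun j _ => Nat.zero_le _)
        (Finset.mem_univ i))
        (Finset.single_le_sum (f := fun y => ∑ j, ((f (x - y)).1 j).natAbs) (fun j _ => Nat.zero_le _) hy))
        (Finset.single_le_sum (f := fun x => ∑ y ∈ E, ∑ j, ((f (x - y)).1 j).natAbs) (fun j _ => Nat.zero_le _) hx)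
    have := Nat.le_of_dvd (Int.natAbs_pos.mpr hne) (Int.natCast_dvd.mp hdvd)
    nlinarith [hc]
  exact sub_eq_zero.mp (f.injective ((Prod.ext h1 h2).trans (map_zero f).symm))

theorem finite_quot_nsmul {M : Type} [AddCommGroup M] [AddGroup.FG M] {n : ℕ} (hn : 0 < n) :
    Finite (M ⧸ (nsmulAddMonoidHom n : M →+ M).range) := by
  haveI : Module.Finite ℤ M := Module.Finite.iff_addGroup_fg.mpr ‹_›
  let π : M →ₗ[ℤ] M ⧸ (nsmulAddMonoidHom n : M →+ M).range :=
    (QuotientAddGroup.mk' (nsmulAddMonoidHom n : M →+ M).range).toIntLinearMap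
  haveI : Module.Finite ℤ (M ⧸ (nsmulAddMonoidHom n : M →+ M).range) :=
    Module.Finite.of_surjective π (QuotientAddGroup.mk'_surjective _)
  haveI : AddGroup.FG (M ⧸ (nsmulAddMonoidHom n : M →+ M).range) := Module.Finite.iff_addGroup_fg.mp inferInstance
  refine AddCommGroup.finite_of_fg_isAddTorsion _ fun x => isOfFinAddOrder_iff_nsmul_eq_zero.mpr ⟨n, hn, ?_⟩
  obtain ⟨m, rfl⟩ := QuotientAddGroup.mk'_surjective _ x
  rw [← map_nsmul, QuotientAddGroup.mk'_apply, QuotientAddGroup.eq_zero_iff]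
  exact ⟨m, rfl⟩

/-- Automorphisms descend to the quotient by multiples. -/
theorem exists_aut_quot {M : Type} [AddCommGroup M] (n : ℕ) (h : M ≃+ M) :
    ∃ a : (M ⧸ (nsmulAddMonoidHom n : M →+ M).range) ≃+ (M ⧸ (nsmulAddMonoidHom n : M →+ M).range),
      ∀ m, QuotientAddGroup.mk' _ (h m) = a (QuotientAddGroup.mk' _ m) := by
  refine ⟨QuotientAddGroup.congr _ _ h ?_, fun m => rfl⟩
  ext x
  simp only [AddSubgroup.mem_map, AddMonoidHom.mem_range, nsmulAddMonoidHom_apply, AddMonoidHom.coe_coe]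
  constructor
  · rintro ⟨_, ⟨y, rfl⟩, rfl⟩
    exact ⟨h y, (map_nsmul h n y).symm⟩
  · rintro ⟨y, rfl⟩
    exact ⟨n • h.symm y, ⟨h.symm y, rfl⟩, by rw [map_nsmul, AddEquiv.apply_symm_apply]⟩

variable {S : Scheme.{u}} {G : Over S} [GrpObj G] [IsAffineHom G.hom]

/-- The chart of a finite type. -/
theorem exists_chart_finite (V : S.affineOpens) [LocallyOfFinitePresentation G.hom] (M : Type) [AddCommGroup M]
    [Finite M] : ∃ c : Chart G V, ∃ e : c.M ≃+ M, (∀ (B : Type u) [CommRing B] [Algebra (RV V) B] ψ, c.P B ψ) ∧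
      c.g0 = 1 := by
  haveI := fp_AV (G := G) V
  obtain ⟨F⟩ := nonempty_finRep (R := RV V) (A := AV G V) (N := M)
  have hid : ∀ (B : Type u) [CommRing B] [Algebra (RV V) B] (ψ : AV G V →ₐ[RV V] MA M B),
      (reM (AddMonoidHom.id M)).comp ψ = ψ := fun B _ _ ψ => AlgHom.ext fun x => by
    ext k
    exact coeff_mapDomain_of_injective _ (fun _ _ h => h) _ k
  refine ⟨{ M := M
            fgM := ⟨Set.finite_univ.toFinset, by rw [Set.Finite.coe_toFinset]; exact AddSubgroup.closure_univ⟩
            N := M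
            q := AddMonoidHom.id M
            surj := Function.surjective_id
            aut := fun h => ⟨h, fun _ => rfl⟩
            F := F
            P := fun _ _ _ _ => True
            locus := fun B _ _ ψ _ _ => ⟨1, fun B' _ _ σ => by simp⟩
            g0 := 1
            unit := fun B _ _ ψ σ _ _ _ _ => by simp
            lift := fun B _ _ σ _ => ⟨(push σ).comp F.φ, F.mult.map σ, F.srj.map F.mult σ, trivial, hid B _⟩
            sep := fun B _ _ _ ψ ψ' a _ _ _ _ _ _ h => ⟨a, by rwa [hid, hid] at h⟩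
            inj := fun B _ _ ψ ψ' _ _ _ _ _ _ h => by rwa [hid, hid] at h }, AddEquiv.refl M,
    fun B _ _ ψ => trivial, rfl⟩

section Smooth

variable (V : S.affineOpens) (D : Stable (RV V) (AV G V))

/-- The condition of the chart. -/
def Cond {M : Type} [AddCommGroup M] {k : ℕ} (m : Fin k → M) (x : Fin k → AV G V) (F : Finset M) (B : Type u)
    [CommRing B] [Algebra (RV V) B] (ψ : AV G V →ₐ[RV V] MA M B) : Prop :=
  Good D F ψ ∧ ∀ i, IsUnit (coef ψ (m i) (x i))

theorem exists_bound_const [Algebra.FinitePresentation (RV V) (AV G V)] {M : Type} [AddCommGroup M] {k : ℕ}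
    (x : Fin k → AV G V) (F : Finset M) : ∃ E : Fin k → Finset M, ∀ (i : Fin k) (B : Type u) [CommRing B]
      [Algebra (RV V) B] (ψ : AV G V →ₐ[RV V] MA M B), Mult ψ → Good D F ψ → SuppIn (E i) (ψ (x i)) := by
  choose E hE using fun i => exists_bound D F (x i)
  exact ⟨E, fun i B _ _ ψ hm hg => hE i B ψ fun j => suppIn_v D hm hg j⟩

set_option maxHeartbeats 1200000 in
/-- The chart of a type, a bound and generators. -/
theorem exists_chart_smooth [Algebra.FinitePresentation (RV V) (AV G V)] (M : Type) [AddCommGroup M] [AddGroup.FG M]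
    {k : ℕ} (m : Fin k → M) (hm : AddSubmonoid.closure (Set.range m) = ⊤) (x : Fin k → AV G V) (F : Finset M) :
    ∃ c : Chart G V, ∃ e : c.M ≃+ M, ∀ (B : Type u) [CommRing B] [Algebra (RV V) B] (ψ : AV G V →ₐ[RV V] MA M B),
      Cond V D m x F B ψ → c.P B ((reM e.symm.toAddMonoidHom).comp ψ) := by
  classical
  obtain ⟨E0, hFE0, hre⟩ := exists_reindex D F
  obtain ⟨Ex, hEx⟩ := exists_bound_const V D x F
  let L : (Fin k → ℤ) →ₗ[ℤ] M := Fintype.linearCombination ℤ m
  have hL : Function.Surjective L := fun y => by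
    have hy : y ∈ AddSubmonoid.closure (Set.range m) := hm ▸ AddSubmonoid.mem_top y
    induction hy using AddSubmonoid.closure_induction with
    | mem z hz =>
      obtain ⟨i, rfl⟩ := hz
      exact ⟨Pi.single i 1, by simp [L, Fintype.linearCombination_apply_single]⟩
    | zero => exact ⟨0, map_zero _⟩
    | add a b _ _ ha hb =>
      obtain ⟨p, rfl⟩ := ha
      obtain ⟨q, rfl⟩ := hb
      exact ⟨p + q, map_add _ _ _⟩
  obtain ⟨rels, hrels⟩ := IsNoetherian.noetherian (LinearMap.ker L)
  let expr : M → (Fin k → ℤ) := fun y => (hL y).choose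
  have hexpr : ∀ y, L (expr y) = y := fun y => (hL y).choose_spec
  let Ys : Finset M := F ∪ Finset.univ.biUnion Ex ∪ Finset.univ.image m
  let combos : Finset (Fin k → ℤ) := rels ∪ Ys.image expr
  let E1 : Finset M := combos.biUnion fun cc => (Fintype.piFinset Ex).image fun f => ∑ i, cc i • f i
  let E : Finset M := E0 ∪ Ys ∪ E1 ∪ {0}
  obtain ⟨n, hn, hinj⟩ := exists_injOn_quot E
  let q : M →+ M ⧸ (nsmulAddMonoidHom n : M →+ M).range := QuotientAddGroup.mk' _
  have hqE : Set.InjOn q E := fun a ha b hb h => hinj a ha b hb (by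
    rw [← QuotientAddGroup.eq_zero_iff]
    show q (a - b) = 0
    rw [map_sub, h, sub_self])
  have hE0 : E0 ⊆ E := fun a ha => by simp [E, ha]
  have hYs : Ys ⊆ E := fun a ha => by simp [E, ha]
  have hE1 : E1 ⊆ E := fun a ha => by simp [E, ha]
  have hzero : (0 : M) ∈ E := by simp [E]
  have hmY : ∀ i, m i ∈ Ys := fun i => by simp [Ys]
  have hExY : ∀ i, ∀ a ∈ Ex i, a ∈ Ys := fun i a ha => by
    simp only [Ys, Finset.mem_union, Finset.mem_biUnion]
    exact Or.inl (Or.inr ⟨i, Finset.mem_univ _, ha⟩)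
  haveI := finite_quot_nsmul (M := M) hn
  obtain ⟨Fr⟩ := nonempty_finRep (R := RV V) (A := AV G V) (N := M ⧸ (nsmulAddMonoidHom n : M →+ M).range)
  -- coefficients at the generators
  have hcoef : ∀ (B : Type u) [CommRing B] [Algebra (RV V) B] (ψ : AV G V →ₐ[RV V] MA M B), Mult ψ → Good D F ψ →
      ∀ i, ∀ a ∈ Ys, coef ((reM q).comp ψ) (q a) (x i) = coef ψ a (x i) := fun B _ _ ψ h1 h2 i a ha =>
    coeff_reM (R := RV V) ((hEx i B ψ h1 h2).mono (fun b hb => hYs (hExY i b hb))) hqE (hYs ha)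
  -- values on the bounded set determine compatible maps
  have hval : ∀ (B : Type u) [CommRing B] [Algebra (RV V) B] (ψ ψ' : AV G V →ₐ[RV V] MA M B),
      (∀ j, SuppIn E (ψ (D.v j))) → (∀ j, SuppIn E (ψ' (D.v j))) → (reM q).comp ψ' = (reM q).comp ψ → ψ' = ψ :=
    fun B _ _ ψ ψ' h1 h2 h => ext_v D fun j => eq_of_reM (R := RV V) (h2 j) (h1 j) hqE (DFunLike.congr_fun h (D.v j))
  have hsupp : ∀ (B : Type u) [CommRing B] [Algebra (RV V) B] (ψ : AV G V →ₐ[RV V] MA M B), Mult ψ → Good D F ψ →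
      ∀ j, SuppIn E (ψ (D.v j)) := fun B _ _ ψ h1 h2 j =>
    (suppIn_v D h1 h2 j).mono fun a ha => hYs (by simp [Ys, ha])
  let g0 : Fr.C := goodProd D (F.image q) Fr.φ * ∏ i, coef Fr.φ (q (m i)) (x i)
  refine ⟨{ M := M
            fgM := ‹_›
            N := M ⧸ (nsmulAddMonoidHom n : M →+ M).range
            q := q
            surj := QuotientAddGroup.mk'_surjective _
            aut := exists_aut_quot n
            F := Fr
            P := Cond V D m x F
            locus := ?locus
            g0 := g0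
            unit := ?unit
            lift := ?lift
            sep := ?sep
            inj := fun B _ _ ψ ψ' h1 _ hP h1' _ hP' h =>
              hval B ψ ψ' (hsupp B ψ h1 hP.1) (hsupp B ψ' h1' hP'.1) h }, AddEquiv.refl M, fun B _ _ ψ h => ?last⟩
  case locus =>
    intro B _ _ ψ _ _
    refine ⟨goodProd D F ψ * ∏ i, coef ψ (m i) (x i), fun B' _ _ σ => ?_⟩
    rw [Cond, good_map_iff, map_mul, IsUnit.mul_iff, map_prod, IsUnit.prod_iff]
    simp only [coef_push, Finset.mem_univ, true_implies]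
  case unit =>
    intro B _ _ ψ σ h1 _ hP h
    rw [map_mul, IsUnit.mul_iff, map_prod, IsUnit.prod_iff, ← good_map_iff]
    refine ⟨by convert h ▸ (hre q (hqE.mono hE0) B).1 ψ h1 hP.1, fun i _ => ?_⟩
    rw [← coef_push, h, hcoef B ψ h1 hP.1 i (m i) (hmY i)]
    exact hP.2 i
  case lift =>
    intro B _ _ σ hu
    rw [map_mul, IsUnit.mul_iff, map_prod, IsUnit.prod_iff, ← good_map_iff] at hu
    obtain ⟨ψ, h1, h2, h3⟩ := (hre q (hqE.mono hE0) B).2 _ (Fr.mult.map σ) (by convert hu.1)
    have hc : ∀ i, IsUnit (coef ψ (m i) (x i)) := fun i => by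
      rw [← hcoef B ψ h1 h2 i (m i) (hmY i), h3, coef_push]
      exact hu.2 i (Finset.mem_univ i)
    refine ⟨ψ, h1, srj_of_gens h1 _ hm ?_, ⟨h2, hc⟩, h3⟩
    rintro _ ⟨i, rfl⟩
    exact Ideal.eq_top_of_isUnit_mem _ (Ideal.subset_span ⟨x i, rfl⟩) (hc i)
  case sep =>
    intro B _ _ _ ψ ψ' a h1 _ hP h1' _ hP' h
    -- images of the generators
    have key : ∀ (φ φ' : AV G V →ₐ[RV V] MA M B) (a : _ ≃+ _), Mult φ → Good D F φ → (∀ i, IsUnit (coef φ (m i) (x i))) →
        Mult φ' → Good D F φ' → (reM q).comp φ' = (reM a.toAddMonoidHom).comp ((reM q).comp φ) →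
        ∀ i, ∃ y ∈ Ex i, q y = a (q (m i)) := by
      intro φ φ' a h1 h2 h3 h1' h2' h i
      by_contra! hall
      have h0 : coef ((reM q).comp φ') (a (q (m i))) (x i) = 0 :=
        coeff_reM_of_notMem (R := RV V) (hEx i B φ' h1' h2') hall
      have h4 : coef ((reM a.toAddMonoidHom).comp ((reM q).comp φ)) (a (q (m i))) (x i) =
          coef ((reM q).comp φ) (q (m i)) (x i) :=
        coeff_mapDomain_of_injective _ (fun _ _ e => Multiplicative.toAdd.injective (a.injective (congrArg Multiplicative.toAdd e))) _ _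
      rw [h, h4, hcoef B φ h1 h2 i (m i) (hmY i)] at h0
      exact (h3 i).ne_zero h0
    have h' : (reM q).comp ψ = (reM a.symm.toAddMonoidHom).comp ((reM q).comp ψ') := by
      rw [h, ← AlgHom.comp_assoc, reM_comp, show a.symm.toAddMonoidHom.comp a.toAddMonoidHom = AddMonoidHom.id _ by
        ext; simp]
      refine AlgHom.ext fun z => ?_
      ext w
      exact (coeff_mapDomain_of_injective _ (fun _ _ e => e) _ w).symm
    choose f hf hfq using key ψ ψ' a h1 hP.1 hP.2 h1' hP'.1 h
    choose f' hf' hfq' using key ψ' ψ a.symm h1' hP'.1 hP'.2 h1 hP.1 h'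
    -- extension to homomorphisms
    have ext : ∀ (b : M ⧸ (nsmulAddMonoidHom n : M →+ M).range ≃+ M ⧸ (nsmulAddMonoidHom n : M →+ M).range)
        (f : Fin k → M), (∀ i, f i ∈ Ex i) → (∀ i, q (f i) = b (q (m i))) →
        ∃ φ : M →+ M, (∀ i, φ (m i) = f i) ∧ (∀ y ∈ Ys, φ y ∈ E) ∧ ∀ y, q (φ y) = b (q y) := by
      intro b f hf hfq
      let Lf : (Fin k → ℤ) →ₗ[ℤ] M := Fintype.linearCombination ℤ f
      have hbound : ∀ cc ∈ combos, Lf cc ∈ E := fun cc hcc => hE1 (Finset.mem_biUnion.mpr ⟨cc, hcc,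
        Finset.mem_image.mpr ⟨f, Fintype.mem_piFinset.mpr hf, (Fintype.linearCombination_apply ℤ f cc).symm⟩⟩)
      have hqL : ∀ cc, q (Lf cc) = b (q (L cc)) := fun cc => by
        simp only [Lf, L, Fintype.linearCombination_apply, map_sum, map_zsmul, hfq]
      have hker : LinearMap.ker L ≤ LinearMap.ker Lf := by
        rw [← hrels, Submodule.span_le]
        intro cc hcc
        have hcc0 : L cc = 0 := (hrels ▸ Submodule.subset_span hcc : cc ∈ LinearMap.ker L)
        exact hqE (hbound cc (Finset.mem_union_left _ hcc)) hzero (by rw [hqL, hcc0, map_zero, map_zero])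
      let φ : M →ₗ[ℤ] M := ((LinearMap.ker L).liftQ Lf hker).comp
        (L.quotKerEquivOfSurjective hL).symm.toLinearMap
      have hφ : ∀ cc, φ (L cc) = Lf cc := fun cc => by
        show (LinearMap.ker L).liftQ Lf hker ((L.quotKerEquivOfSurjective hL).symm (L cc)) = _
        rw [show (L.quotKerEquivOfSurjective hL).symm (L cc) = Submodule.Quotient.mk cc from
          (LinearEquiv.symm_apply_eq _).mpr rfl]
        rfl
      refine ⟨φ.toAddMonoidHom, fun i => ?_, fun y hy => ?_, fun y => ?_⟩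
      · show φ (m i) = f i
        rw [show m i = L (Pi.single i 1) by simp [L, Fintype.linearCombination_apply_single], hφ]
        simp [Lf, Fintype.linearCombination_apply_single]
      · show φ y ∈ E
        rw [← hexpr y, hφ]
        exact hbound _ (Finset.mem_union_right _ (Finset.mem_image_of_mem _ hy))
      · show q (φ y) = _
        rw [← hexpr y, hφ, hqL]
    obtain ⟨φ, hφm, hφE, hφq⟩ := ext a f hf hfq
    obtain ⟨φ', hφ'm, hφ'E, hφ'q⟩ := ext a.symm f' hf' hfq'
    have inv : ∀ (φ φ' : M →+ M) (b : M ⧸ (nsmulAddMonoidHom n : M →+ M).range ≃+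
        M ⧸ (nsmulAddMonoidHom n : M →+ M).range), (∀ y ∈ Ys, φ y ∈ E) → (∀ y, q (φ y) = b (q y)) →
        (∀ i, φ' (m i) ∈ Ys) → (∀ y, q (φ' y) = b.symm (q y)) → ∀ y, φ (φ' y) = y := by
      intro φ φ' b hE hq hY hq' y
      have hy : y ∈ AddSubmonoid.closure (Set.range m) := hm ▸ AddSubmonoid.mem_top y
      induction hy using AddSubmonoid.closure_induction with
      | mem z hz =>
        obtain ⟨i, rfl⟩ := hz
        exact hqE (hE _ (hY i)) (hYs (hmY i)) (by rw [hq, hq', AddEquiv.apply_symm_apply])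
      | zero => rw [map_zero, map_zero]
      | add p r _ _ hp hr => rw [map_add, map_add, hp, hr]
    let hh : M ≃+ M :=
      { φ with
        invFun := φ'
        left_inv := inv φ' φ a.symm hφ'E hφ'q (fun i => by rw [hφm]; exact hExY i _ (hf i)) (by simpa using hφq)
        right_inv := inv φ φ' a hφE hφq (fun i => by rw [hφ'm]; exact hExY i _ (hf' i)) hφ'q }
    refine ⟨hh, hval B ((reM hh.toAddMonoidHom).comp ψ) ψ' ?_ (hsupp B ψ' h1' hP'.1) ?_⟩
    · intro j
      rw [AlgHom.comp_apply, eq_sum_of_vanish F (ψ (D.v j)) (suppIn_v D h1 hP.1 j), map_sum]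
      refine SuppIn.sum _ _ fun y hy => ?_
      show SuppIn E (MonoidAlgebra.mapDomain _ (MonoidAlgebra.single _ _))
      rw [MonoidAlgebra.mapDomain_single]
      exact suppIn_single (m := φ y) (hφE y (by simp [Ys, hy])) _
    · rw [h, ← AlgHom.comp_assoc, ← AlgHom.comp_assoc, reM_comp, reM_comp]
      congr 2
      exact AddMonoidHom.ext fun y => (hφq y).symm
  case last =>
    have : (reM (AddEquiv.refl M).symm.toAddMonoidHom).comp ψ = ψ := AlgHom.ext fun z => by
      ext w
      exact coeff_mapDomain_of_injective _ (fun _ _ e => e) _ w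
    rw [this]
    exact h

end Smooth

/-- Finitely generated types have models presented by integer vectors. -/
theorem exists_model (M : Type) [AddCommGroup M] [AddGroup.FG M] :
    ∃ (r : ℕ) (L : AddSubgroup (Fin r → ℤ)), Nonempty (M ≃+ (Fin r → ℤ) ⧸ L) := by
  haveI : Module.Finite ℤ M := Module.Finite.iff_addGroup_fg.mpr inferInstance
  obtain ⟨r, f, hf⟩ := Module.Finite.exists_fin' ℤ M
  exact ⟨r, f.toAddMonoidHom.ker, ⟨(QuotientAddGroup.quotientKerEquivOfSurjective f.toAddMonoidHom hf).symm⟩⟩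

/-- Monoid generators. -/
theorem exists_monoid_gens (M : Type) [AddCommGroup M] [AddGroup.FG M] :
    ∃ (k : ℕ) (m : Fin k → M), AddSubmonoid.closure (Set.range m) = ⊤ := by
  classical
  obtain ⟨s, hs⟩ := (AddMonoid.fg_iff.mp (AddGroup.fg_iff_addMonoid_fg.mp (inferInstance : AddGroup.FG M)))
  exact ⟨hs.2.toFinset.card, fun i => (hs.2.toFinset.equivFin.symm i).1, by
    rw [show Set.range (fun i => (hs.2.toFinset.equivFin.symm i).1) = s from Set.ext fun a => ⟨fun ⟨i, hi⟩ =>
      hi ▸ hs.2.mem_toFinset.mp (hs.2.toFinset.equivFin.symm i).2,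
      fun ha => ⟨hs.2.toFinset.equivFin ⟨a, hs.2.mem_toFinset.mpr ha⟩, by simp⟩⟩]
    exact hs.1⟩

theorem inChart_of_unit {V : S.affineOpens} (c : Chart G V) {T : Scheme.{u}} (e : Fam G T) {B : Type u} [CommRing B]
    [Algebra (RV V) B] {M' : Type} [AddCommGroup M'] {w : Spec (CommRingCat.of B) ⟶ T}
    {ψ' : AV G V →ₐ[RV V] MA M' B} (htr : IsTriv G e.1 e.2.1 V w ψ') (h : M' ≃+ c.M) (g : B)
    (hP : c.P (Localization.Away g)
      ((push (IsScalarTower.toAlgHom (RV V) B (Localization.Away g))).comp ((reM h.toAddMonoidHom).comp ψ')))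
    (p : Spec (CommRingCat.of B)) (hp : g ∉ p.asIdeal) : c.InChart e (w p) := by
  let L : B →ₐ[RV V] Localization.Away g := IsScalarTower.toAlgHom (RV V) B _
  obtain ⟨v, hv⟩ := c.exists_pull_eq e (htr.push L) h (by
    rw [← AlgHom.comp_assoc, ← push_reM, AlgHom.comp_assoc]
    exact hP)
  obtain ⟨p', hp'⟩ : p ∈ Set.range (Spec.map (CommRingCat.ofHom L.toRingHom)) := by
    show p ∈ Set.range (PrimeSpectrum.comap (algebraMap B (Localization.Away g)))
    rw [PrimeSpectrum.localization_away_comap_range (Localization.Away g) g]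
    exact hp
  let i := (Spec (CommRingCat.of (Localization.Away g))).fromSpecResidueField p'
  refine ⟨_, inferInstance, i ≫ Spec.map (CommRingCat.ofHom L.toRingHom) ≫ w, i ≫ v,
    ⟨IsLocalRing.closedPoint _, ?_⟩, by rw [Fam.pull_comp, hv, ← Fam.pull_comp]⟩
  rw [Scheme.Hom.comp_apply, Scheme.Hom.comp_apply]
  exact congrArg (fun q => w q) ((congrArg (fun q => (Spec.map (CommRingCat.ofHom L.toRingHom)) q)
    (Scheme.fromSpecResidueField_apply p' _)).trans hp')

/-- The index of the charts: an open, a type, generators, functions and a bound. -/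
structure Idx (G : Over S) [GrpObj G] [IsAffineHom G.hom] : Type u where
  /-- open -/
  V : S.affineOpens
  /-- rank -/
  r : ℕ
  /-- relations -/
  L : AddSubgroup (Fin r → ℤ)
  /-- number of generators -/
  k : ℕ
  /-- generators -/
  m : Fin k → (Fin r → ℤ) ⧸ L
  hm : AddSubmonoid.closure (Set.range m) = ⊤
  /-- functions -/
  x : Fin k → AV G V
  /-- bound -/
  F : Finset ((Fin r → ℤ) ⧸ L)

set_option maxHeartbeats 1200000 in
/-- For a smooth group there are charts covering all families. -/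
theorem exists_charts_smooth [Smooth G.hom] :
    ∃ (κ : Type u) (V : κ → S.affineOpens) (c : ∀ i, Chart G (V i)),
      ∀ (T : Scheme.{u}) (e : Fam G T), Covered c e := by
  classical
  have hsm : ∀ V : S.affineOpens, Algebra.Smooth (RV V) (AV G V) := fun V => smooth_AV V
  have hD : ∀ V : S.affineOpens, Nonempty (Stable (RV V) (AV G V)) := fun V => by
    haveI := hsm V
    exact nonempty_stable _ _
  have hch : ∀ i : Idx G, ∃ c : Chart G i.V, ∃ e : c.M ≃+ ((Fin i.r → ℤ) ⧸ i.L),
      ∀ (B : Type u) [CommRing B] [Algebra (RV i.V) B] (ψ : AV G i.V →ₐ[RV i.V] MA ((Fin i.r → ℤ) ⧸ i.L) B),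
        Cond i.V (hD i.V).some i.m i.x i.F B ψ → c.P B ((reM e.symm.toAddMonoidHom).comp ψ) := fun i => by
    haveI := hsm i.V
    haveI : AddGroup.FG (Fin i.r → ℤ) := Module.Finite.iff_addGroup_fg.mp inferInstance
    haveI : AddGroup.FG ((Fin i.r → ℤ) ⧸ i.L) := inferInstance
    exact exists_chart_smooth i.V (hD i.V).some _ i.m i.hm i.x i.F
  choose c e he using hch
  refine ⟨Idx G, fun i => i.V, c, fun T f t => ?_⟩
  obtain ⟨V, hV, htV, -⟩ := exists_isAffineOpen_mem_and_subset (show f.1 t ∈ (⊤ : S.Opens) from trivial)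
  obtain ⟨W, htW⟩ : ∃ W : S.affineOpens, f.1 t ∈ W.1 := ⟨⟨V, hV⟩, htV⟩
  obtain ⟨B, _, _, w, M', _, ψ', hw, ⟨p, hp⟩, hM, htr⟩ := exists_triv f.2.2 W t htW
  haveI := hM
  obtain ⟨r, L, ⟨h⟩⟩ := exists_model M'
  haveI : AddGroup.FG (Fin r → ℤ) := Module.Finite.iff_addGroup_fg.mp inferInstance
  obtain ⟨k, m, hm⟩ := exists_monoid_gens ((Fin r → ℤ) ⧸ L)
  let ψ := (reM h.toAddMonoidHom).comp ψ'
  have hs : Srj ψ := htr.2.1.reindex h.surjective
  have hx : ∀ i, ∃ x : AV G W, coef ψ (m i) x ∉ p.asIdeal := fun i => by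
    by_contra! hall
    exact p.isPrime.ne_top (top_le_iff.mp (coefIdeal_eq_top hs (m i) ▸ Ideal.span_le.mpr (by
      rintro _ ⟨x, rfl⟩
      exact hall x)))
  choose x hx using hx
  let D := (hD W).some
  let F := suppA D ψ
  let i : Idx G := ⟨W, r, L, k, m, hm, x, F⟩
  refine ⟨i, ?_⟩
  subst hp
  let g := ∏ i, coef ψ (m i) (x i)
  refine inChart_of_unit _ f htr (h.trans (e i).symm) g ?_ p ?_
  · have hcond : Cond W D m x F (Localization.Away g)
        ((push (IsScalarTower.toAlgHom (RV W) B (Localization.Away g))).comp ψ) := by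
      refine ⟨(good_suppA D ψ).map D _, fun i => ?_⟩
      rw [coef_push]
      have hu : IsUnit (algebraMap B (Localization.Away g) g) := IsLocalization.Away.algebraMap_isUnit g
      rw [map_prod, IsUnit.prod_iff] at hu
      exact hu i (Finset.mem_univ i)
    have h1 := he i _ _ hcond
    rwa [← AlgHom.comp_assoc, ← push_reM, AlgHom.comp_assoc, ← AlgHom.comp_assoc (reM _) (reM _), reM_comp] at h1
  · rw [Ideal.IsPrime.prod_mem_iff]
    exact fun ⟨i, _, hi⟩ => hx i hi

end Groth.Agent.Deform.SubMT
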