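import Groth.Agent.Deform.SubMT.Geom
import Groth.Agent.DescLib.IdealDescent
import Mathlib.AlgebraicGeometry.Sites.Representability
import Mathlib.AlgebraicGeometry.Morphisms.Etale

/-!
# Families of subgroups of multiplicative type

A family over `T` is a morphism `g : T ⟶ S` and a closed subscheme of `G ×_S T` which, etale locally on `T`, is the
subgroup defined by a compatible algebra map. Families form a sheaf for the Zariski topology.
-/

set_option autoImplicit false
set_option linter.style.haveILetI false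
set_option backward.isDefEq.respectTransparency false
set_option backward.isDefEq.respectTransparency.types false
set_option maxHeartbeats 600000

universe u

open CategoryTheory CategoryTheory.Limits AlgebraicGeometry TopologicalSpace Opposite
open MonoidalCategory CartesianMonoidalCategory MonObj GrpObj

namespace Groth.Agent.Deform.SubMT

open HomMT

section Refine

/-- Near a point, a map to an affine scheme is given by an algebra map. -/
theorem exists_affine_refine {R : Type u} [CommRing R] {B : Type u} [CommRing B] [Algebra R B] {P : Scheme.{u}}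
    (x : P ⟶ Spec (CommRingCat.of B)) (z : P) :
    ∃ (B' : Type u) (_ : CommRing B') (_ : Algebra R B') (σ : B →ₐ[R] B') (j : Spec (CommRingCat.of B') ⟶ P),
      IsOpenImmersion j ∧ z ∈ Set.range j ∧ j ≫ x = Spec.map (CommRingCat.ofHom σ.toRingHom) := by
  obtain ⟨W, hW, hzW, -⟩ := exists_isAffineOpen_mem_and_subset (show z ∈ (⊤ : P.Opens) from trivial)
  obtain ⟨ρ, hρ⟩ : ∃ ρ, Spec.map ρ = hW.fromSpec ≫ x := ⟨_, Spec.map_preimage _⟩
  letI : Algebra R Γ(P, W) := (ρ.hom.comp (algebraMap R B)).toAlgebra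
  let σ : B →ₐ[R] Γ(P, W) := { ρ.hom with commutes' := fun r => rfl }
  refine ⟨Γ(P, W), inferInstance, inferInstance, σ, hW.fromSpec, inferInstance, ?_, hρ.symm⟩
  exact hW.range_fromSpec.ge hzW

end Refine

variable {S : Scheme.{u}}

/-- The ring of an affine open of the base. -/
abbrev RV (V : S.affineOpens) : Type u := Γ(S, V.1)

/-- An affine open as a map from a spectrum. -/
noncomputable abbrev βV (V : S.affineOpens) : Spec (CommRingCat.of (RV V)) ⟶ S := V.2.fromSpec

theorem bb_mem (V : S.affineOpens) (B : Type u) [CommRing B] [Algebra (RV V) B] (z : Spec (CommRingCat.of B)) :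
    bb (βV V) B z ∈ V.1 := by
  rw [bb, Scheme.Hom.comp_apply]
  exact V.2.range_fromSpec.le ⟨_, rfl⟩

variable (G : Over S) [GrpObj G] [IsAffineHom G.hom]

/-- The coordinate ring of the group over an affine open. -/
noncomputable def AV (V : S.affineOpens) : Type u := (exists_gc G (βV V)).choose

noncomputable instance (V : S.affineOpens) : CommRing (AV G V) := (exists_gc G (βV V)).choose_spec.choose

noncomputable instance (V : S.affineOpens) : HopfAlgebra (RV V) (AV G V) :=
  (exists_gc G (βV V)).choose_spec.choose_spec.choose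

/-- Coordinates over an affine open. -/
noncomputable def KV (V : S.affineOpens) : GC (βV V) G (AV G V) :=
  (exists_gc G (βV V)).choose_spec.choose_spec.choose_spec.some

/-- A trivialisation of a family. -/
def IsTriv {T : Scheme.{u}} (g : T ⟶ S) (Z : (pullback G.hom g).IdealSheafData) (V : S.affineOpens) {B : Type u}
    [CommRing B] [Algebra (RV V) B] {M : Type} [AddCommGroup M] (e : Spec (CommRingCat.of B) ⟶ T)
    (ψ : AV G V →ₐ[RV V] MA M B) : Prop :=
  Mult ψ ∧ Srj ψ ∧ ∃ h : e ≫ g = bb (βV V) B, Z.comap (bm G e g _ h) = (pt (KV G V) B ψ).left.ker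

/-- Etale locally the closed subscheme is a diagonalisable subgroup. -/
def IsSub {T : Scheme.{u}} (g : T ⟶ S) (Z : (pullback G.hom g).IdealSheafData) : Prop :=
  ∀ t : T, ∃ (V : S.affineOpens) (B : Type u) (_ : CommRing B) (_ : Algebra (RV V) B)
    (e : Spec (CommRingCat.of B) ⟶ T) (M : Type) (_ : AddCommGroup M) (ψ : AV G V →ₐ[RV V] MA M B),
    Etale e ∧ t ∈ Set.range e ∧ AddGroup.FG M ∧ IsTriv G g Z V e ψ

variable {G}

/-- Base change of a trivialisation. -/
theorem IsTriv.map {T T' : Scheme.{u}} {g : T ⟶ S} {g' : T' ⟶ S} {Z : (pullback G.hom g).IdealSheafData}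
    {V : S.affineOpens} {B B' : Type u} [CommRing B] [Algebra (RV V) B] [CommRing B'] [Algebra (RV V) B'] {M : Type}
    [AddCommGroup M] {e : Spec (CommRingCat.of B) ⟶ T} {ψ : AV G V →ₐ[RV V] MA M B} (h : IsTriv G g Z V e ψ)
    (σ : B →ₐ[RV V] B') (f : T' ⟶ T) (hf : f ≫ g = g') (e' : Spec (CommRingCat.of B') ⟶ T')
    (he : e' ≫ f = Spec.map (CommRingCat.ofHom σ.toRingHom) ≫ e) :
    IsTriv G g' (Z.comap (bm G f g g' hf)) V e' ((push σ).comp ψ) := by
  obtain ⟨hm, hs, hg, hk⟩ := h
  have hg' : e' ≫ g' = bb (βV V) B' := by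
    rw [← hf, ← Category.assoc, he, Category.assoc, hg, spec_bb]
  refine ⟨hm.map σ, hs.map hm σ, hg', ?_⟩
  rw [ker_push _ σ hs, ← hk, ← Scheme.IdealSheafData.comap_comp, ← Scheme.IdealSheafData.comap_comp,
    bm_comp _ _ (by rw [Category.assoc, hf, hg']),
    bm_comp _ _ (by rw [Category.assoc, hg, spec_bb])]
  exact congrArg _ (bm_congr he _ _)

theorem IsTriv.push {T : Scheme.{u}} {g : T ⟶ S} {Z : (pullback G.hom g).IdealSheafData}
    {V : S.affineOpens} {B B' : Type u} [CommRing B] [Algebra (RV V) B] [CommRing B'] [Algebra (RV V) B'] {M : Type}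
    [AddCommGroup M] {e : Spec (CommRingCat.of B) ⟶ T} {ψ : AV G V →ₐ[RV V] MA M B} (h : IsTriv G g Z V e ψ)
    (σ : B →ₐ[RV V] B') :
    IsTriv G g Z V (Spec.map (CommRingCat.ofHom σ.toRingHom) ≫ e) ((HomMT.push σ).comp ψ) := by
  have := h.map σ (𝟙 T) (Category.id_comp g) (Spec.map (CommRingCat.ofHom σ.toRingHom) ≫ e) (Category.comp_id _)
  rwa [bm_id, Scheme.IdealSheafData.comap_id] at this

theorem IsSub.comap {T T' : Scheme.{u}} {g : T ⟶ S} {g' : T' ⟶ S} {Z : (pullback G.hom g).IdealSheafData}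
    (h : IsSub G g Z) (f : T' ⟶ T) (hf : f ≫ g = g') : IsSub G g' (Z.comap (bm G f g g' hf)) := by
  intro t'
  obtain ⟨V, B, _, _, e, M, _, ψ, he, ⟨b, hb⟩, hM, htr⟩ := h (f t')
  obtain ⟨z, hz, -⟩ := Scheme.Pullback.exists_preimage_pullback (f := f) (g := e) t' b hb.symm
  obtain ⟨B', _, _, σ, j, hj, ⟨z', hz'⟩, hjx⟩ := exists_affine_refine (R := RV V) (pullback.snd f e) z
  refine ⟨V, B', inferInstance, inferInstance, j ≫ pullback.fst f e, M, inferInstance, _, inferInstance,
    ⟨z', by rw [Scheme.Hom.comp_apply, hz', hz]⟩, hM, htr.map σ f hf _ ?_⟩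
  rw [Category.assoc, pullback.condition, reassoc_of% hjx]

theorem isSub_of_cover {T : Scheme.{u}} {g : T ⟶ S} {Z : (pullback G.hom g).IdealSheafData} {κ : Type*}
    {U : κ → Scheme.{u}} (f : ∀ i, U i ⟶ T) [∀ i, Etale (f i)] (hf : ∀ t, ∃ i, t ∈ Set.range (f i))
    (h : ∀ i, IsSub G (f i ≫ g) (Z.comap (bm G (f i) g _ rfl))) : IsSub G g Z := by
  intro t
  obtain ⟨i, u, rfl⟩ := hf t
  obtain ⟨V, B, _, _, e, M, _, ψ, he, ⟨b, hb⟩, hM, hm, hs, hg, hk⟩ := h i u
  refine ⟨V, B, inferInstance, inferInstance, e ≫ f i, M, inferInstance, ψ, inferInstance,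
    ⟨b, by rw [Scheme.Hom.comp_apply, hb]⟩, hM, hm, hs, (Category.assoc _ _ _).trans hg, ?_⟩
  rw [← hk, ← Scheme.IdealSheafData.comap_comp, bm_comp]

variable (G)

/-- Families over a scheme together with the morphism to the base. -/
abbrev Fam (T : Scheme.{u}) : Type u :=
  Σ g : T ⟶ S, { Z : (pullback G.hom g).IdealSheafData // IsSub G g Z }

variable {G}

/-- Pullback of families. -/
noncomputable def Fam.pull {T T' : Scheme.{u}} (h : T' ⟶ T) (e : Fam G T) : Fam G T' :=
  ⟨h ≫ e.1, e.2.1.comap (bm G h e.1 _ rfl), e.2.2.comap h rfl⟩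

theorem Fam.ext' {T : Scheme.{u}} {e e' : Fam G T} (hg : e.1 = e'.1)
    (hI : e.2.1 = e'.2.1.comap (bm G (𝟙 T) e'.1 e.1 (by rw [Category.id_comp, hg]))) : e = e' := by
  obtain ⟨g, I⟩ := e
  obtain ⟨g', I'⟩ := e'
  obtain rfl : g = g' := hg
  rw [bm_id, Scheme.IdealSheafData.comap_id] at hI
  exact congrArg (Sigma.mk g) (Subtype.ext hI)

theorem Fam.comap_eq {T : Scheme.{u}} {e e' : Fam G T} (h : e = e') {W : Scheme.{u}} (l : W ⟶ pullback G.hom e.1)
    (l' : W ⟶ pullback G.hom e'.1) (h₁ : l ≫ pullback.fst _ _ = l' ≫ pullback.fst _ _)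
    (h₂ : l ≫ pullback.snd _ _ = l' ≫ pullback.snd _ _) :
    e.2.1.comap l = e'.2.1.comap l' := by
  subst h
  obtain rfl : l = l' := pullback.hom_ext h₁ h₂
  rfl

theorem Fam.pull_id {T : Scheme.{u}} (e : Fam G T) : Fam.pull (𝟙 T) e = e :=
  Fam.ext' (Category.id_comp _) rfl

theorem Fam.pull_comp {T T' T'' : Scheme.{u}} (h' : T'' ⟶ T') (h : T' ⟶ T) (e : Fam G T) :
    Fam.pull (h' ≫ h) e = Fam.pull h' (Fam.pull h e) := by
  refine Fam.ext' (Category.assoc _ _ _) ?_
  show e.2.1.comap _ = ((e.2.1.comap _).comap _).comap _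
  rw [← Scheme.IdealSheafData.comap_comp, ← Scheme.IdealSheafData.comap_comp]
  congr 1
  apply pullback.hom_ext <;> simp [bm, Fam.pull]

variable (G)

/-- The functor of families. -/
noncomputable def functor : Scheme.{u}ᵒᵖ ⥤ Type u where
  obj T := Fam G T.unop
  map h := ↾(Fam.pull h.unop)
  map_id T := by
    refine ConcreteCategory.hom_ext _ _ fun e => ?_
    exact Fam.pull_id e
  map_comp h h' := by
    refine ConcreteCategory.hom_ext _ _ fun e => ?_
    exact Fam.pull_comp h'.unop h.unop e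

set_option maxHeartbeats 2000000 in
/-- Families form a Zariski sheaf. -/
theorem isSheaf : Presieve.IsSheaf Scheme.zariskiTopology (functor G) := by
  rw [Precoverage.isSheaf_toGrothendieck_iff_of_isStableUnderBaseChange_of_small.{u}]
  intro T (𝒰 : Scheme.OpenCover.{u} T) x hx
  let e : ∀ i, Fam G (𝒰.X i) := fun i => x (𝒰.f i) (.mk i)
  have hcompat : ∀ {W : Scheme.{u}} {i j : 𝒰.I₀} (a : W ⟶ 𝒰.X i) (b : W ⟶ 𝒰.X j), a ≫ 𝒰.f i = b ≫ 𝒰.f j →
      Fam.pull a (e i) = Fam.pull b (e j) := fun a b h => hx a b _ _ h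
  let g : T ⟶ S := Scheme.Cover.glueMorphisms 𝒰 (fun i => (e i).1) (fun i j =>
    congrArg Sigma.fst (hcompat _ _ (pullback.condition (f := 𝒰.f i) (g := 𝒰.f j))))
  have hg : ∀ i, 𝒰.f i ≫ g = (e i).1 := fun i => Scheme.Cover.ι_glueMorphisms _ _ _ i
  have hxe : ∀ i, x (𝒰.f i) (.mk i) = e i := fun _ => rfl
  clear_value g e
  let q : ∀ i, pullback G.hom (e i).1 ⟶ pullback G.hom g := fun i => bm G (𝒰.f i) g (e i).1 (hg i)
  have hqmem : Presieve.ofArrows (fun i => pullback G.hom (e i).1) q ∈ Scheme.fpqcPrecoverage (pullback G.hom g) := by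
    refine Scheme.zariskiPrecoverage_le_fpqcPrecoverage _ ?_
    rw [Scheme.ofArrows_mem_precoverage_iff]
    refine ⟨fun z => ?_, fun i => MorphismProperty.of_isPullback (P := @IsOpenImmersion) (isPullback_bm (hg i)).flip
      inferInstance⟩
    obtain ⟨i, y, hy⟩ := 𝒰.exists_eq (pullback.snd G.hom g z)
    obtain ⟨w, hw, -⟩ := Scheme.Pullback.exists_preimage_pullback (f := pullback.snd G.hom g) (g := 𝒰.f i) z y hy.symm
    exact ⟨i, (isPullback_bm (hg i)).isoPullback.inv w, by
      rw [← Scheme.Hom.comp_apply, IsPullback.isoPullback_inv_fst]; exact hw⟩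
  have hov : ∀ i j, (e i).2.1.comap (pullback.fst (q i) (q j)) = (e j).2.1.comap (pullback.snd (q i) (q j)) := by
    intro i j
    let a := pullback.fst (q i) (q j) ≫ pullback.snd G.hom (e i).1
    let b := pullback.snd (q i) (q j) ≫ pullback.snd G.hom (e j).1
    have hw := congrArg (· ≫ pullback.snd G.hom g) (pullback.condition (f := q i) (g := q j))
    simp only [Category.assoc, q, bm_snd] at hw
    have hw' := congrArg (· ≫ pullback.fst G.hom g) (pullback.condition (f := q i) (g := q j))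
    simp only [Category.assoc, q, bm_fst] at hw'
    have hab : a ≫ 𝒰.f i = b ≫ 𝒰.f j := by simpa [a, b] using hw
    have hb : a ≫ (e i).1 = b ≫ (e j).1 := congrArg Sigma.fst (hcompat a b hab)
    let l : pullback (q i) (q j) ⟶ pullback G.hom (a ≫ (e i).1) :=
      pullback.lift (pullback.fst (q i) (q j) ≫ pullback.fst G.hom (e i).1) (𝟙 _) (by simp [a, pullback.condition])
    let l' : pullback (q i) (q j) ⟶ pullback G.hom (b ≫ (e j).1) :=
      pullback.lift (pullback.fst (q i) (q j) ≫ pullback.fst G.hom (e i).1) (𝟙 _)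
        (by rw [← hb]; simp [a, pullback.condition])
    have h := Fam.comap_eq (hcompat a b hab) l l' ((pullback.lift_fst _ _ _).trans (pullback.lift_fst _ _ _).symm)
      ((pullback.lift_snd _ _ _).trans (pullback.lift_snd _ _ _).symm)
    simp only [Fam.pull, ← Scheme.IdealSheafData.comap_comp] at h
    have e1 : l ≫ bm G a (e i).1 _ rfl = pullback.fst (q i) (q j) := by
      apply pullback.hom_ext
      · rw [Category.assoc, bm_fst, pullback.lift_fst]
      · rw [Category.assoc, bm_snd, pullback.lift_snd_assoc, Category.id_comp]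
    have e2 : l' ≫ bm G b (e j).1 _ rfl = pullback.snd (q i) (q j) := by
      apply pullback.hom_ext
      · rw [Category.assoc, bm_fst, pullback.lift_fst]
        exact hw'
      · rw [Category.assoc, bm_snd, pullback.lift_snd_assoc, Category.id_comp]
    rwa [e1, e2] at h
  obtain ⟨J, hJ, hJu⟩ := DescLib.existsUnique_descend_fpqc q hqmem (fun i => (e i).2.1) hov
  have hJ' : ∀ i, J.comap (bm G (𝒰.f i) g (𝒰.f i ≫ g) rfl) =
      (e i).2.1.comap (bm G (𝟙 _) (e i).1 (𝒰.f i ≫ g) (by rw [Category.id_comp, hg])) := fun i => by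
    rw [← hJ, ← Scheme.IdealSheafData.comap_comp, bm_comp _ _ (by rw [Category.assoc, Category.id_comp])]
    exact congrArg _ (bm_congr (Category.id_comp _).symm _ _)
  have hsub : IsSub G g J := isSub_of_cover 𝒰.f (fun t => by
    obtain ⟨i, y, hy⟩ := 𝒰.exists_eq t
    exact ⟨i, y, hy⟩) fun i => by
    rw [hJ']
    exact (e i).2.2.comap _ _
  refine ⟨(⟨g, J, hsub⟩ : Fam G T), ?_, ?_⟩
  · rintro W v ⟨i⟩
    refine Eq.trans ?_ (hxe i).symm
    exact Fam.ext' (e := Fam.pull (𝒰.f i) (⟨g, J, hsub⟩ : Fam G T)) (hg i) (hJ' i)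
  · rintro ⟨g', J', hJ''⟩ hy
    have hy' : ∀ i, Fam.pull (𝒰.f i) ⟨g', J', hJ''⟩ = e i := fun i => (hy (𝒰.f i) (.mk i)).trans (hxe i)
    obtain rfl : g' = g := Scheme.Cover.hom_ext 𝒰 _ _ fun i => by
      rw [hg]; exact congrArg Sigma.fst (hy' i)
    refine congrArg (Sigma.mk g') (Subtype.ext (hJu J' fun i => ?_))
    have h := Fam.comap_eq (hy' i).symm (𝟙 _) (bm G (𝟙 _) (𝒰.f i ≫ g') (e i).1 (by rw [Category.id_comp, hg]))
      (by rw [Category.id_comp]; exact (bm_fst _).symm)
      (by rw [Category.id_comp]; exact ((bm_snd _).trans (Category.comp_id _)).symm)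
    simp only [Fam.pull, ← Scheme.IdealSheafData.comap_comp, Scheme.IdealSheafData.comap_id] at h
    refine Eq.trans ?_ h.symm
    rw [bm_comp _ _ (by rw [Category.assoc, Category.id_comp, hg])]
    exact congrArg _ (bm_congr (Category.id_comp _).symm _ _)

end Groth.Agent.Deform.SubMT
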