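import Mathlib.RingTheory.Invariant.Defs
import Mathlib.RingTheory.Unramified.Finite
import Mathlib.RingTheory.Flat.FaithfullyFlat.Algebra
import Mathlib.RingTheory.IntegralClosure.IsIntegralClosure.Basic
import Mathlib.RingTheory.Ideal.GoingUp
import Mathlib.RingTheory.Finiteness.Projective
import Mathlib.RingTheory.Finiteness.ModuleFinitePresentation
import Mathlib.RingTheory.Flat.Basic
import Mathlib.RingTheory.Etale.Basic

/-!
# Quotients of affine schemes by free actions of finite groups

If a finite group acts freely on a ring `C` with invariants `R`, then `C` is finite projective, faithfully flat and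
unramified over `R` and `C ⊗[R] C` is the ring of functions from the group to `C`.
-/

set_option autoImplicit false

universe u v

open TensorProduct

namespace Groth.Agent.Deform.SubMT

/-- The action is free: no prime is fixed, with trivial action on its residue ring, by a nontrivial element. -/
def IsFree (C : Type u) [CommRing C] (Γ : Type v) [Group Γ] [MulSemiringAction Γ C] : Prop :=
  ∀ g : Γ, g ≠ 1 → ∀ p : Ideal C, p.IsPrime → ∃ c : C, c - g • c ∉ p

variable {R : Type u} [CommRing R] {C : Type u} [CommRing C] [Algebra R C] {Γ : Type v} [Group Γ] [Fintype Γ]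
  [MulSemiringAction Γ C] [SMulCommClass Γ R C]

/-- The comparison map at `g`. -/
noncomputable def theta (g : Γ) : C ⊗[R] C →ₐ[R] C :=
  Algebra.TensorProduct.lift (AlgHom.id R C) (MulSemiringAction.toAlgHom R C g) fun _ _ => .all _ _

omit [Fintype Γ] in
theorem theta_tmul (g : Γ) (a b : C) : theta (R := R) g (a ⊗ₜ b) = a * g • b := by simp [theta]

open Classical in
/-- A Galois element. -/
theorem exists_galoisElem (hf : IsFree C Γ) :
    ∃ e : C ⊗[R] C, theta (1 : Γ) e = 1 ∧ ∀ g : Γ, g ≠ 1 → theta g e = 0 := by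
  have key : ∀ g : Γ, ∃ e : C ⊗[R] C, theta (1 : Γ) e = 1 ∧ (g ≠ 1 → theta g e = 0) := by
    intro g
    by_cases hg : g = 1
    · exact ⟨1, map_one _, fun h => absurd hg h⟩
    have htop : Ideal.span (Set.range fun c : C => c - g • c) = ⊤ := by
      by_contra h
      obtain ⟨p, hp, hle⟩ := Ideal.exists_le_maximal _ h
      obtain ⟨c, hc⟩ := hf g hg p hp.isPrime
      exact hc (hle (Ideal.subset_span ⟨c, rfl⟩))
    obtain ⟨z, hz⟩ := Finsupp.mem_span_range_iff_exists_finsupp.mp
      (show (1 : C) ∈ Submodule.span C (Set.range fun c : C => c - g • c) from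
        (Ideal.eq_top_iff_one _).mp htop)
    let ε : C ⊗[R] C := z.sum fun y a => (a * y) ⊗ₜ[R] 1 - a ⊗ₜ[R] y
    have h1 : theta (1 : Γ) ε = 0 := by simp [ε, Finsupp.sum, theta_tmul]
    have h2 : theta g ε = 1 := by
      rw [← hz]
      simp [ε, Finsupp.sum, theta_tmul, mul_sub]
    exact ⟨1 - ε, by rw [map_sub, map_one, h1, sub_zero], fun _ => by rw [map_sub, map_one, h2, sub_self]⟩
  choose e he1 he2 using key
  refine ⟨∏ g, e g, by simp [map_prod, he1], fun g hg => ?_⟩
  rw [map_prod]
  exact Finset.prod_eq_zero (Finset.mem_univ g) (he2 g hg)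

omit [Fintype Γ] in
theorem theta_apply (g : Γ) (s : Finset (C × C)) :
    theta (R := R) g (∑ p ∈ s, p.1 ⊗ₜ[R] p.2) = ∑ p ∈ s, p.1 * g • p.2 := by simp [map_sum, theta_tmul]

open Classical in
/-- Galois coordinates. -/
theorem exists_coords (R : Type u) [CommRing R] [Algebra R C] [SMulCommClass Γ R C] (hf : IsFree C Γ) :
    ∃ s : Finset (C × C),
    ∀ g : Γ, ∑ p ∈ s, p.1 * g • p.2 = if g = 1 then 1 else 0 := by
  obtain ⟨e, h1, h2⟩ := exists_galoisElem (R := R) (C := C) hf
  obtain ⟨s, hs⟩ := TensorProduct.exists_finset e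
  refine ⟨s, fun g => ?_⟩
  rw [← theta_apply (R := R), ← hs]
  split_ifs with hg
  · rw [hg, h1]
  · exact h2 g hg

open Classical in
omit [Fintype Γ] [SMulCommClass Γ R C] [Algebra R C] in
theorem coords_symm {s : Finset (C × C)} (hs : ∀ g : Γ, ∑ p ∈ s, p.1 * g • p.2 = if g = 1 then 1 else 0) (g : Γ) :
    ∑ p ∈ s, p.2 * g • p.1 = if g = 1 then 1 else 0 := by
  have h : ∑ p ∈ s, p.2 * g • p.1 = g • ∑ p ∈ s, p.1 * g⁻¹ • p.2 := by
    rw [Finset.smul_sum]
    exact Finset.sum_congr rfl fun p _ => by rw [smul_mul', smul_inv_smul, mul_comm]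
  rw [h, hs]
  by_cases hg : g = 1
  · simp [hg]
  · simp [hg]

variable [Algebra.IsInvariant R C Γ]

theorem exists_trace (x : C) : ∃ r : R, algebraMap R C r = ∑ g : Γ, g • x := by
  refine Algebra.IsInvariant.isInvariant (G := Γ) _ fun g => ?_
  rw [Finset.smul_sum]
  exact Fintype.sum_equiv (Equiv.mulLeft g) _ _ fun h => by simp [mul_smul]

open Classical in
theorem expand {s : Finset (C × C)} (hs : ∀ g : Γ, ∑ p ∈ s, p.1 * g • p.2 = if g = 1 then 1 else 0) (x : C) :
    x = ∑ p ∈ s, p.1 * ∑ g : Γ, g • (p.2 * x) := by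
  have h : ∀ p : C × C, p.1 * ∑ g : Γ, g • (p.2 * x) = ∑ g : Γ, (p.1 * g • p.2) * g • x := fun p => by
    rw [Finset.mul_sum]
    exact Finset.sum_congr rfl fun g _ => by rw [smul_mul', mul_assoc]
  simp only [h]
  rw [Finset.sum_comm]
  simp [← Finset.sum_mul, hs]

open Classical in
include Γ in
/-- The ring is a finite projective module over the invariants. -/
theorem finite_projective (hinj : Function.Injective (algebraMap R C)) (hf : IsFree C Γ) :
    Module.Finite R C ∧ Module.Projective R C := by
  obtain ⟨s, hs⟩ := exists_coords R hf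
  choose t ht using exists_trace (R := R) (C := C) (Γ := Γ)
  have hadd : ∀ x y, t (x + y) = t x + t y := fun x y => hinj (by
    rw [map_add, ht, ht, ht, ← Finset.sum_add_distrib]; simp [smul_add])
  have hsmul : ∀ (r : R) x, t (r • x) = r * t x := fun r x => hinj (by
    rw [map_mul, ht, ht, Finset.mul_sum]
    exact Finset.sum_congr rfl fun g _ => by rw [smul_comm g r x, Algebra.smul_def])
  let f : C →ₗ[R] (s → R) :=
    { toFun := fun x p => t (p.1.2 * x)
      map_add' := fun x y => funext fun p => by simp [mul_add, hadd]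
      map_smul' := fun r x => funext fun p => by simp [mul_smul_comm, hsmul] }
  let π : (s → R) →ₗ[R] C := Fintype.linearCombination R fun p : s => p.1.1
  have hπ : π.comp f = LinearMap.id := LinearMap.ext fun x => by
    show Fintype.linearCombination R (fun p : s => p.1.1) (f x) = x
    rw [Fintype.linearCombination_apply]
    conv_rhs => rw [expand hs x]
    rw [← Finset.sum_coe_sort s fun p => p.1 * ∑ g : Γ, g • (p.2 * x)]
    exact Finset.sum_congr rfl fun p _ => by
      rw [Algebra.smul_def, mul_comm]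
      exact congrArg (p.1.1 * ·) (ht _)
  exact ⟨Module.Finite.of_surjective π fun x => ⟨f x, LinearMap.congr_fun hπ x⟩, Module.Projective.of_split f π hπ⟩

open Classical in
/-- The relation is free. -/
theorem theta_bijective (hf : IsFree C Γ) :
    Function.Bijective fun (z : C ⊗[R] C) (g : Γ) => theta g z := by
  obtain ⟨s, hs⟩ := exists_coords R hf
  let back : (Γ → C) → C ⊗[R] C := fun f => ∑ p ∈ s, (∑ g : Γ, f g * g • p.1) ⊗ₜ[R] p.2
  have h1 : ∀ f g, theta g (back f) = f g := by
    intro f g
    simp only [back, map_sum, theta_tmul, Finset.sum_mul]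
    rw [Finset.sum_comm]
    have h : ∀ k : Γ, ∑ p ∈ s, f k * k • p.1 * g • p.2 = f k * if k⁻¹ * g = 1 then 1 else 0 := fun k => by
      rw [mul_sum_smul, hs]
      split_ifs <;> simp
    simp only [h, inv_mul_eq_one]
    simp
  have h2 : ∀ z, back (fun g => theta g z) = z := by
    intro z
    induction z using TensorProduct.induction_on with
    | zero => simp [back]
    | add z z' hz hz' =>
      have : back (fun g => theta g (z + z')) = back (fun g => theta g z) + back (fun g => theta g z') := by
        simp only [back, map_add, add_mul, Finset.sum_add_distrib, add_tmul]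
      rw [this, hz, hz']
    | tmul a b =>
      choose t ht using exists_trace (R := R) (C := C) (Γ := Γ)
      have e : ∀ p : C × C, (∑ g : Γ, theta g (a ⊗ₜ[R] b) * g • p.1) ⊗ₜ[R] p.2 =
          a ⊗ₜ[R] (p.2 * algebraMap R C (t (b * p.1))) := fun p => by
        simp only [theta_tmul, mul_assoc, ← smul_mul', ← Finset.mul_sum, ← ht]
        rw [mul_comm a, ← Algebra.smul_def, smul_tmul, Algebra.smul_def, mul_comm]
      simp only [back, e, ← tmul_sum, ht]
      congr 1
      have hsum : ∀ x, x = ∑ p ∈ s, p.2 * ∑ g : Γ, g • (p.1 * x) := fun x => by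
        have h : ∀ p : C × C, p.2 * ∑ g : Γ, g • (p.1 * x) = ∑ g : Γ, (p.2 * g • p.1) * g • x := fun p => by
          rw [Finset.mul_sum]
          exact Finset.sum_congr rfl fun g _ => by rw [smul_mul', mul_assoc]
        simp only [h]
        rw [Finset.sum_comm]
        simp [← Finset.sum_mul, coords_symm hs]
      conv_rhs => rw [hsum b]
      simp only [mul_comm b]
  refine ⟨fun z z' h => ?_, fun f => ⟨back f, funext (h1 f)⟩⟩
  rw [← h2 z, ← h2 z']
  exact congrArg back h
where
  mul_sum_smul : ∀ {s : Finset (C × C)} {a : C} {k g : Γ},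
      ∑ p ∈ s, a * k • p.1 * g • p.2 = a * k • ∑ p ∈ s, p.1 * (k⁻¹ * g) • p.2 := by
    intro s a k g
    rw [Finset.smul_sum, Finset.mul_sum]
    exact Finset.sum_congr rfl fun p _ => by rw [smul_mul', mul_smul, smul_inv_smul, mul_assoc]

include Γ in
/-- The ring is faithfully flat over the invariants. -/
theorem faithfullyFlat (hinj : Function.Injective (algebraMap R C)) (hf : IsFree C Γ) :
    Module.FaithfullyFlat R C := by
  obtain ⟨hfin, hproj⟩ := finite_projective (Γ := Γ) hinj hf
  have : Module.Flat R C := Module.Flat.of_projective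
  have : Algebra.IsIntegral R C := Algebra.IsIntegral.of_finite R C
  refine Module.FaithfullyFlat.of_comap_surjective fun P => ?_
  obtain ⟨Q, -, hQ, hQP⟩ := Ideal.exists_ideal_over_prime_of_isIntegral (S := C) P.asIdeal ⊥ (by
    rw [← RingHom.ker_eq_comap_bot, (RingHom.injective_iff_ker_eq_bot _).mp hinj]; exact bot_le)
  exact ⟨⟨Q, hQ⟩, PrimeSpectrum.ext hQP⟩

end Groth.Agent.Deform.SubMT

namespace Groth.Agent.Deform.SubMT

variable {R : Type u} [CommRing R] {C : Type u} [CommRing C] [Algebra R C] {Γ : Type v} [Group Γ] [Fintype Γ]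
  [MulSemiringAction Γ C] [SMulCommClass Γ R C] [Algebra.IsInvariant R C Γ]

/-- Two points with the same image in the quotient differ locally by an element of the group. -/
theorem exists_translate (hf : IsFree C Γ) {B : Type u} [CommRing B] (o o' : C →+* B)
    (h : ∀ r : R, o (algebraMap R C r) = o' (algebraMap R C r)) :
    ∃ ε : Γ → B, ∑ g, ε g = 1 ∧ ∀ g c, ε g * o' c = ε g * o (g • c) := by
  classical
  obtain ⟨s, hs⟩ := exists_coords R hf
  choose t ht using exists_trace (R := R) (C := C) (Γ := Γ)
  have hsum : ∀ x, x = ∑ p ∈ s, p.2 * ∑ g : Γ, g • (p.1 * x) := fun x => by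
    have h1 : ∀ p : C × C, p.2 * ∑ g : Γ, g • (p.1 * x) = ∑ g : Γ, (p.2 * g • p.1) * g • x := fun p => by
      rw [Finset.mul_sum]
      exact Finset.sum_congr rfl fun g _ => by rw [smul_mul', mul_assoc]
    simp only [h1]
    rw [Finset.sum_comm]
    simp [← Finset.sum_mul, coords_symm hs]
  refine ⟨fun g => ∑ p ∈ s, o (g • p.1) * o' p.2, ?_, fun g c => ?_⟩
  · rw [Finset.sum_comm, ← map_one o', hsum 1, map_sum]
    refine Finset.sum_congr rfl fun p _ => ?_
    rw [← Finset.sum_mul, ← map_sum, map_mul, mul_one p.1, ← ht, h, mul_comm]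
  · have e : ∀ p : C × C, o' (p.2 * c) = ∑ q ∈ s, (∑ k : Γ, o (k • (q.1 * (p.2 * c)))) * o' q.2 := fun p => by
      conv_lhs => rw [hsum (p.2 * c), map_sum]
      refine Finset.sum_congr rfl fun q _ => ?_
      rw [map_mul, ← ht, ← h, ht, map_sum, mul_comm]
    have hk : ∀ k : Γ, ∑ p ∈ s, g • p.1 * k • p.2 = if k = g then 1 else 0 := fun k => by
      have : ∑ p ∈ s, g • p.1 * k • p.2 = g • ∑ p ∈ s, p.1 * (g⁻¹ * k) • p.2 := by
        rw [Finset.smul_sum]
        exact Finset.sum_congr rfl fun p _ => by rw [smul_mul', mul_smul, smul_inv_smul]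
      rw [this, hs]
      by_cases hkg : k = g
      · simp [hkg]
      · simp [hkg, inv_mul_eq_one, Ne.symm hkg]
    calc (∑ p ∈ s, o (g • p.1) * o' p.2) * o' c
        = ∑ p ∈ s, o (g • p.1) * o' (p.2 * c) := by
          rw [Finset.sum_mul]; exact Finset.sum_congr rfl fun p _ => by rw [map_mul, mul_assoc]
      _ = ∑ q ∈ s, (∑ k : Γ, o (k • q.1 * k • c * ∑ p ∈ s, g • p.1 * k • p.2)) * o' q.2 := by
          simp only [e, Finset.mul_sum, Finset.sum_mul]
          rw [Finset.sum_comm]
          refine Finset.sum_congr rfl fun q _ => ?_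
          rw [Finset.sum_comm]
          refine Finset.sum_congr rfl fun k _ => ?_
          rw [map_sum, Finset.sum_mul]
          refine Finset.sum_congr rfl fun p _ => ?_
          simp only [smul_mul', map_mul]
          ring
      _ = (∑ p ∈ s, o (g • p.1) * o' p.2) * o (g • c) := by
          simp only [hk, mul_ite, mul_one, mul_zero, apply_ite o, map_zero, Finset.sum_ite_eq', Finset.mem_univ,
            if_true]
          rw [Finset.sum_mul]
          exact Finset.sum_congr rfl fun p _ => by rw [map_mul]; ring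

end Groth.Agent.Deform.SubMT
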