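import Groth.Agent.Deform.SubMT.Srj
import Groth.Agent.Deform.SubMT.GaloisQuot
import Groth.Agent.Deform.HomMT.Lift
import Mathlib.RingTheory.Ideal.IdempotentFG
import Mathlib.RingTheory.IntegralClosure.IsIntegralClosure.Basic

/-!
# Finite diagonalisable subgroups of an affine group

For a finite group of characters `N` the closed immersions `D(N) ⟶ Spec A` which are homomorphisms are represented by
an algebra of finite presentation, on which the automorphisms of `N` act freely.
-/

set_option autoImplicit false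
set_option linter.style.haveILetI false
set_option maxHeartbeats 400000

universe u

open TensorProduct WithConv

namespace Groth.Agent.Deform.SubMT

open HomMT

variable {R : Type u} [CommRing R] {A : Type u} [CommRing A] [HopfAlgebra R A] {N : Type} [AddCommGroup N]

/-- The universal finite subgroup. -/
structure FinRep (R A : Type u) [CommRing R] [CommRing A] [HopfAlgebra R A] (N : Type) [AddCommGroup N] where
  /-- the ring -/
  C : Type u
  [cr : CommRing C]
  [alg : Algebra R C]
  /-- the universal map -/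
  φ : A →ₐ[R] MA N C
  fp : Algebra.FinitePresentation R C
  mult : Mult φ
  srj : Srj φ
  univ : ∀ (B : Type u) [CommRing B] [Algebra R B] (ψ : A →ₐ[R] MA N B), Mult ψ → Srj ψ →
    ∃! σ : C →ₐ[R] B, (push σ).comp φ = ψ

attribute [instance] FinRep.cr FinRep.alg

omit [HopfAlgebra R A] in
theorem coeff_full_apply [Bialgebra R A] {B : Type u} [CommRing B] [Algebra R B] (ψ : A →ₐ[R] MA N B) (m : N)
    (x : A) : (full ψ (1 ⊗ₜ x)).coeff (Multiplicative.ofAdd m) = coef ψ m x := by rw [full_one_tmul]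

/-- The ideal of coefficients is finitely generated. -/
theorem fg_coefIdeal [Finite N] [Algebra.FinitePresentation R A] {B : Type u} [CommRing B] [Algebra R B]
    (ψ : A →ₐ[R] MA N B) (m : N) : (coefIdeal ψ m).FG := by
  classical
  haveI := Fintype.ofFinite N
  haveI : Module.Finite B (MA N B) :=
    Module.Finite.equiv (MonoidAlgebra.coeffLinearEquiv B (S := B) (M := Multiplicative N)).symm
  obtain ⟨s, hs⟩ := (inferInstance : Algebra.FiniteType R A).out
  have hrange : Subalgebra.toSubmodule (Algebra.adjoin B ((ψ '' (s : Set A)) : Set (MA N B))) =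
      LinearMap.range (full ψ).toLinearMap := by
    refine Eq.trans (congrArg _ ?_) (Submodule.ext fun _ => Iff.rfl : Subalgebra.toSubmodule (full ψ).range = _)
    refine le_antisymm (Algebra.adjoin_le ?_) ?_
    · rintro _ ⟨x, -, rfl⟩
      exact ⟨1 ⊗ₜ x, full_one_tmul ψ x⟩
    · rintro _ ⟨z, rfl⟩
      induction z using TensorProduct.induction_on with
      | zero => simp
      | add a b ha hb =>
        show full ψ (a + b) ∈ _
        rw [map_add]
        exact add_mem ha hb
      | tmul b x =>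
        show full ψ (b ⊗ₜ x) ∈ _
        rw [full_tmul]
        refine Subalgebra.smul_mem _ ?_ b
        have hx : x ∈ Algebra.adjoin R (s : Set A) := hs ▸ Algebra.mem_top
        induction hx using Algebra.adjoin_induction with
        | mem y hy => exact Algebra.subset_adjoin ⟨y, hy, rfl⟩
        | algebraMap r =>
          rw [AlgHom.commutes, IsScalarTower.algebraMap_apply R B (MA N B)]
          exact Subalgebra.algebraMap_mem _ _
        | add a b _ _ ha hb => rw [map_add]; exact add_mem ha hb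
        | mul a b _ _ ha hb => rw [map_mul]; exact mul_mem ha hb
  have hfg : (LinearMap.range (full ψ).toLinearMap).FG := by
    rw [← hrange]
    exact fg_adjoin_of_finite (s.finite_toSet.image _) fun x _ => Algebra.IsIntegral.isIntegral x
  let c : MA N B →ₗ[B] B :=
    { toFun := fun z => z.coeff (Multiplicative.ofAdd m)
      map_add' := fun _ _ => by simp
      map_smul' := fun _ _ => by simp }
  have : coefIdeal ψ m = (LinearMap.range (full ψ).toLinearMap).map c := by
    refine le_antisymm (Ideal.span_le.mpr ?_) ?_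
    · rintro _ ⟨x, rfl⟩
      exact ⟨_, ⟨1 ⊗ₜ x, rfl⟩, coeff_full_apply ψ m x⟩
    · rintro _ ⟨_, ⟨z, rfl⟩, rfl⟩
      exact coeff_full_mem ψ m z
  rw [this]
  exact hfg.map c

/-- For a compatible map the ideals of coefficients are idempotent. -/
theorem isIdempotentElem_coefIdeal {B : Type u} [CommRing B] [Algebra R B] {ψ : A →ₐ[R] MA N B} (h : Mult ψ) (m : N) :
    IsIdempotentElem (coefIdeal ψ m) := by
  refine le_antisymm Ideal.mul_le_right (Ideal.span_le.mpr ?_)
  rintro _ ⟨x, rfl⟩
  have h' := congrArg (fun z : MA2 N B => z.coeff (Multiplicative.ofAdd m, Multiplicative.ofAdd m))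
    (DFunLike.congr_fun h x)
  simp only [AlgHom.comp_apply, coeff_dgn] at h'
  rw [coef, ← h']
  show ((toConv ((inlA R N B).comp ψ) * toConv ((inrA R N B).comp ψ)) x).coeff _ ∈ _
  rw [AlgHom.convMul_apply]
  generalize Coalgebra.comul (R := R) x = z
  induction z using TensorProduct.induction_on with
  | zero => simp
  | add a b ha hb =>
    rw [map_add, MonoidAlgebra.coeff_add, Finsupp.add_apply]
    exact add_mem ha hb
  | tmul a b =>
    rw [Algebra.TensorProduct.lift_tmul, AlgHom.comp_apply, AlgHom.comp_apply, coeff_inl_mul_inr]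
    exact Ideal.mul_mem_mul (Ideal.subset_span ⟨a, rfl⟩) (Ideal.subset_span ⟨b, rfl⟩)

/-- The algebra maps into a group algebra of a finite group are represented. -/
theorem exists_all [Finite N] [Algebra.FinitePresentation R A] :
    ∃ (C : Type u) (_ : CommRing C) (_ : Algebra R C) (ψ : A →ₐ[R] MA N C), Algebra.FinitePresentation R C ∧
      ∀ (B : Type u) [CommRing B] [Algebra R B] (ψ' : A →ₐ[R] MA N B), ∃! σ : C →ₐ[R] B, (push σ).comp ψ = ψ' := by
  classical
  haveI := Fintype.ofFinite N
  obtain ⟨n, π, hπ, s, hs⟩ := (inferInstance : Algebra.FinitePresentation R A).out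
  let P := MvPolynomial (Fin n × Multiplicative N) R
  let θ₀ : MvPolynomial (Fin n) R →ₐ[R] MA N P :=
    MvPolynomial.aeval fun j => ∑ m, MonoidAlgebra.single m (MvPolynomial.X (j, m))
  let J₁ : Ideal P := Ideal.span ↑(s.biUnion fun f => Finset.univ.image fun m => (θ₀ f).coeff m)
  let q₁ : P →ₐ[R] P ⧸ J₁ := Ideal.Quotient.mkₐ R J₁
  have hker : RingHom.ker π ≤ RingHom.ker ((push q₁).comp θ₀) := by
    show RingHom.ker π.toRingHom ≤ _
    rw [← hs, Ideal.span_le]
    intro f hf
    show (push q₁) (θ₀ f) = 0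
    ext k
    simp only [push, MonoidAlgebra.coeff_mapAlgHom, MonoidAlgebra.coeff_zero, Finsupp.coe_zero, Pi.zero_apply]
    exact Ideal.Quotient.eq_zero_iff_mem.mpr (Ideal.subset_span
      (Finset.mem_biUnion.mpr ⟨f, hf, Finset.mem_image_of_mem _ (Finset.mem_univ k)⟩))
  let ψ₁ : A →ₐ[R] MA N (P ⧸ J₁) :=
    (Ideal.Quotient.liftₐ (RingHom.ker π) ((push q₁).comp θ₀) fun x hx => hker hx).comp
      (Ideal.quotientKerAlgEquivOfSurjective hπ).symm.toAlgHom
  have hψ₁ : ∀ x, ψ₁ (π x) = push q₁ (θ₀ x) := fun x => by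
    show Ideal.Quotient.liftₐ (RingHom.ker π) ((push q₁).comp θ₀) (fun x hx => hker hx)
      ((Ideal.quotientKerAlgEquivOfSurjective hπ).symm (π x)) = _
    rw [show (Ideal.quotientKerAlgEquivOfSurjective hπ).symm (π x) = Ideal.Quotient.mk _ x from
      (AlgEquiv.symm_apply_eq _).mpr rfl]
    rfl
  refine ⟨P ⧸ J₁, inferInstance, inferInstance, ψ₁, Algebra.FinitePresentation.quotient ⟨_, rfl⟩,
    fun B _ _ ψ' => ?_⟩
  let σ₀ : P →ₐ[R] B := MvPolynomial.aeval fun p => (ψ' (π (MvPolynomial.X p.1))).coeff p.2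
  have hσ₀ : (push σ₀).comp θ₀ = ψ'.comp π := MvPolynomial.algHom_ext fun j => by
    rw [AlgHom.comp_apply, AlgHom.comp_apply, MvPolynomial.aeval_X, map_sum]
    ext k
    simp [push, σ₀, Finsupp.single_apply, apply_ite, Finset.sum_ite_eq']
    exact MvPolynomial.aeval_X _ _
  have hJ₁ : ∀ x ∈ J₁, σ₀ x = 0 := by
    intro x hx
    refine (Ideal.span_le.mpr ?_ : J₁ ≤ RingHom.ker σ₀) hx
    intro y hy
    obtain ⟨f, hf, hy⟩ := Finset.mem_biUnion.mp hy
    obtain ⟨k, -, rfl⟩ := Finset.mem_image.mp hy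
    have h := congrArg (fun z : MA N B => z.coeff k) (DFunLike.congr_fun hσ₀ f)
    have hf0 : π f = 0 := (hs ▸ Ideal.subset_span hf : f ∈ RingHom.ker π.toRingHom)
    simp only [AlgHom.comp_apply, push, MonoidAlgebra.coeff_mapAlgHom, hf0, map_zero, MonoidAlgebra.coeff_zero,
      Finsupp.coe_zero, Pi.zero_apply] at h
    exact h
  refine ⟨Ideal.Quotient.liftₐ J₁ σ₀ hJ₁, AlgHom.ext fun x => ?_, fun τ hτ => ?_⟩
  · obtain ⟨x, rfl⟩ := hπ x
    rw [AlgHom.comp_apply, hψ₁, ← AlgHom.comp_apply, push_comp]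
    exact DFunLike.congr_fun hσ₀ x
  · refine Ideal.Quotient.algHom_ext R (MvPolynomial.algHom_ext fun p => ?_)
    show τ (q₁ (MvPolynomial.X p)) = σ₀ (MvPolynomial.X p)
    rw [MvPolynomial.aeval_X, ← hτ, AlgHom.comp_apply, hψ₁, MvPolynomial.aeval_X]
    simp [push, Finsupp.single_apply, apply_ite]

/-- The finite subgroups of given type are represented. -/
theorem nonempty_finRep [Finite N] [Algebra.FinitePresentation R A] : Nonempty (FinRep R A N) := by
  classical
  haveI := Fintype.ofFinite N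
  obtain ⟨C₁, i₁, j₁, ψ₁, hfp, h₁⟩ := exists_all (R := R) (A := A) (N := N)
  letI := i₁
  letI := j₁
  haveI := hfp
  obtain ⟨s, hs⟩ := (inferInstance : Algebra.FiniteType R A).out
  let dfc : A → MA2 N C₁ := fun x =>
    (toConv ((inlA R N C₁).comp ψ₁) * toConv ((inrA R N C₁).comp ψ₁)).ofConv x - dgnA R N C₁ (ψ₁ x)
  let J : Ideal C₁ := Ideal.span ↑(s.biUnion fun x => Finset.univ.image fun k => (dfc x).coeff k)
  have hdfc : ∀ (B : Type u) [CommRing B] [Algebra R B] (σ : C₁ →ₐ[R] B) (x : A),
      MonoidAlgebra.mapAlgHom _ σ (dfc x) =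
        (toConv ((inlA R N B).comp ((push σ).comp ψ₁)) * toConv ((inrA R N B).comp ((push σ).comp ψ₁))).ofConv x -
          dgnA R N B (push σ (ψ₁ x)) := by
    intro B _ _ σ x
    rw [map_sub, push2_mapDomain]
    congr 1
    refine (DFunLike.congr_fun (AlgHom.comp_convMul_distrib
      (MonoidAlgebra.mapAlgHom (Multiplicative N × Multiplicative N) σ) (toConv ((inlA R N C₁).comp ψ₁))
      (toConv ((inrA R N C₁).comp ψ₁))) x).trans ?_
    rw [ofConv_toConv, ofConv_toConv]
    congr 4 <;> exact AlgHom.ext fun y => push2_mapDomain σ _ _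
  let q₂ : C₁ →ₐ[R] C₁ ⧸ J := Ideal.Quotient.mkₐ R J
  let ψ₂ : A →ₐ[R] MA N (C₁ ⧸ J) := (push q₂).comp ψ₁
  have hm₂ : Mult ψ₂ := AlgHom.ext_of_adjoin_eq_top hs fun x hx => sub_eq_zero.mp (by
    have e := hdfc _ q₂ x
    refine Eq.trans e.symm ?_
    ext k
    simp only [MonoidAlgebra.coeff_mapAlgHom, MonoidAlgebra.coeff_zero, Finsupp.coe_zero, Pi.zero_apply]
    exact Ideal.Quotient.eq_zero_iff_mem.mpr (Ideal.subset_span
      (Finset.mem_biUnion.mpr ⟨x, hx, Finset.mem_image_of_mem _ (Finset.mem_univ k)⟩)))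
  have hJ : ∀ (B : Type u) [CommRing B] [Algebra R B] (σ : C₁ →ₐ[R] B), Mult ((push σ).comp ψ₁) →
      ∀ c ∈ J, σ c = 0 := fun B _ _ σ hm c hc => by
    refine (Ideal.span_le.mpr ?_ : J ≤ RingHom.ker σ) hc
    intro y hy
    obtain ⟨x, -, hy⟩ := Finset.mem_biUnion.mp hy
    obtain ⟨k, -, rfl⟩ := Finset.mem_image.mp hy
    have e := (hdfc B σ x).trans (sub_eq_zero.mpr (DFunLike.congr_fun hm x))
    have := congrArg (fun z : MA2 N B => z.coeff k) e
    simpa using this
  haveI : Algebra.FinitePresentation R (C₁ ⧸ J) := Algebra.FinitePresentation.quotient ⟨_, rfl⟩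
  choose e he heq using fun m : N =>
    (Ideal.isIdempotentElem_iff_of_fg _ (fg_coefIdeal ψ₂ m)).mp (isIdempotentElem_coefIdeal hm₂ m)
  let g := ∏ m, e m
  let q₃ : C₁ ⧸ J →ₐ[R] Localization.Away g := IsScalarTower.toAlgHom R (C₁ ⧸ J) _
  have hfp' : Algebra.FinitePresentation R (Localization.Away g) := by
    haveI : Algebra.FinitePresentation (C₁ ⧸ J) (Localization.Away g) := IsLocalization.Away.finitePresentation g
    exact Algebra.FinitePresentation.trans R (C₁ ⧸ J) _
  have hsrj : Srj ((push q₃).comp ψ₂) := (srj_iff (hm₂.map q₃)).mpr fun m => by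
    rw [coefIdeal_push, heq, Ideal.map_span, Set.image_singleton, Ideal.span_singleton_eq_top]
    have h : IsUnit (q₃ g) := IsLocalization.Away.algebraMap_isUnit g
    rw [map_prod, IsUnit.prod_iff] at h
    exact h m (Finset.mem_univ m)
  refine ⟨{ C := Localization.Away g, φ := (push q₃).comp ψ₂, fp := hfp', mult := hm₂.map q₃, srj := hsrj,
             univ := fun B _ _ ψ' hm' hs' => ?_ }⟩
  obtain ⟨σ₁, hσ₁, huniq⟩ := h₁ B ψ'
  let σ₂ : C₁ ⧸ J →ₐ[R] B := Ideal.Quotient.liftₐ J σ₁ (hJ B σ₁ (hσ₁.symm ▸ hm'))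
  have hσ₂ : (push σ₂).comp ψ₂ = ψ' := by
    rw [← AlgHom.comp_assoc, push_comp]
    exact hσ₁
  have hu : IsUnit (σ₂ g) := by
    rw [map_prod, IsUnit.prod_iff]
    intro m _
    have h := coefIdeal_eq_top hs' m
    rw [← hσ₂, coefIdeal_push, heq, Ideal.map_span, Set.image_singleton, Ideal.span_singleton_eq_top] at h
    exact h
  let σ : Localization.Away g →ₐ[R] B := IsLocalization.Away.liftAlgHom g hu
  have hσq : σ.comp q₃ = σ₂ := AlgHom.ext fun x => IsLocalization.Away.lift_eq g hu x
  refine ⟨σ, show (push σ).comp ((push q₃).comp ψ₂) = ψ' by rw [← AlgHom.comp_assoc, push_comp, hσq, hσ₂],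
    fun τ hτ => ?_⟩
  refine IsLocalization.algHom_ext (Submonoid.powers g) (Ideal.Quotient.algHom_ext R ?_)
  have h := huniq ((τ.comp q₃).comp q₂) (by
    show (push ((τ.comp q₃).comp q₂)).comp ψ₁ = ψ'
    rw [← push_comp, ← push_comp, AlgHom.comp_assoc, AlgHom.comp_assoc]
    exact hτ)
  refine Eq.trans h ?_
  show σ₁ = (σ.comp q₃).comp q₂
  rw [hσq]
  exact AlgHom.ext fun x => rfl

/-- The automorphisms of the characters. -/
abbrev Gam (N : Type) [AddCommGroup N] : Type := Multiplicative (AddAut N)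

noncomputable instance [Finite N] : Fintype (Gam N) :=
  haveI : Finite (AddAut N) := Finite.of_injective (fun e : N ≃+ N => (e : N → N)) DFunLike.coe_injective
  Fintype.ofFinite _

namespace FinRep

variable (F : FinRep R A N)

theorem ext_φ {B : Type u} [CommRing B] [Algebra R B] {σ τ : F.C →ₐ[R] B}
    (h : (push σ).comp F.φ = (push τ).comp F.φ) : σ = τ :=
  (F.univ B _ (F.mult.map τ) (F.srj.map F.mult τ)).unique h rfl

/-- The representing algebra is smooth when the group is. -/
theorem smooth [Algebra.FormallySmooth R A] : Algebra.Smooth R F.C := by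
  haveI := F.fp
  refine ⟨Algebra.FormallySmooth.of_comp_surjective fun B _ _ I hI g => ?_, inferInstance⟩
  obtain ⟨ψ, hψ, hψq⟩ := exists_lift I hI ((push g).comp F.φ) (F.mult.map g)
  have hs : Srj ψ := (srj_iff hψ).mpr fun m => by
    have h := coefIdeal_eq_top (F.srj.map F.mult g) m
    rw [← hψq, coefIdeal_push] at h
    rw [Ideal.eq_top_iff_one]
    have h1 : (1 : B ⧸ I) ∈ (coefIdeal ψ m).map (Ideal.Quotient.mkₐ R I).toRingHom := h ▸ Submodule.mem_top
    obtain ⟨c, hc, hc1⟩ := (Ideal.mem_map_iff_of_surjective _ (Ideal.Quotient.mk_surjective (I := I))).mp h1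
    have h2 : IsNilpotent (c - 1) := ⟨2, by
      have := Ideal.pow_mem_pow (Ideal.Quotient.eq.mp (hc1.trans (map_one (Ideal.Quotient.mk I)).symm) : c - 1 ∈ I) 2
      rw [hI] at this
      exact (Submodule.mem_bot _).mp this⟩
    have h3 := h2.isUnit_add_one
    rw [sub_add_cancel] at h3
    rw [Ideal.eq_top_of_isUnit_mem _ hc h3]
    trivial
  obtain ⟨σ, hσ, -⟩ := F.univ B ψ hψ hs
  refine ⟨σ, F.ext_φ ?_⟩
  rw [← push_comp, AlgHom.comp_assoc, hσ, hψq]

theorem Mult_reM {B : Type u} [CommRing B] [Algebra R B] {ψ : A →ₐ[R] MA N B} (h : Mult ψ) (e : N ≃+ N) :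
    Mult ((reM e.toAddMonoidHom).comp ψ) := mult_reM h _

/-- The map of an automorphism. -/
noncomputable def twist (e : N ≃+ N) : F.C →ₐ[R] F.C :=
  (F.univ F.C ((reM e.toAddMonoidHom).comp F.φ) (mult_reM F.mult _) (F.srj.reindex e.surjective)).exists.choose

theorem twist_spec (e : N ≃+ N) : (push (F.twist e)).comp F.φ = (reM e.toAddMonoidHom).comp F.φ :=
  (F.univ F.C ((reM e.toAddMonoidHom).comp F.φ) (mult_reM F.mult _) (F.srj.reindex e.surjective)).exists.choose_spec

theorem twist_comp (e e' : N ≃+ N) : (F.twist e).comp (F.twist e') = F.twist (e.trans e') := by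
  refine F.ext_φ ?_
  rw [← push_comp, AlgHom.comp_assoc, twist_spec, ← AlgHom.comp_assoc, push_reM, AlgHom.comp_assoc, twist_spec,
    ← AlgHom.comp_assoc, reM_comp, twist_spec]
  rfl

theorem twist_refl : F.twist (AddEquiv.refl N) = AlgHom.id R F.C := by
  refine F.ext_φ ?_
  rw [twist_spec]
  refine AlgHom.ext fun x => ?_
  ext k
  show ((reM (R := R) (AddEquiv.refl N).toAddMonoidHom) (F.φ x)).coeff k = (push (AlgHom.id R F.C) (F.φ x)).coeff k
  rw [show (push (AlgHom.id R F.C) (F.φ x)).coeff k = (F.φ x).coeff k by simp [push]]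
  exact coeff_mapDomain_of_injective _ (fun _ _ h => h) _ k

/-- The action of the automorphisms. -/
noncomputable instance : MulSemiringAction (Gam N) F.C where
  smul e c := F.twist (AddEquiv.symm (Multiplicative.toAdd e)) c
  one_smul c := by
    show F.twist (AddEquiv.symm (Multiplicative.toAdd (1 : Gam N))) c = c
    rw [show AddEquiv.symm (Multiplicative.toAdd (1 : Gam N)) = AddEquiv.refl N from rfl, twist_refl]
    rfl
  mul_smul e e' c := by
    show F.twist (AddEquiv.symm (Multiplicative.toAdd (e * e'))) c = F.twist (AddEquiv.symm (Multiplicative.toAdd e)) (F.twist (AddEquiv.symm (Multiplicative.toAdd e')) c)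
    rw [← AlgHom.comp_apply, twist_comp]
    rfl
  smul_zero e := map_zero (F.twist (AddEquiv.symm (Multiplicative.toAdd e)))
  smul_add e := map_add (F.twist (AddEquiv.symm (Multiplicative.toAdd e)))
  smul_one e := map_one (F.twist (AddEquiv.symm (Multiplicative.toAdd e)))
  smul_mul e := map_mul (F.twist (AddEquiv.symm (Multiplicative.toAdd e)))

theorem smul_def (e : Gam N) (c : F.C) : e • c = F.twist (AddEquiv.symm (Multiplicative.toAdd e)) c := rfl

instance : SMulCommClass (Gam N) R F.C :=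
  ⟨fun e r c => map_smul (F.twist (AddEquiv.symm (Multiplicative.toAdd e))) r c⟩

/-- The invariants. -/
noncomputable def inv : Subalgebra R F.C where
  carrier := { c | ∀ e : Gam N, e • c = c }
  mul_mem' ha hb e := by rw [smul_mul', ha e, hb e]
  add_mem' ha hb e := by rw [smul_add, ha e, hb e]
  algebraMap_mem' r e := (F.twist (AddEquiv.symm (Multiplicative.toAdd e))).commutes r

instance : SMulCommClass (Gam N) F.inv F.C :=
  ⟨fun e r c => by
    show e • ((r : F.C) * c) = (r : F.C) * e • c
    rw [smul_mul', r.2 e]⟩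

instance : Algebra.IsInvariant F.inv F.C (Gam N) := ⟨fun c hc => ⟨⟨c, hc⟩, rfl⟩⟩

/-- The action is free. -/
theorem isFree : IsFree F.C (Gam N) := by
  intro e he p hp
  by_contra! hall
  let K := p.ResidueField
  let π : F.C →ₐ[R] K := IsScalarTower.toAlgHom R F.C K
  have hπ : π.comp (F.twist (AddEquiv.symm (Multiplicative.toAdd e))) = π := AlgHom.ext fun c => by
    have h : algebraMap F.C K (c - e • c) = 0 := Ideal.algebraMap_residueField_eq_zero.mpr (hall c)
    rw [map_sub, sub_eq_zero] at h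
    exact h.symm
  have h := congrArg (fun σ => (push σ).comp F.φ) hπ
  simp only [← push_comp, AlgHom.comp_assoc, twist_spec] at h
  rw [← AlgHom.comp_assoc, push_reM, AlgHom.comp_assoc] at h
  refine he ?_
  have hid : ∀ n : N, AddEquiv.symm (Multiplicative.toAdd e) n = n := fun n => by
    obtain ⟨z, hz⟩ := F.srj.map F.mult π (MonoidAlgebra.single (Multiplicative.ofAdd n) 1)
    have h2 := full_reM ((push π).comp F.φ) (AddEquiv.symm (Multiplicative.toAdd e)).toAddMonoidHom z
    rw [h, hz] at h2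
    have h3 : MonoidAlgebra.single (Multiplicative.ofAdd n) (1 : K) =
        MonoidAlgebra.single (Multiplicative.ofAdd (AddEquiv.symm (Multiplicative.toAdd e) n)) 1 := h2.trans MonoidAlgebra.mapDomain_single
    exact (Multiplicative.ofAdd.injective (MonoidAlgebra.single_left_injective one_ne_zero h3)).symm
  refine Multiplicative.toAdd.injective (AddEquiv.ext fun n => ?_)
  have := hid (Multiplicative.toAdd e n)
  rw [AddEquiv.symm_apply_apply] at this
  exact this.symm

end FinRep

end Groth.Agent.Deform.SubMT
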