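import Groth.Agent.Deform.SubMT.Type
import Groth.Agent.SrcDescent.Scheme

/-!
# Finite subgroups of multiplicative type

The charts of the finite types cover the finite subgroups; the pieces of a given type are open, closed and affine over
the base.
-/

set_option autoImplicit false
set_option linter.style.haveILetI false
set_option backward.isDefEq.respectTransparency false
set_option backward.isDefEq.respectTransparency.types false
set_option maxHeartbeats 600000

universe u

open CategoryTheory CategoryTheory.Limits AlgebraicGeometry TopologicalSpace Opposite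
open MonoidalCategory CartesianMonoidalCategory MonObj GrpObj

namespace Groth.Agent.Deform.SubMT

open HomMT

variable {S : Scheme.{u}}

/-- The index of the finite charts. -/
structure IdxF (S : Scheme.{u}) : Type u where
  /-- open -/
  V : S.affineOpens
  /-- rank -/
  r : ℕ
  /-- relations -/
  L : AddSubgroup (Fin r → ℤ)
  fin : Finite ((Fin r → ℤ) ⧸ L)

variable {G : Over S} [GrpObj G] [IsAffineHom G.hom]

/-- Charts of all finite types over all affine opens. -/
theorem exists_charts_finite [LocallyOfFinitePresentation G.hom] :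
    ∃ (κ : Type u) (V : κ → S.affineOpens) (c : ∀ i, Chart G (V i)),
      (∀ i, Finite (c i).M) ∧ (∀ i, (c i).g0 = 1) ∧
      ∀ (V₀ : S.affineOpens) (N : Type) [AddCommGroup N] [Finite N], ∃ i, V i = V₀ ∧ Nonempty ((c i).M ≃+ N) ∧
        ∀ (T : Scheme.{u}) (f : Fam G T) (B : Type u) [CommRing B] [Algebra (RV V₀) B]
          (e : Spec (CommRingCat.of B) ⟶ T) (M : Type) [AddCommGroup M] (ψ : AV G V₀ →ₐ[RV V₀] MA M B),
          IsTriv G f.1 f.2.1 V₀ e ψ → Nonempty (M ≃+ N) → ∀ p, (c i).InChart f (e p) := by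
  have hch : ∀ i : IdxF S, ∃ c : Chart G i.V, ∃ _ : c.M ≃+ (Fin i.r → ℤ) ⧸ i.L,
      (∀ (B : Type u) [CommRing B] [Algebra (RV i.V) B] ψ, c.P B ψ) ∧ c.g0 = 1 := fun i => by
    haveI := i.fin
    exact exists_chart_finite i.V _
  choose c e hP hg0 using hch
  refine ⟨IdxF S, fun i => i.V, c, fun i => ?_, hg0, fun V₀ N _ _ => ?_⟩
  · haveI := i.fin
    exact Finite.of_equiv _ (e i).toEquiv.symm
  · haveI : AddGroup.FG N := Module.Finite.iff_addGroup_fg.mp inferInstance
    obtain ⟨r, L, ⟨h⟩⟩ := exists_model N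
    let i : IdxF S := ⟨V₀, r, L, Finite.of_equiv _ h.toEquiv⟩
    refine ⟨i, rfl, ⟨(e i).trans h.symm⟩, fun T f B _ _ w M _ ψ htr ⟨h'⟩ p => ?_⟩
    exact inChart_of_unit (c i) f htr ((h'.trans h).trans (e i).symm) 1 (hP i _ _) p
      fun h1 => p.isPrime.ne_top ((Ideal.eq_top_iff_one _).mpr h1)

/-- With trivial equation the chart is affine. -/
theorem Chart.isAffine_Q {V : S.affineOpens} (c : Chart G V) (h : c.g0 = 1) : IsAffine c.Q := by
  have htop : c.Qo = ⊤ := by
    refine TopologicalSpace.Opens.ext (Set.eq_univ_of_forall fun z => ?_)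
    obtain ⟨x, hx⟩ := (etale_of_isFree c.inv_injective c.F.isFree).2.surj z
    obtain ⟨y, hy⟩ : x ∈ Set.range (Spec.map (CommRingCat.ofHom (algebraMap c.F.C c.O))) := by
      show x ∈ Set.range (PrimeSpectrum.comap (algebraMap c.F.C (Localization.Away c.g0)))
      rw [PrimeSpectrum.localization_away_comap_range (Localization.Away c.g0) c.g0, h, PrimeSpectrum.basicOpen_one]
      trivial
    exact ⟨y, by rw [Chart.o, Scheme.Hom.comp_apply, hy]; exact hx⟩
  show IsAffineOpen c.Qo
  rw [htop]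
  exact isAffineOpen_top _

/-- A chart is locally of finite presentation. -/
theorem Chart.lfp_str {V : S.affineOpens} (c : Chart G V) : LocallyOfFinitePresentation c.str := by
  haveI := c.F.fp
  haveI : Algebra.FinitePresentation c.F.C c.O := IsLocalization.Away.finitePresentation c.g0
  haveI : Algebra.FinitePresentation (RV V) c.O := Algebra.FinitePresentation.trans (RV V) c.F.C c.O
  haveI : LocallyOfFinitePresentation (Spec.map (CommRingCat.ofHom (algebraMap (RV V) c.O))) :=
    (HasRingHomProperty.Spec_iff (P := @LocallyOfFinitePresentation)).mpr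
      (RingHom.finitePresentation_algebraMap.mpr inferInstance)
  refine SrcDescent.locallyOfFinitePresentation_of_smooth_comp c.oQ c.str ?_
  rw [c.oQ_str]
  infer_instance

set_option maxHeartbeats 1000000 in
/-- The scheme of finite subgroups of multiplicative type. -/
theorem exists_finite_rep [LocallyOfFinitePresentation G.hom] :
    ∃ (X : Scheme.{u}) (u : Fam G X),
      (∀ x : X, ∃ U : X.Opens, x ∈ U ∧ IsClosed (U : Set X) ∧ IsAffineHom (U.ι ≫ u.1)) ∧ IsFinite (subK u.2.1).hom ∧
      (∀ (T : Scheme.{u}) (f : T ⟶ S) (K' : Over T) [GrpObj K'] (j' : K' ⟶ Red.bc f G) [IsMonHom j']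
        [IsClosedImmersion j'.left] (hK : SGA3x.IsMultTypeFT K'), IsFinite K'.hom →
          ∃! v : T ⟶ X, Fam.pull v u = ⟨f, j'.left.ker, isSub_ker j' hK⟩) ∧
      LocallyOfFinitePresentation u.1 := by
  obtain ⟨κ, V, c, hfin, hg0, hch⟩ := exists_charts_finite (G := G)
  obtain ⟨X, p, u, rfl, hu, huniv, w, hwo, hw, hrange⟩ := exists_rep c
  haveI := hwo
  have hwstr : ∀ i, w i ≫ u.1 = (c i).str := fun i => congrArg Sigma.fst (hw i)
  refine ⟨X, u, fun x => ?_, ?_, fun T f K' _ j' _ _ hK hf => huniv T _ fun t => ?_, ?_⟩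
  · obtain ⟨i₀, hi₀⟩ := hu x
    let good : κ → Prop := fun i => Nonempty ((c i).M ≃+ (c i₀).M)
    let U : X.Opens := ⨆ (i) (_ : good i), (w i).opensRange
    have hmem : ∀ y, y ∈ U ↔ ∃ i, good i ∧ (c i).InChart u y := fun y => by
      simp only [U, Opens.mem_iSup, ← hrange]
      exact ⟨fun ⟨i, hi, hy⟩ => ⟨i, hi, hy⟩, fun ⟨i, hi, hy⟩ => ⟨i, hi, hy⟩⟩
    -- two charts through a point have the same type
    have huq : ∀ (y : X) i j, (c i).InChart u y → (c j).InChart u y → Nonempty ((c i).M ≃+ (c j).M) := fun y i j hi hj => by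
      obtain ⟨B, _, _, e, M, _, ψ, -, ⟨q, rfl⟩, -, htr⟩ := exists_triv u.2.2 (V i) y ((c i).inChart_mem hi)
      obtain ⟨a⟩ := (c i).nonempty_addEquiv htr q hi
      obtain ⟨b⟩ := (c j).nonempty_addEquiv htr q hj
      exact ⟨a.trans b.symm⟩
    refine ⟨U, (hmem x).mpr ⟨i₀, ⟨AddEquiv.refl _⟩, hi₀⟩, ?_, ?_⟩
    · have : (U : Set X)ᶜ = ⋃ (i) (_ : ¬ good i), Set.range (w i) := by
        ext y
        rw [Set.mem_compl_iff, SetLike.mem_coe, hmem]
        simp only [Set.mem_iUnion, hrange, exists_prop]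
        constructor
        · intro hy
          obtain ⟨i, hi⟩ := hu y
          exact ⟨i, fun hg => hy ⟨i, hg, hi⟩, hi⟩
        · rintro ⟨j, hj, hjy⟩ ⟨i, ⟨hg⟩, hiy⟩
          obtain ⟨a⟩ := huq y j i hjy hiy
          exact hj ⟨a.trans hg⟩
      rw [← isOpen_compl_iff, this]
      exact isOpen_biUnion fun i _ => (w i).isOpenEmbedding.isOpen_range
    · refine ⟨fun W hW => ?_⟩
      haveI := hfin i₀
      obtain ⟨i, hiV, hiN, hiU⟩ := hch ⟨W, hW⟩ (c i₀).M
      rw [← U.ι.isAffineOpen_iff_of_isOpenImmersion]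
      haveI := (c i).isAffine_Q (hg0 i)
      convert isAffineOpen_opensRange (w i) using 1
      rw [Scheme.Hom.comp_preimage, Scheme.Hom.image_preimage_eq_opensRange_inf, Scheme.Opens.opensRange_ι]
      ext y
      · constructor
        · rintro ⟨hyU, hyW⟩
          obtain ⟨j, ⟨hj⟩, hjy⟩ := (hmem y).mp hyU
          obtain ⟨B, _, _, e, M, _, ψ, -, ⟨q, rfl⟩, -, htr⟩ := exists_triv u.2.2 ⟨W, hW⟩ y hyW
          obtain ⟨a⟩ := (c j).nonempty_addEquiv htr q hjy
          exact (hrange i _).mpr (hiU X u B e M ψ htr ⟨a.symm.trans hj⟩ q)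
        · intro hy
          have hy' := (hrange i y).mp hy
          refine ⟨(hmem y).mpr ⟨i, hiN, hy'⟩, ?_⟩
          have := (c i).inChart_mem hy'
          rw [hiV] at this
          exact this
  · refine isFinite_subK u.2.2 fun x => ?_
    obtain ⟨i, hi⟩ := hu x
    obtain ⟨B, _, _, e, M, _, ψ, he, ⟨q, hq⟩, -, htr⟩ := exists_triv u.2.2 (V i) x ((c i).inChart_mem hi)
    haveI := hfin i
    obtain ⟨a⟩ := (c i).nonempty_addEquiv htr q (hq.symm ▸ hi)
    exact ⟨V i, B, inferInstance, inferInstance, e, M, inferInstance, ψ, he, ⟨q, hq⟩,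
      Finite.of_equiv _ a.toEquiv, htr⟩
  · haveI := hf
    obtain ⟨W, hW, htW, -⟩ := exists_isAffineOpen_mem_and_subset (X := S) (x := f t) (U := ⊤) trivial
    obtain ⟨B, _, _, e, M, _, ψ, -, ⟨q, rfl⟩, -, htr⟩ := exists_triv_of_grp j' hK ⟨W, hW⟩ t htW
    haveI := finite_of_isFinite j' hK htr q
    obtain ⟨i, -, -, hi⟩ := hch ⟨W, hW⟩ M
    exact ⟨i, hi T ⟨f, j'.left.ker, isSub_ker j' hK⟩ B e M ψ htr ⟨AddEquiv.refl M⟩ q⟩
  · refine IsZariskiLocalAtSource.of_openCover (P := @LocallyOfFinitePresentation)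
      (Scheme.Cover.mkOfCovers κ (fun i => (c i).Q) w (fun x => ?_) fun _ => inferInstance) fun i => ?_
    · obtain ⟨i, hi⟩ := hu x
      exact ⟨i, (hrange i x).mpr hi⟩
    · show LocallyOfFinitePresentation (w i ≫ u.1)
      rw [hwstr]
      exact (c i).lfp_str

end Groth.Agent.Deform.SubMT
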