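import Groth.Agent.Deform.SubMT.Srj
import Groth.Agent.Deform.HomMT.Lift
import Groth.Agent.GrpSchLib.DiagActionRigid
import Mathlib.AlgebraicGeometry.IdealSheaf.Functorial
import Mathlib.Algebra.Category.Ring.Constructions

/-!
# The subgroups defined by compatible algebra maps

Over an affine piece of the base the group is the spectrum of a Hopf algebra `A`, and a compatible map `A → B[M]` gives
a morphism `D(M)_B ⟶ G_B`; it is a homomorphism, a closed immersion when `B ⊗ A → B[M]` is surjective, and its kernel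
is compatible with base change.
-/

set_option autoImplicit false
set_option linter.style.haveILetI false
set_option backward.isDefEq.respectTransparency false
set_option backward.isDefEq.respectTransparency.types false
set_option maxHeartbeats 600000

universe u

open CategoryTheory CategoryTheory.Limits MonoidalCategory CartesianMonoidalCategory MonObj GrpObj AlgebraicGeometry
open TensorProduct WithConv

namespace Groth.Agent.Deform.SubMT

open HomMT

section BaseMap

variable {S : Scheme.{u}} (G : Over S)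

/-- The map of base changes over a map of test schemes. -/
noncomputable def bm {T T' : Scheme.{u}} (e : T' ⟶ T) (g : T ⟶ S) (g' : T' ⟶ S) (h : e ≫ g = g') :
    pullback G.hom g' ⟶ pullback G.hom g :=
  pullback.map _ _ _ _ (𝟙 _) e (𝟙 _) (by simp) (by simp [h])

variable {G} {T T' T'' : Scheme.{u}} {e : T' ⟶ T} {g : T ⟶ S} {g' : T' ⟶ S} (h : e ≫ g = g')

@[reassoc]
theorem bm_fst : bm G e g g' h ≫ pullback.fst _ _ = pullback.fst _ _ :=
  (pullback.lift_fst _ _ _).trans (Category.comp_id _)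

@[reassoc]
theorem bm_snd : bm G e g g' h ≫ pullback.snd _ _ = pullback.snd _ _ ≫ e := pullback.lift_snd _ _ _

theorem isPullback_bm : IsPullback (bm G e g g' h) (pullback.snd _ _) (pullback.snd _ _) e := by
  refine IsPullback.of_right ?_ (bm_snd h) (IsPullback.of_hasPullback G.hom g)
  rw [bm_fst, h]
  exact IsPullback.of_hasPullback G.hom g'

theorem bm_comp {e' : T'' ⟶ T'} {g'' : T'' ⟶ S} (h' : e' ≫ g' = g'') (h'' : (e' ≫ e) ≫ g = g'') :
    bm G e' g' g'' h' ≫ bm G e g g' h = bm G (e' ≫ e) g g'' h'' := by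
  apply pullback.hom_ext
  · rw [Category.assoc, bm_fst, bm_fst, bm_fst]
  · rw [Category.assoc, bm_snd, bm_snd_assoc, bm_snd]

theorem bm_congr {e₁ e₂ : T' ⟶ T} (he : e₁ = e₂) (h₁ : e₁ ≫ g = g') (h₂ : e₂ ≫ g = g') :
    bm G e₁ g g' h₁ = bm G e₂ g g' h₂ := by subst he; rfl

theorem bm_id (h₀ : 𝟙 T ≫ g = g) : bm G (𝟙 T) g g h₀ = 𝟙 _ := by
  apply pullback.hom_ext <;> simp [bm]

end BaseMap

variable {S : Scheme.{u}} {R : Type u} [CommRing R] (β : Spec (CommRingCat.of R) ⟶ S)

/-- The structure map of an affine test scheme. -/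
noncomputable abbrev bb (B : Type u) [CommRing B] [Algebra R B] : Spec (CommRingCat.of B) ⟶ S :=
  Spec.map (CommRingCat.ofHom (algebraMap R B)) ≫ β

theorem spec_bb {B B' : Type u} [CommRing B] [Algebra R B] [CommRing B'] [Algebra R B'] (σ : B →ₐ[R] B') :
    Spec.map (CommRingCat.ofHom σ.toRingHom) ≫ bb β B = bb β B' := by
  rw [← Spec.map_comp_assoc, ← CommRingCat.ofHom_comp]
  exact congrArg (fun r => Spec.map (CommRingCat.ofHom r) ≫ β) σ.comp_algebraMap

/-- Multiplicativity of a projection on points. -/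
def IsMulPts (G : Over S) [GrpObj G] {A : Type u} [CommRing A] [HopfAlgebra R A]
    (p : Spec (CommRingCat.of A) ⟶ G.left) : Prop :=
  ∀ (C : Type u) [CommRing C] [Algebra R C] (f g : A →ₐ[R] C) (x y : Over.mk (bb β C) ⟶ G),
    x.left = Spec.map (CommRingCat.ofHom f.toRingHom) ≫ p → y.left = Spec.map (CommRingCat.ofHom g.toRingHom) ≫ p →
      (x * y).left = Spec.map (CommRingCat.ofHom (toConv f * toConv g).ofConv.toRingHom) ≫ p

/-- Coordinates of the group over an affine piece. -/
structure GC (G : Over S) [GrpObj G] (A : Type u) [CommRing A] [HopfAlgebra R A] where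
  /-- the projection -/
  p : Spec (CommRingCat.of A) ⟶ G.left
  sq : IsPullback p (Spec.map (CommRingCat.ofHom (algebraMap R A))) G.hom β
  mul : IsMulPts β G p

variable {β} {G : Over S} [GrpObj G] {A : Type u} [CommRing A] [HopfAlgebra R A] (K : GC β G A)

theorem GC.w {C : Type u} [CommRing C] [Algebra R C] (f : A →ₐ[R] C) :
    (Spec.map (CommRingCat.ofHom f.toRingHom) ≫ K.p) ≫ G.hom = bb β C := by
  rw [Category.assoc, K.sq.w]
  exact spec_bb β f

/-- An affine piece of the base has coordinates. -/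
theorem exists_gc (G : Over S) [GrpObj G] [IsAffineHom G.hom] (β : Spec (CommRingCat.of R) ⟶ S) :
    ∃ (A : Type u) (_ : CommRing A) (_ : HopfAlgebra R A), Nonempty (GC β G A) := by
  haveI : IsAffineHom (pullback.snd G.hom β) := MorphismProperty.pullback_snd _ _ inferInstance
  haveI : IsAffine (Red.bc β G).left := isAffine_of_isAffineHom (pullback.snd G.hom β)
  obtain ⟨A, iA, hopA, ⟨e⟩⟩ := GrpSchLib.AffineHopf.exists_hopf (Red.bc β G)
  let ei : GrpSchLib.AffineHopf.sp R A ≅ Red.bc β G := (Grp.forget _).mapIso e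
  haveI : IsMonHom ei.hom := e.hom.hom.isMonHom_hom
  haveI : IsIso ei.hom.left := ((Over.forget _).mapIso ei).isIso_hom
  have hsq : IsPullback (ei.hom.left ≫ pullback.fst G.hom β) (Spec.map (CommRingCat.ofHom (algebraMap R A)))
      G.hom β := by
    refine IsPullback.of_iso_pullback ⟨?_⟩ (asIso ei.hom.left) rfl (Over.w ei.hom)
    rw [Category.assoc, pullback.condition]
    exact congrArg (· ≫ β) (Over.w ei.hom)
  refine ⟨A, iA, hopA, ⟨⟨ei.hom.left ≫ pullback.fst G.hom β, hsq, fun C _ _ f g x y hx hy => ?_⟩⟩⟩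
  let tr : Over.mk (bb β C) ⟶ (Over.map β).obj (GrpSchLib.AffineHopf.sp R C) :=
    Over.homMk (𝟙 _) (Category.id_comp _)
  let pnt : (A →ₐ[R] C) → (Over.mk (bb β C) ⟶ G) := fun f =>
    tr ≫ DSPtsLib.theta β (GrpSchLib.AffineHopf.spMap f ≫ ei.hom)
  have hl : ∀ f, (pnt f).left =
      Spec.map (CommRingCat.ofHom f.toRingHom) ≫ ei.hom.left ≫ pullback.fst G.hom β := fun f => by
    show 𝟙 _ ≫ _ = _
    rw [Category.id_comp]
    show (GrpSchLib.AffineHopf.spMap f ≫ ei.hom).left ≫ pullback.fst G.hom β = _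
    rw [Over.comp_left, Category.assoc]
    rfl
  rw [show x = pnt f from Over.OverMorphism.ext (hx.trans (hl f).symm),
    show y = pnt g from Over.OverMorphism.ext (hy.trans (hl g).symm), ← hl]
  congr 1
  rw [← MonObj.comp_mul, ← DSPtsLib.theta_mul, ← MonObj.mul_comp, GrpSchLib.AffineHopf.spMap_mul]

section Pt

variable (B : Type u) [CommRing B] [Algebra R B] {C : Type u} [CommRing C] [Algebra B C] [Algebra R C]
  [IsScalarTower R B C]

/-- The point of `G_B` given by an algebra map. -/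
noncomputable def pt (f : A →ₐ[R] C) : GrpSchLib.AffineHopf.sp B C ⟶ Red.bc (bb β B) G :=
  Over.homMk (pullback.lift (Spec.map (CommRingCat.ofHom f.toRingHom) ≫ K.p)
    (Spec.map (CommRingCat.ofHom (algebraMap B C))) (by
      refine (K.w f).trans ?_
      rw [← Spec.map_comp_assoc, ← CommRingCat.ofHom_comp, ← IsScalarTower.algebraMap_eq]))
    (pullback.lift_snd _ _ _)

@[reassoc]
theorem pt_fst (f : A →ₐ[R] C) :
    (pt K B f).left ≫ pullback.fst G.hom (bb β B) = Spec.map (CommRingCat.ofHom f.toRingHom) ≫ K.p :=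
  pullback.lift_fst _ _ _

@[reassoc]
theorem pt_snd (f : A →ₐ[R] C) :
    (pt K B f).left ≫ pullback.snd G.hom (bb β B) = Spec.map (CommRingCat.ofHom (algebraMap B C)) :=
  pullback.lift_snd _ _ _

theorem pt_bijective : Function.Bijective (pt K B : (A →ₐ[R] C) → _) := by
  refine ⟨fun f g h => ?_, fun x => ?_⟩
  · have h1 := congrArg (fun m => Over.Hom.left m ≫ pullback.fst G.hom (bb β B)) h
    simp only [pt_fst] at h1
    refine AlgHom.ext fun a => ?_
    have h2 : Spec.map (CommRingCat.ofHom f.toRingHom) = Spec.map (CommRingCat.ofHom g.toRingHom) :=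
      K.sq.hom_ext h1 (by
        rw [← Spec.map_comp, ← Spec.map_comp, ← CommRingCat.ofHom_comp, ← CommRingCat.ofHom_comp]
        exact congrArg (fun r => Spec.map (CommRingCat.ofHom r)) (f.comp_algebraMap.trans g.comp_algebraMap.symm))
    exact congr($(Spec.map_injective h2) a)
  · let a : Spec (CommRingCat.of C) ⟶ G.left := x.left ≫ pullback.fst G.hom (bb β B)
    have hx : x.left ≫ pullback.snd G.hom (bb β B) = Spec.map (CommRingCat.ofHom (algebraMap B C)) := Over.w x
    have ha : a ≫ G.hom = Spec.map (CommRingCat.ofHom (algebraMap R C)) ≫ β := by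
      rw [Category.assoc, pullback.condition, ← Category.assoc, IsScalarTower.algebraMap_eq R B C,
        CommRingCat.ofHom_comp, Spec.map_comp, Category.assoc]
      exact congrArg (· ≫ bb β B) hx
    obtain ⟨ρ, hρ⟩ : ∃ ρ, Spec.map ρ = K.sq.lift a _ ha := ⟨_, Spec.map_preimage _⟩
    have h2 : Spec.map ρ ≫ Spec.map (CommRingCat.ofHom (algebraMap R A)) =
        Spec.map (CommRingCat.ofHom (algebraMap R C)) := by rw [hρ]; exact K.sq.lift_snd _ _ _
    rw [← Spec.map_comp] at h2
    let f : A →ₐ[R] C := { ρ.hom with commutes' := fun r => congr($(Spec.map_injective h2) r) }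
    refine ⟨f, Over.OverMorphism.ext (pullback.hom_ext ?_ ?_)⟩
    · rw [pt_fst]
      show Spec.map ρ ≫ K.p = a
      rw [hρ]
      exact K.sq.lift_fst _ _ _
    · exact (pt_snd K B f).trans hx.symm

theorem pt_nat {C' : Type u} [CommRing C'] [Algebra B C'] [Algebra R C'] [IsScalarTower R B C']
    (φ : C →ₐ[B] C') (f : A →ₐ[R] C) :
    GrpSchLib.AffineHopf.spMap φ ≫ pt K B f = pt K B ((φ.restrictScalars R).comp f) := by
  refine Over.OverMorphism.ext (pullback.hom_ext ?_ ?_)
  · rw [Over.comp_left, Category.assoc]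
    refine (congrArg ((GrpSchLib.AffineHopf.spMap φ).left ≫ ·) (pt_fst K B f)).trans (Eq.trans ?_ (pt_fst K B _).symm)
    refine (Category.assoc _ _ _).symm.trans (congrArg (· ≫ K.p) ?_)
    exact (Spec.map_comp _ _).symm
  · exact (Over.w _).trans (Over.w _).symm

theorem pt_mul (f g : A →ₐ[R] C) : pt K B f * pt K B g = pt K B (toConv f * toConv g).ofConv := by
  let tr : Over.mk (bb β C) ⟶ (Over.map (bb β B)).obj (GrpSchLib.AffineHopf.sp B C) :=
    Over.homMk (𝟙 _) (by
      show 𝟙 _ ≫ Spec.map (CommRingCat.ofHom (algebraMap B C)) ≫ bb β B = bb β C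
      rw [Category.id_comp, ← Spec.map_comp_assoc, ← CommRingCat.ofHom_comp, ← IsScalarTower.algebraMap_eq])
  haveI : IsIso tr := by
    haveI : IsIso ((Over.forget S).map tr) := inferInstanceAs (IsIso (𝟙 _))
    exact isIso_of_reflects_iso _ (Over.forget S)
  have key : ∀ f : A →ₐ[R] C, tr ≫ DSPtsLib.theta (bb β B) (pt K B f) =
      Over.homMk (Spec.map (CommRingCat.ofHom f.toRingHom) ≫ K.p) (K.w f) := fun f => by
    refine Over.OverMorphism.ext ?_
    show 𝟙 _ ≫ _ = _
    rw [Category.id_comp]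
    exact pt_fst K B f
  refine (DSPtsLib.theta_bijective (bb β B)).1 ((cancel_epi tr).mp ?_)
  rw [DSPtsLib.theta_mul, MonObj.comp_mul, key, key, key]
  exact Over.OverMorphism.ext (K.mul C f g _ _ rfl rfl)

end Pt

section Hom

variable {B : Type u} [CommRing B] [Algebra R B] {M : Type} [AddCommGroup M]

attribute [local instance] CategoryTheory.Hom.monoid CategoryTheory.Hom.group

theorem conv_pair {C : Type u} [CommRing C] [Algebra B C] [Algebra R C] [IsScalarTower R B C]
    {ψ : A →ₐ[R] MA M B} (h : Mult ψ) (c₁ c₂ : MA M B →ₐ[B] C) :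
    ((toConv c₁ * toConv c₂).ofConv.restrictScalars R).comp ψ =
      (toConv ((c₁.restrictScalars R).comp ψ) * toConv ((c₂.restrictScalars R).comp ψ)).ofConv := by
  let P : MA M B ⊗[B] MA M B →ₐ[B] C := Algebra.TensorProduct.lift c₁ c₂ fun _ _ => .all _ _
  let E : MA2 M B →ₐ[B] C := P.comp toSq
  have el : E.comp (inlA B M B) = c₁ := by
    rw [AlgHom.comp_assoc, toSq_inl]
    exact AlgHom.ext fun x => by simp [P]
  have er : E.comp (inrA B M B) = c₂ := by
    rw [AlgHom.comp_assoc, toSq_inr]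
    exact AlgHom.ext fun x => by simp [P]
  have ed : E.comp (dgnA B M B) = (toConv c₁ * toConv c₂).ofConv := by
    rw [AlgHom.comp_assoc, toSq_dgn]
    refine AlgHom.ext fun x => ?_
    show P (Bialgebra.comulAlgHom B (MA M B) x) = (toConv c₁ * toConv c₂) x
    rw [AlgHom.convMul_apply]
    rfl
  rw [← ed]
  have h' := congrArg ((E.restrictScalars R).comp ·) h
  refine Eq.trans ?_ (h'.symm.trans ?_)
  · exact AlgHom.ext fun x => rfl
  · show (E.restrictScalars R).comp _ = _
    rw [AlgHom.comp_convMul_distrib, ofConv_toConv, ofConv_toConv]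
    congr 3 <;> refine AlgHom.ext fun x => ?_
    · exact DFunLike.congr_fun el (ψ x)
    · exact DFunLike.congr_fun er (ψ x)

/-- A compatible map gives a homomorphism. -/
theorem isMonHom_pt {ψ : A →ₐ[R] MA M B} (h : Mult ψ) : IsMonHom (pt K B ψ) := by
  have key : ∀ {X : Over (Spec (CommRingCat.of B))} (x y : X ⟶ GrpSchLib.AffineHopf.sp B (MA M B)),
      (x * y) ≫ pt K B ψ = (x ≫ pt K B ψ) * (y ≫ pt K B ψ) := by
    intro X x y
    refine Over.OverMorphism.ext (Scheme.Cover.hom_ext X.left.affineCover _ _ fun i => ?_)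
    obtain ⟨C, hC⟩ : ∃ C : CommRingCat.{u}, X.left.affineCover.X i = Spec C := ⟨_, rfl⟩
    rw [← cancel_epi (eqToHom hC.symm)]
    simp only [← Category.assoc]
    let j : Spec C ⟶ X.left := eqToHom hC.symm ≫ X.left.affineCover.f i
    obtain ⟨τ, hτ⟩ : ∃ τ, Spec.map τ = j ≫ X.hom := ⟨_, Spec.map_preimage _⟩
    letI : Algebra B C := τ.hom.toAlgebra
    letI : Algebra R C := ((algebraMap B C).comp (algebraMap R B)).toAlgebra
    haveI : IsScalarTower R B C := IsScalarTower.of_algebraMap_eq' rfl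
    let e : GrpSchLib.AffineHopf.sp B C ⟶ X := Over.homMk j hτ.symm
    suffices hs : e ≫ (x * y) ≫ pt K B ψ = e ≫ ((x ≫ pt K B ψ) * (y ≫ pt K B ψ)) from
      congrArg CommaMorphism.left hs
    obtain ⟨c₁, hc₁⟩ := GrpSchLib.AffineHopf.exists_eq_spMap (e ≫ x)
    obtain ⟨c₂, hc₂⟩ := GrpSchLib.AffineHopf.exists_eq_spMap (e ≫ y)
    rw [← Category.assoc, MonObj.comp_mul, MonObj.comp_mul, ← Category.assoc, ← Category.assoc, hc₁, hc₂,
      GrpSchLib.AffineHopf.spMap_mul, pt_nat, pt_nat, pt_nat, pt_mul, conv_pair h]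
  have hone : η ≫ pt K B ψ = η := by
    have h1 := key (η : 𝟙_ _ ⟶ GrpSchLib.AffineHopf.sp B (MA M B)) η
    rw [show (η : 𝟙_ _ ⟶ GrpSchLib.AffineHopf.sp B (MA M B)) = 1 by rw [Hom.one_def]; simp, _root_.one_mul] at h1
    have h2 := mul_eq_left.mp h1.symm
    rw [show (η : 𝟙_ _ ⟶ GrpSchLib.AffineHopf.sp B (MA M B)) = 1 by rw [Hom.one_def]; simp, h2]
    rw [Hom.one_def]; simp
  refine ⟨hone, ?_⟩
  have h1 := key (fst (GrpSchLib.AffineHopf.sp B (MA M B)) (GrpSchLib.AffineHopf.sp B (MA M B))) (snd _ _)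
  rw [Hom.mul_def, Hom.mul_def, lift_fst_snd, Category.id_comp] at h1
  rw [h1]
  congr 1

/-- A homomorphism comes from a compatible map. -/
theorem mult_of_isMonHom {ψ : A →ₐ[R] MA M B} [IsMonHom (pt K B ψ)] : Mult ψ := by
  let x : GrpSchLib.AffineHopf.sp B (MA2 M B) ⟶ GrpSchLib.AffineHopf.sp B (MA M B) :=
    GrpSchLib.AffineHopf.spMap (inlA B M B)
  let y : GrpSchLib.AffineHopf.sp B (MA2 M B) ⟶ GrpSchLib.AffineHopf.sp B (MA M B) :=
    GrpSchLib.AffineHopf.spMap (inrA B M B)
  have hxy : (toConv (inlA B M B) * toConv (inrA B M B)).ofConv = dgnA B M B := by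
    rw [← fromSq_comul]
    refine AlgHom.ext fun z => ?_
    show (toConv (inlA B M B) * toConv (inrA B M B)) z = _
    rw [AlgHom.convMul_apply]
    rfl
  have h := MonObj.mul_comp x y (pt K B ψ)
  rw [GrpSchLib.AffineHopf.spMap_mul, hxy, pt_nat, pt_nat, pt_nat, pt_mul] at h
  exact ((pt_bijective K B).1 h).symm

end Hom

section Closed

variable {B : Type u} [CommRing B] [Algebra R B] {M M' : Type} [AddCommGroup M] [AddCommGroup M']

theorem pt_eq_comp (ψ : A →ₐ[R] MA M B) :
    pt K B ψ = GrpSchLib.AffineHopf.spMap (full ψ) ≫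
      pt K B (Algebra.TensorProduct.includeRight : A →ₐ[R] B ⊗[R] A) := by
  rw [pt_nat]
  congr 1
  exact AlgHom.ext fun x => (full_one_tmul ψ x).symm

theorem isIso_pt_includeRight :
    IsIso (pt K B (Algebra.TensorProduct.includeRight : A →ₐ[R] B ⊗[R] A)).left := by
  have h1 := isPullback_SpecMap_of_isPushout _ _ _ _ (CommRingCat.isPushout_tensorProduct R B A)
  have h2 := h1.flip.paste_horiz K.sq
  have e : (pt K B (Algebra.TensorProduct.includeRight : A →ₐ[R] B ⊗[R] A)).left = h2.isoPullback.hom := by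
    apply pullback.hom_ext
    · rw [pt_fst, IsPullback.isoPullback_hom_fst]
    · rw [pt_snd, IsPullback.isoPullback_hom_snd]
      rfl
  rw [e]
  infer_instance

theorem isClosedImmersion_iff_srj (ψ : A →ₐ[R] MA M B) :
    IsClosedImmersion (pt K B ψ).left ↔ Srj ψ := by
  haveI := isIso_pt_includeRight K (B := B)
  rw [pt_eq_comp, Over.comp_left, MorphismProperty.cancel_right_of_respectsIso (P := @IsClosedImmersion)]
  let ρ := CommRingCat.ofHom (full ψ).toRingHom
  show IsClosedImmersion (Spec.map ρ) ↔ _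
  refine ⟨fun h => ?_, fun h => IsClosedImmersion.spec_of_surjective ρ h⟩
  have h3 := ((HasAffineProperty.iff_of_isAffine (P := @IsClosedImmersion)).mp h).2
  have h5 : ρ = (Scheme.ΓSpecIso _).inv ≫ (Spec.map ρ).appTop ≫ (Scheme.ΓSpecIso _).hom := by
    rw [Scheme.ΓSpecIso_naturality ρ, Iso.inv_hom_id_assoc]
  show Function.Surjective ρ
  rw [h5]
  exact ((ConcreteCategory.bijective_of_isIso (Scheme.ΓSpecIso _).hom).2.comp h3).comp
    (ConcreteCategory.bijective_of_isIso (Scheme.ΓSpecIso _).inv).2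

theorem isPullback_push {B' : Type u} [CommRing B'] [Algebra R B'] (σ : B →ₐ[R] B') :
    IsPullback (Spec.map (CommRingCat.ofHom (push (M := M) σ).toRingHom))
      (Spec.map (CommRingCat.ofHom (algebraMap B' (MA M B'))))
      (Spec.map (CommRingCat.ofHom (algebraMap B (MA M B)))) (Spec.map (CommRingCat.ofHom σ.toRingHom)) := by
  letI : Algebra B B' := σ.toRingHom.toAlgebra
  let e := MonoidAlgebra.scalarTensorEquiv B B' (M := Multiplicative M)
  refine (isPullback_SpecMap_of_isPushout _ _ _ _ ((CommRingCat.isPushout_tensorProduct B B' (MA M B)).of_iso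
    (Iso.refl _) (Iso.refl _) (Iso.refl _) e.toRingEquiv.toCommRingCatIso (by simp; rfl) (by simp) ?_ ?_)).flip
  · refine CommRingCat.hom_ext (RingHom.ext fun b => ?_)
    show e (b ⊗ₜ 1) = algebraMap B' (MA M B') b
    exact e.commutes b
  · refine CommRingCat.hom_ext (RingHom.ext fun x => ?_)
    show e (1 ⊗ₜ x) = push σ x
    rw [MonoidAlgebra.scalarTensorEquiv_tmul, one_smul]
    induction x using MonoidAlgebra.induction_linear with
    | zero => simp
    | add a b ha hb => rw [map_add, map_add, ha, hb]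
    | single k r => rw [push_single]; simp; rfl

theorem isPullback_pt_push {B' : Type u} [CommRing B'] [Algebra R B'] (σ : B →ₐ[R] B') (ψ : A →ₐ[R] MA M B) :
    IsPullback (Spec.map (CommRingCat.ofHom (push (M := M) σ).toRingHom)) (pt K B' ((push σ).comp ψ)).left
      (pt K B ψ).left (bm G _ _ _ (spec_bb β σ)) := by
  refine IsPullback.of_bot ?_ ?_ (isPullback_bm (spec_bb β σ))
  · rw [pt_snd, pt_snd]
    exact isPullback_push σ
  · apply pullback.hom_ext
    · rw [Category.assoc, Category.assoc, pt_fst, bm_fst, pt_fst, ← Category.assoc, ← Spec.map_comp]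
      rfl
    · rw [Category.assoc, Category.assoc, pt_snd, bm_snd, pt_snd_assoc]
      exact (isPullback_push σ).w

/-- The kernel commutes with base change. -/
theorem ker_push {B' : Type u} [CommRing B'] [Algebra R B'] (σ : B →ₐ[R] B') {ψ : A →ₐ[R] MA M B} (hs : Srj ψ) :
    (pt K B' ((push σ).comp ψ)).left.ker = (pt K B ψ).left.ker.comap (bm G _ _ _ (spec_bb β σ)) := by
  haveI := (isClosedImmersion_iff_srj K ψ).mpr hs
  have h := (isPullback_pt_push K σ ψ).flip
  rw [← Scheme.IdealSheafData.ker_fst_of_isClosedImmersion, ← Scheme.Hom.ker_comp_of_isIso h.isoPullback.hom,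
    h.isoPullback_hom_fst]

/-- Isomorphic parametrisations have the same kernel. -/
theorem ker_reM (e : M ≃+ M') (ψ : A →ₐ[R] MA M B) :
    (pt K B ((reM e.toAddMonoidHom).comp ψ)).left.ker = (pt K B ψ).left.ker := by
  let Θ : MA M B →ₐ[B] MA M' B := reM (R := B) e.toAddMonoidHom
  let Θ' : MA M' B →ₐ[B] MA M B := reM (R := B) e.symm.toAddMonoidHom
  have h : pt K B ((reM e.toAddMonoidHom).comp ψ) = GrpSchLib.AffineHopf.spMap Θ ≫ pt K B ψ := by
    rw [pt_nat]; rfl
  haveI : IsIso (GrpSchLib.AffineHopf.spMap Θ) := by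
    refine ⟨GrpSchLib.AffineHopf.spMap Θ', ?_, ?_⟩ <;>
      rw [GrpSchLib.AffineHopf.spMap_comp, ← GrpSchLib.AffineHopf.spMap_id] <;> congr 1
    · show (reM (R := B) e.toAddMonoidHom).comp (reM e.symm.toAddMonoidHom) = _
      rw [reM_comp, show e.toAddMonoidHom.comp e.symm.toAddMonoidHom = AddMonoidHom.id M' by ext; simp]
      exact AlgHom.ext fun x => by
        induction x using MonoidAlgebra.induction_linear with
        | zero => simp
        | add a b ha hb => rw [map_add, ha, hb]; rfl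
        | single k r => exact MonoidAlgebra.mapDomain_single
    · show (reM (R := B) e.symm.toAddMonoidHom).comp (reM e.toAddMonoidHom) = _
      rw [reM_comp, show e.symm.toAddMonoidHom.comp e.toAddMonoidHom = AddMonoidHom.id M by ext; simp]
      exact AlgHom.ext fun x => by
        induction x using MonoidAlgebra.induction_linear with
        | zero => simp
        | add a b ha hb => rw [map_add, ha, hb]; rfl
        | single k r => exact MonoidAlgebra.mapDomain_single
  haveI : IsIso (GrpSchLib.AffineHopf.spMap Θ).left :=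
    ((Over.forget _).mapIso (asIso (GrpSchLib.AffineHopf.spMap Θ))).isIso_hom
  rw [h, Over.comp_left, Scheme.Hom.ker_comp_of_isIso]

/-- Parametrisations with the same kernel differ by an isomorphism of group algebras. -/
theorem exists_algEquiv {ψ : A →ₐ[R] MA M B} {ψ' : A →ₐ[R] MA M' B} (hs : Srj ψ) (hs' : Srj ψ')
    (h : (pt K B ψ).left.ker = (pt K B ψ').left.ker) :
    ∃ Θ : MA M B ≃ₐ[B] MA M' B, ∀ x, Θ (ψ x) = ψ' x := by
  haveI := (isClosedImmersion_iff_srj K ψ).mpr hs
  haveI := (isClosedImmersion_iff_srj K ψ').mpr hs'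
  let l : GrpSchLib.AffineHopf.sp B (MA M' B) ⟶ GrpSchLib.AffineHopf.sp B (MA M B) :=
    Over.homMk (IsClosedImmersion.lift (pt K B ψ).left (pt K B ψ').left h.le) (by
      show _ ≫ Spec.map (CommRingCat.ofHom (algebraMap B (MA M B))) = Spec.map _
      rw [← pt_snd K B ψ, IsClosedImmersion.lift_fac_assoc, pt_snd])
  haveI : IsIso l.left := IsClosedImmersion.isIso_lift _ _ h
  haveI : IsIso l := by
    haveI : IsIso ((Over.forget _).map l) := ‹IsIso l.left›
    exact isIso_of_reflects_iso _ (Over.forget _)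
  obtain ⟨Θ, hΘ⟩ := GrpSchLib.AffineHopf.exists_eq_spMap l
  obtain ⟨Θ', hΘ'⟩ := GrpSchLib.AffineHopf.exists_eq_spMap (inv l)
  have h1 : Θ'.comp Θ = AlgHom.id B _ := GrpSchLib.AffineHopf.spMap_injective (by
    rw [← GrpSchLib.AffineHopf.spMap_comp, ← hΘ, ← hΘ', IsIso.inv_hom_id, GrpSchLib.AffineHopf.spMap_id])
  have h2 : Θ.comp Θ' = AlgHom.id B _ := GrpSchLib.AffineHopf.spMap_injective (by
    rw [← GrpSchLib.AffineHopf.spMap_comp, ← hΘ, ← hΘ', IsIso.hom_inv_id, GrpSchLib.AffineHopf.spMap_id])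
  refine ⟨AlgEquiv.ofAlgHom Θ Θ' h2 h1, fun x => ?_⟩
  have h3 : l ≫ pt K B ψ = pt K B ψ' := Over.OverMorphism.ext (IsClosedImmersion.lift_fac _ _ _)
  rw [hΘ, pt_nat] at h3
  exact DFunLike.congr_fun ((pt_bijective K B).1 h3) x

/-- Near a prime, parametrisations with the same kernel differ by an isomorphism of character groups. -/
theorem exists_iso_of_ker_eq [AddGroup.FG M] {ψ : A →ₐ[R] MA M B} {ψ' : A →ₐ[R] MA M' B} (hm : Mult ψ)
    (hm' : Mult ψ') (hs : Srj ψ) (hs' : Srj ψ') (h : (pt K B ψ).left.ker = (pt K B ψ').left.ker) (p : Ideal B)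
    [p.IsPrime] : ∃ g : B, g ∉ p ∧ ∃ e : M ≃+ M', ∀ (B' : Type u) [CommRing B'] [Algebra R B'] (σ : B →ₐ[R] B'),
      IsUnit (σ g) → (push σ).comp ψ' = (reM e.toAddMonoidHom).comp ((push σ).comp ψ) := by
  obtain ⟨Θ, hΘ⟩ := exists_algEquiv K hs hs' h
  exact exists_iso_near hm hm' hs hs' Θ hΘ p

end Closed

end Groth.Agent.Deform.SubMT
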