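import Groth.Agent.Deform.SubMT.Fam
import Groth.Agent.Deform.Luna.MonoClosedMult
import Groth.Agent.Deform.TorsionOrderScheme
import Groth.Agent.GrpSchLib.MonoSubgroup
import Groth.Agent.GrpSchLib.HomSplitLocal

/-!
# Families and subgroups of multiplicative type

A family is the same thing as a closed subgroup of multiplicative type and of finite type; consequently it can be
trivialised near a point over every affine open containing the image of the point.
-/

set_option autoImplicit false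
set_option linter.style.haveILetI false
set_option backward.isDefEq.respectTransparency false
set_option backward.isDefEq.respectTransparency.types false
set_option maxHeartbeats 600000

universe u

open CategoryTheory CategoryTheory.Limits AlgebraicGeometry TopologicalSpace Opposite
open MonoidalCategory CartesianMonoidalCategory MonObj GrpObj

namespace Groth.Agent.Deform.SubMT

open HomMT GrpSchLib.AffineHopf

attribute [local instance] CategoryTheory.Hom.monoid CategoryTheory.Hom.group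

variable {S : Scheme.{u}}

theorem isMonHom_of_mul {U : Scheme.{u}} {P Q : Over U} [GrpObj P] [GrpObj Q] (f : P ⟶ Q)
    (h : ∀ {X : Over U} (x y : X ⟶ P), (x * y) ≫ f = (x ≫ f) * (y ≫ f)) : IsMonHom f := by
  have hP : (η : 𝟙_ (Over U) ⟶ P) = 1 := by rw [Hom.one_def]; simp
  have hQ : (η : 𝟙_ (Over U) ⟶ Q) = 1 := by rw [Hom.one_def]; simp
  refine ⟨?_, ?_⟩
  · have h1 := h (η : 𝟙_ (Over U) ⟶ P) η
    rw [hP, _root_.one_mul] at h1
    rw [hP, mul_eq_left.mp h1.symm, hQ]
  · have h1 := h (fst P P) (snd P P)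
    rw [Hom.mul_def, Hom.mul_def, lift_fst_snd, Category.id_comp] at h1
    rw [h1]
    congr 1

theorem comp_inv_of_isMonHom {U : Scheme.{u}} {P Q X : Over U} [GrpObj P] [GrpObj Q] (f : P ⟶ Q) [IsMonHom f]
    (x : X ⟶ P) : x⁻¹ ≫ f = (x ≫ f)⁻¹ := by
  rw [eq_inv_iff_mul_eq_one, ← MonObj.mul_comp, inv_mul_cancel, MonObj.one_comp]

section BaseChange

variable (G : Over S) [GrpObj G] {T T' : Scheme.{u}} (e : T' ⟶ T) (g : T ⟶ S) (g' : T' ⟶ S) (h : e ≫ g = g')

/-- A base change of a base change. -/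
noncomputable def cc : Red.bc e (Red.bc g G) ⟶ Red.bc g' G :=
  Over.homMk (pullback.lift (pullback.fst _ e ≫ pullback.fst G.hom g) (pullback.snd _ e) (by
    rw [Category.assoc, pullback.condition, ← Category.assoc, ← h, ← Category.assoc]
    exact congrArg (· ≫ g) pullback.condition)) (pullback.lift_snd _ _ _)

theorem cc_left_fst : (cc G e g g' h).left ≫ pullback.fst G.hom g' = pullback.fst _ e ≫ pullback.fst G.hom g :=
  pullback.lift_fst _ _ _

theorem cc_left_snd : (cc G e g g' h).left ≫ pullback.snd G.hom g' = pullback.snd _ e := pullback.lift_snd _ _ _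

@[reassoc]
theorem cc_bm : (cc G e g g' h).left ≫ bm G e g g' h = pullback.fst _ e := by
  apply pullback.hom_ext
  · rw [Category.assoc, bm_fst]
    exact cc_left_fst G e g g' h
  · rw [Category.assoc, bm_snd, ← Category.assoc, cc_left_snd]
    exact pullback.condition.symm

instance isIso_cc : IsIso (cc G e g g' h).left := by
  have h1 : (cc G e g g' h).left ≫ (isPullback_bm (G := G) h).isoPullback.hom = 𝟙 _ := by
    apply pullback.hom_ext
    · rw [Category.assoc, IsPullback.isoPullback_hom_fst, cc_bm, Category.id_comp]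
      rfl
    · rw [Category.assoc, IsPullback.isoPullback_hom_snd, cc_left_snd, Category.id_comp]
      rfl
  have h2 : (cc G e g g' h).left = (isPullback_bm (G := G) h).isoPullback.inv :=
    (Iso.comp_hom_eq_id _).mp h1
  rw [h2]
  infer_instance

theorem isMonHom_cc : IsMonHom (cc G e g g' h) := by
  refine isMonHom_of_mul _ fun {X} x y => (DSPtsLib.theta_bijective g').1 ?_
  let tr : (Over.map g').obj X ⟶ (Over.map g).obj ((Over.map e).obj X) := Over.homMk (𝟙 _) (by
    show 𝟙 _ ≫ (X.hom ≫ e) ≫ g = X.hom ≫ g'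
    rw [Category.id_comp, Category.assoc, h])
  have key : ∀ z : X ⟶ Red.bc e (Red.bc g G),
      DSPtsLib.theta g' (z ≫ cc G e g g' h) = tr ≫ DSPtsLib.theta g (DSPtsLib.theta e z) := fun z => by
    refine Over.OverMorphism.ext ?_
    show (z.left ≫ (cc G e g g' h).left) ≫ pullback.fst G.hom g' =
      𝟙 _ ≫ (z.left ≫ pullback.fst _ e) ≫ pullback.fst G.hom g
    rw [Category.id_comp, Category.assoc, Category.assoc, cc_left_fst]
  rw [key, DSPtsLib.theta_mul, DSPtsLib.theta_mul, DSPtsLib.theta_mul, MonObj.comp_mul, key, key]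

/-- The kernel of the base change of a closed immersion. -/
theorem ker_bc_cc {K : Over T} (j : K ⟶ Red.bc g G) [IsClosedImmersion j.left] :
    IsClosedImmersion ((Over.pullback e).map j ≫ cc G e g g' h).left ∧
      ((Over.pullback e).map j ≫ cc G e g g' h).left.ker = j.left.ker.comap (bm G e g g' h) := by
  haveI : IsClosedImmersion ((Over.pullback e).map j).left :=
    MorphismProperty.overPullbackMap (P := @IsClosedImmersion) _ _ ‹IsClosedImmersion j.left›
  have h1 := GrpSchLib.HomSplitLocal.isPullback_map j e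
  have h2 : IsPullback (pullback.fst (Red.bc g G).hom e) (cc G e g g' h).left (𝟙 (Red.bc g G).left)
      (bm G e g g' h) := IsPullback.of_vert_isIso ⟨(Category.comp_id _).trans (cc_bm G e g g' h).symm⟩
  have h3 := h1.paste_vert h2
  rw [show j.left ≫ 𝟙 (Red.bc g G).left = j.left from Category.comp_id _] at h3
  refine ⟨inferInstanceAs (IsClosedImmersion (((Over.pullback e).map j).left ≫ (cc G e g g' h).left)), ?_⟩
  rw [Over.comp_left, ← Scheme.IdealSheafData.ker_fst_of_isClosedImmersion,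
    ← Scheme.Hom.ker_comp_of_isIso h3.flip.isoPullback.hom, h3.flip.isoPullback_hom_fst]

end BaseChange

variable {G : Over S} [GrpObj G] [IsAffineHom G.hom]

theorem isSeparated_bc {T : Scheme.{u}} (g : T ⟶ S) : IsSeparated (Red.bc g G).hom :=
  inferInstanceAs (IsSeparated (pullback.snd G.hom g))

/-- A subgroup of multiplicative type can be trivialised over every affine open of the base. -/
theorem exists_triv_of_grp {T : Scheme.{u}} {g : T ⟶ S} {K' : Over T} [GrpObj K'] (j' : K' ⟶ Red.bc g G)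
    [IsMonHom j'] [IsClosedImmersion j'.left] (hK : SGA3x.IsMultTypeFT K') (V : S.affineOpens) (t : T)
    (ht : g t ∈ V.1) :
    ∃ (B : Type u) (_ : CommRing B) (_ : Algebra (RV V) B) (e : Spec (CommRingCat.of B) ⟶ T) (M : Type)
      (_ : AddCommGroup M) (ψ : AV G V →ₐ[RV V] MA M B),
      Etale e ∧ t ∈ Set.range e ∧ AddGroup.FG M ∧ IsTriv G g j'.left.ker V e ψ := by
  obtain ⟨W, hW, htW, hWV⟩ := exists_isAffineOpen_mem_and_subset (show t ∈ g ⁻¹ᵁ V.1 from ht)
  let w := hW.fromSpec
  have hr : Set.range (w ≫ g) ⊆ Set.range (βV V) := by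
    rintro _ ⟨z, rfl⟩
    refine V.2.range_fromSpec.ge ?_
    exact hWV (hW.range_fromSpec.le ⟨z, rfl⟩)
  let a := IsOpenImmersion.lift (βV V) (w ≫ g) hr
  obtain ⟨p, hp⟩ : t ∈ Set.range w := hW.range_fromSpec.ge htW
  obtain ⟨S', f, M, iM, hf, ⟨q, hq⟩, hM, ⟨e⟩⟩ :=
    QuasiIsotrivial.exists_etale_split (GrpSchLib.MultTypeBC.isMultTypeFT_bc w hK) p
  obtain ⟨W', hW', hqW', -⟩ := exists_isAffineOpen_mem_and_subset (show q ∈ (⊤ : S'.Opens) from trivial)
  obtain ⟨ρ, hρ⟩ : ∃ ρ, Spec.map ρ = hW'.fromSpec ≫ f ≫ a := ⟨_, Spec.map_preimage _⟩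
  letI : Algebra (RV V) Γ(S', W') := ρ.hom.toAlgebra
  let ee : Spec (CommRingCat.of Γ(S', W')) ⟶ T := (hW'.fromSpec ≫ f) ≫ w
  have hee : ee ≫ g = bb (βV V) Γ(S', W') := by
    show _ = Spec.map ρ ≫ βV V
    rw [hρ]
    simp only [ee, a, w, Category.assoc, IsOpenImmersion.lift_fac]
  haveI : Etale ee := inferInstance
  obtain ⟨a₁⟩ := GrpSchLib.MultTypeBC.bc_bc (hW'.fromSpec ≫ f) w K'
  obtain ⟨a₂⟩ := GrpSchLib.MultTypeBC.bc_bc hW'.fromSpec f (Red.bc w K')
  obtain ⟨a₃⟩ := GrpSchLib.MultTypeBC.bc_iso hW'.fromSpec e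
  obtain ⟨a₄⟩ := GrpSchLib.MultTypeBC.bc_DS hW'.fromSpec M
  obtain ⟨a₅⟩ := nonempty_DS_iso Γ(S', W') M
  let eD : Grp.mk (sp Γ(S', W') (MA M Γ(S', W'))) ≅ Grp.mk (Red.bc ee K') :=
    a₅ ≪≫ a₄.symm ≪≫ a₃.symm ≪≫ a₂ ≪≫ a₁
  let o : sp Γ(S', W') (MA M Γ(S', W')) ≅ Red.bc ee K' := (Grp.forget _).mapIso eD
  haveI : IsMonHom o.hom := eD.hom.hom.isMonHom_hom
  haveI : IsIso o.hom.left := ((Over.forget _).mapIso o).isIso_hom
  haveI : IsMonHom ((Over.pullback ee).map j') := inferInstanceAs (IsMonHom ((Over.pullback ee).map j'))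
  haveI := isMonHom_cc G ee g _ hee
  obtain ⟨hci, hker⟩ := ker_bc_cc G ee g _ hee j'
  haveI := hci
  let n := o.hom ≫ (Over.pullback ee).map j' ≫ cc G ee g _ hee
  haveI : IsMonHom n := inferInstance
  obtain ⟨ψ, hψ⟩ := (pt_bijective (KV G V) Γ(S', W')).2 n
  haveI : IsMonHom (pt (KV G V) Γ(S', W') ψ) := hψ ▸ ‹IsMonHom n›
  refine ⟨Γ(S', W'), inferInstance, inferInstance, ee, M, iM, ψ, inferInstance, ?_, hM, mult_of_isMonHom (KV G V),
    (isClosedImmersion_iff_srj (KV G V) ψ).mp ?_, hee, ?_⟩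
  · obtain ⟨q', hq'⟩ : q ∈ Set.range hW'.fromSpec := hW'.range_fromSpec.ge hqW'
    refine ⟨q', ?_⟩
    rw [Scheme.Hom.comp_apply, Scheme.Hom.comp_apply]
    exact (congrArg (fun z => w z) ((congrArg (fun z => f z) hq').trans hq)).trans hp
  · rw [hψ]
    exact inferInstanceAs (IsClosedImmersion
      (o.hom.left ≫ ((Over.pullback ee).map j' ≫ cc G ee g _ hee).left))
  · rw [hψ, ← hker]
    exact (Scheme.Hom.ker_comp_of_isIso o.hom.left _).symm

/-- The kernel of a subgroup of multiplicative type is a family. -/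
theorem isSub_ker {T : Scheme.{u}} {g : T ⟶ S} {K' : Over T} [GrpObj K'] (j' : K' ⟶ Red.bc g G)
    [IsMonHom j'] [IsClosedImmersion j'.left] (hK : SGA3x.IsMultTypeFT K') : IsSub G g j'.left.ker := fun t => by
  obtain ⟨V, hV, hgV, -⟩ := exists_isAffineOpen_mem_and_subset (show g t ∈ (⊤ : S.Opens) from trivial)
  exact ⟨⟨V, hV⟩, exists_triv_of_grp j' hK ⟨V, hV⟩ t hgV⟩

theorem isClosedImmersion_mono [LocallyOfFiniteType G.hom] {T : Scheme.{u}} {g : T ⟶ S} {K' : Over T} [GrpObj K']
    (j' : K' ⟶ Red.bc g G) [IsMonHom j'] [IsImmersion j'.left] (hK : SGA3x.IsMultTypeFT K') :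
    IsClosedImmersion j'.left := by
  haveI : IsSeparated (Red.bc g G).hom := isSeparated_bc g
  haveI : QuasiCompact (Red.bc g G).hom := inferInstanceAs (QuasiCompact (pullback.snd G.hom g))
  haveI : LocallyOfFiniteType (Red.bc g G).hom := inferInstanceAs (LocallyOfFiniteType (pullback.snd G.hom g))
  haveI : Mono j' := Over.mono_of_mono_left _
  exact Luna.MonoClosed.isClosedImmersion_multType hK j'

section Sub

variable {T : Scheme.{u}} {g : T ⟶ S} {Z : (pullback G.hom g).IdealSheafData}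

/-- Points through the closed subscheme are found etale locally. -/
theorem comap_eq_bot_of_local (hZ : IsSub G g Z) {X : Over T} (x : X ⟶ Red.bc g G)
    (h : ∀ (V : S.affineOpens) (B : Type u) [CommRing B] [Algebra (RV V) B] (e : Spec (CommRingCat.of B) ⟶ T)
      (M : Type) [AddCommGroup M] (ψ : AV G V →ₐ[RV V] MA M B) (_ : IsTriv G g Z V e ψ)
      (he : e ≫ g = bb (βV V) B), ∃ a : Red.bc e X ⟶ sp B (MA M B),
        a ≫ pt (KV G V) B ψ = (Over.pullback e).map x ≫ cc G e g _ he) :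
    Z.comap x.left = ⊥ := by
  choose V B iB iA e M iM ψ he hte hM htr using hZ
  haveI : ∀ t, Flat (pullback.fst X.hom (e t)) := fun t => by
    haveI := he t
    exact MorphismProperty.pullback_fst (P := @Flat) _ _ inferInstance
  refine DescLib.eq_of_flat_family (fun t => pullback.fst X.hom (e t)) (fun z => ?_) fun t => ?_
  · obtain ⟨b, hb⟩ := hte (X.hom z)
    obtain ⟨y, hy, -⟩ := Scheme.Pullback.exists_preimage_pullback (f := X.hom) (g := e (X.hom z)) z b hb.symm
    exact ⟨_, y, hy⟩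
  obtain ⟨hm, hs, hg, hk⟩ := htr t
  obtain ⟨a, ha⟩ := h (V t) (B t) (e t) (M t) (ψ t) (htr t) hg
  rw [Scheme.IdealSheafData.comap_bot, ← Scheme.IdealSheafData.comap_comp]
  have hsq : pullback.fst X.hom (e t) ≫ x.left = ((Over.pullback (e t)).map x).left ≫ pullback.fst _ (e t) :=
    (GrpSchLib.HomSplitLocal.isPullback_map x (e t)).w
  rw [hsq, ← cc_bm G (e t) g _ hg, ← Category.assoc, ← Over.comp_left, ← ha, Scheme.IdealSheafData.comap_comp, hk,
    Over.comp_left, Scheme.IdealSheafData.comap_comp]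
  haveI := (isClosedImmersion_iff_srj (KV G (V t)) (ψ t)).mpr hs
  rw [show (pt (KV G (V t)) (B t) (ψ t)).left.ker.comap (pt (KV G (V t)) (B t) (ψ t)).left = ⊥ by
    rw [eq_bot_iff, ← Scheme.IdealSheafData.le_map_iff_comap_le, Scheme.IdealSheafData.map_bot],
    Scheme.IdealSheafData.comap_bot]

/-- Conversely a point through the closed subscheme lifts over every trivialisation. -/
theorem exists_lift_of_comap_eq_bot {X : Over T} (x : X ⟶ Red.bc g G) (hx : Z.comap x.left = ⊥)
    {V : S.affineOpens} {B : Type u} [CommRing B] [Algebra (RV V) B] {e : Spec (CommRingCat.of B) ⟶ T}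
    {M : Type} [AddCommGroup M] {ψ : AV G V →ₐ[RV V] MA M B} (htr : IsTriv G g Z V e ψ)
    (he : e ≫ g = bb (βV V) B) :
    ∃ a : Red.bc e X ⟶ sp B (MA M B), a ≫ pt (KV G V) B ψ = (Over.pullback e).map x ≫ cc G e g _ he := by
  obtain ⟨hm, hs, hg, hk⟩ := htr
  haveI := (isClosedImmersion_iff_srj (KV G V) ψ).mpr hs
  let n := (Over.pullback e).map x ≫ cc G e g _ he
  have hle : (pt (KV G V) B ψ).left.ker ≤ n.left.ker := by
    rw [← hk, ← Scheme.IdealSheafData.map_bot, Scheme.IdealSheafData.le_map_iff_comap_le,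
      ← Scheme.IdealSheafData.comap_comp]
    have : n.left ≫ bm G e g _ hg = pullback.fst X.hom e ≫ x.left := by
      rw [Over.comp_left, Category.assoc, cc_bm]
      exact (GrpSchLib.HomSplitLocal.isPullback_map x e).w.symm
    rw [this, Scheme.IdealSheafData.comap_comp, hx, Scheme.IdealSheafData.comap_bot]
  refine ⟨Over.homMk (IsClosedImmersion.lift _ n.left hle) ?_, Over.OverMorphism.ext (IsClosedImmersion.lift_fac _ _ _)⟩
  show _ ≫ Spec.map (CommRingCat.ofHom (algebraMap B (MA M B))) = _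
  rw [← pt_snd (KV G V) B ψ, IsClosedImmersion.lift_fac_assoc]
  exact Over.w n

/-- The closed subscheme as an object over the base. -/
noncomputable abbrev subK (Z : (pullback G.hom g).IdealSheafData) : Over T :=
  Over.mk (Z.subschemeι ≫ pullback.snd G.hom g)

/-- Its inclusion. -/
noncomputable abbrev subj (Z : (pullback G.hom g).IdealSheafData) : subK Z ⟶ Red.bc g G :=
  Over.homMk Z.subschemeι rfl

/-- Over a trivialisation the subgroup is diagonalisable. -/
theorem nonempty_iso_of_triv [iK : GrpObj (subK Z)] [IsMonHom (subj Z)] {V : S.affineOpens} {B : Type u} [CommRing B]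
    [Algebra (RV V) B] {e : Spec (CommRingCat.of B) ⟶ T} {M : Type} [AddCommGroup M] {ψ : AV G V →ₐ[RV V] MA M B}
    (htr : IsTriv G g Z V e ψ) : Nonempty (Grp.mk (Red.bc e (subK Z)) ≅ Grp.mk (Red.DS (Spec (CommRingCat.of B)) M)) := by
  obtain ⟨hm, hs, hg, hk⟩ := htr
  haveI : IsClosedImmersion (subj Z).left := inferInstanceAs (IsClosedImmersion Z.subschemeι)
  haveI : IsMonHom ((Over.pullback e).map (subj Z)) := inferInstanceAs (IsMonHom ((Over.pullback e).map (subj Z)))
  haveI := isMonHom_cc G e g _ hg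
  haveI := isMonHom_pt (KV G V) hm
  haveI := (isClosedImmersion_iff_srj (KV G V) ψ).mpr hs
  obtain ⟨hci, hker⟩ := ker_bc_cc G e g _ hg (subj Z)
  haveI := hci
  let n := (Over.pullback e).map (subj Z) ≫ cc G e g _ hg
  haveI : IsMonHom n := inferInstance
  have hkk : (pt (KV G V) B ψ).left.ker = n.left.ker := by
    rw [hker, ← hk]
    exact (congrArg (fun I => Scheme.IdealSheafData.comap I (bm G e g _ hg)) (Scheme.IdealSheafData.ker_subschemeι Z)).symm
  let l : Red.bc e (subK Z) ⟶ sp B (MA M B) := Over.homMk (IsClosedImmersion.lift _ n.left hkk.le) (by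
    show _ ≫ Spec.map (CommRingCat.ofHom (algebraMap B (MA M B))) = _
    rw [← pt_snd (KV G V) B ψ, IsClosedImmersion.lift_fac_assoc]
    exact Over.w n)
  have hl : l ≫ pt (KV G V) B ψ = n := Over.OverMorphism.ext (IsClosedImmersion.lift_fac _ _ _)
  haveI : IsIso ((Over.forget _).map l) := IsClosedImmersion.isIso_lift _ _ hkk
  haveI : IsIso l := isIso_of_reflects_iso _ (Over.forget _)
  haveI : Mono (pt (KV G V) B ψ) := Over.mono_of_mono_left _
  haveI : IsMonHom l := isMonHom_of_mul l fun x y => by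
    refine (cancel_mono (pt (KV G V) B ψ)).mp ((Category.assoc _ _ _).trans ?_)
    rw [hl]
    refine (MonObj.mul_comp x y n).trans (Eq.trans ?_ (MonObj.mul_comp (x ≫ l) (y ≫ l) (pt (KV G V) B ψ)).symm)
    rw [Category.assoc, Category.assoc, hl]
  obtain ⟨a⟩ := nonempty_DS_iso B M
  let il : Red.bc e (subK Z) ≅ sp B (MA M B) := asIso l
  haveI : IsMonHom il.hom := ‹IsMonHom l›
  let eL : Grp.mk (Red.bc e (subK Z)) ≅ Grp.mk (sp B (MA M B)) := Grp.mkIso' il
  exact ⟨eL ≪≫ a⟩


/-- A family is a subgroup of multiplicative type. -/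
theorem exists_grp (hZ : IsSub G g Z) :
    ∃ iK : GrpObj (subK Z), @IsMonHom (Over T) _ _ (subK Z) (Red.bc g G) iK.toMonObj _ (subj Z) ∧
      @SGA3x.IsMultTypeFT T (subK Z) iK := by
  haveI : IsClosedImmersion (subj Z).left := inferInstanceAs (IsClosedImmersion Z.subschemeι)
  haveI : Mono (subj Z) := Over.mono_of_mono_left _
  have hin : ∀ {X : Over T} (x : X ⟶ subK Z), Z.comap (x ≫ subj Z).left = ⊥ := fun x => by
    rw [Over.comp_left, Scheme.IdealSheafData.comap_comp]
    exact (congrArg (·.comap x.left) (DescLib.comap_subschemeι Z)).trans (Scheme.IdealSheafData.comap_bot _)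
  have hout : ∀ {X : Over T} (x : X ⟶ Red.bc g G), Z.comap x.left = ⊥ → ∃ y, y ≫ subj Z = x := fun {X} x hx => by
    have hle : Z.subschemeι.ker ≤ x.left.ker := by
      rw [Scheme.IdealSheafData.ker_subschemeι, ← Scheme.IdealSheafData.map_bot,
        Scheme.IdealSheafData.le_map_iff_comap_le, hx]
    refine ⟨Over.homMk (IsClosedImmersion.lift _ x.left hle) ?_,
      Over.OverMorphism.ext (IsClosedImmersion.lift_fac _ _ _)⟩
    show _ ≫ Z.subschemeι ≫ pullback.snd G.hom g = _
    rw [IsClosedImmersion.lift_fac_assoc]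
    exact Over.w x
  obtain ⟨η', hη⟩ := hout (η : 𝟙_ (Over T) ⟶ Red.bc g G) (comap_eq_bot_of_local hZ _
    fun V B _ _ e M _ ψ htr he => by
      haveI := isMonHom_cc G e g _ he
      haveI := isMonHom_pt (KV G V) htr.1
      refine ⟨1, ?_⟩
      rw [MonObj.one_comp, show (η : 𝟙_ (Over T) ⟶ Red.bc g G) = 1 by rw [Hom.one_def]; simp, Functor.map_one,
        MonObj.one_comp])
  obtain ⟨μ', hμ⟩ := hout ((fst (subK Z) (subK Z) ≫ subj Z) * (snd _ _ ≫ subj Z)) (comap_eq_bot_of_local hZ _
    fun V B _ _ e M _ ψ htr he => by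
      haveI := isMonHom_cc G e g _ he
      haveI := isMonHom_pt (KV G V) htr.1
      obtain ⟨a₁, ha₁⟩ := exists_lift_of_comap_eq_bot _ (hin (fst (subK Z) (subK Z))) htr he
      obtain ⟨a₂, ha₂⟩ := exists_lift_of_comap_eq_bot _ (hin (snd (subK Z) (subK Z))) htr he
      exact ⟨a₁ * a₂, by rw [MonObj.mul_comp, ha₁, ha₂, Functor.map_mul, MonObj.mul_comp]⟩)
  obtain ⟨ι', hι⟩ := hout (subj Z)⁻¹ (comap_eq_bot_of_local hZ _
    fun V B _ _ e M _ ψ htr he => by
      haveI := isMonHom_cc G e g _ he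
      haveI := isMonHom_pt (KV G V) htr.1
      have h0 := hin (𝟙 (subK Z))
      rw [Category.id_comp] at h0
      obtain ⟨a, ha⟩ := exists_lift_of_comap_eq_bot _ h0 htr he
      exact ⟨a⁻¹, by rw [comp_inv_of_isMonHom, ha, Functor.map_inv', comp_inv_of_isMonHom]⟩)
  obtain ⟨iK, hmon⟩ := GrpSchLib.exists_grpObj_of_mono (subj Z) η' hη μ' hμ ι' hι
  letI := iK
  haveI := hmon
  refine ⟨iK, hmon, TorsionOrderScheme.isMultTypeFT_of_etale_split fun t => ?_⟩
  obtain ⟨V, B, _, _, e, M, iM, ψ, he, hte, hM, htr⟩ := hZ t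
  exact ⟨_, e, M, iM, he, hte, hM, nonempty_iso_of_triv htr⟩

/-- A family can be trivialised over every affine open of the base. -/
theorem exists_triv (hZ : IsSub G g Z) (V : S.affineOpens) (t : T) (ht : g t ∈ V.1) :
    ∃ (B : Type u) (_ : CommRing B) (_ : Algebra (RV V) B) (e : Spec (CommRingCat.of B) ⟶ T) (M : Type)
      (_ : AddCommGroup M) (ψ : AV G V →ₐ[RV V] MA M B),
      Etale e ∧ t ∈ Set.range e ∧ AddGroup.FG M ∧ IsTriv G g Z V e ψ := by
  obtain ⟨iK, hmon, hK⟩ := exists_grp hZ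
  letI := iK
  haveI := hmon
  haveI : IsClosedImmersion (subj Z).left := inferInstanceAs (IsClosedImmersion Z.subschemeι)
  have h := exists_triv_of_grp (subj Z) hK V t ht
  rwa [show (subj Z).left.ker = Z from Scheme.IdealSheafData.ker_subschemeι Z] at h

end Sub

end Groth.Agent.Deform.SubMT
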