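import Groth.Agent.Deform.SubMT.Sep

/-!
# The representing property in terms of subgroups

Pulling back the universal family agrees with pulling back the universal subgroup.
-/

set_option autoImplicit false
set_option linter.style.haveILetI false
set_option backward.isDefEq.respectTransparency false
set_option backward.isDefEq.respectTransparency.types false
set_option maxHeartbeats 600000

universe u

open CategoryTheory CategoryTheory.Limits AlgebraicGeometry TopologicalSpace Opposite
open MonoidalCategory CartesianMonoidalCategory MonObj GrpObj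

namespace Groth.Agent.Deform.SubMT

variable {S : Scheme.{u}} {G : Over S} [GrpObj G] [IsAffineHom G.hom]

omit [IsAffineHom G.hom] in
/-- The pullback of a subgroup equals another one exactly when the ideals agree. -/
theorem phi_iff {X T : Scheme.{u}} {g : X ⟶ S} {K : Over X} (j : K ⟶ Red.bc g G) [IsClosedImmersion j.left]
    (v : T ⟶ X) {K' : Over T} (j' : K' ⟶ Red.bc (v ≫ g) G) [IsClosedImmersion j'.left] :
    (∃ φ : K'.left ≅ (Red.bc v K).left, φ.hom ≫ (Red.bc v K).hom = K'.hom ∧
      φ.hom ≫ ((Over.pullback v).map j).left ≫ pullback.fst (Red.bc g G).hom v ≫ pullback.fst G.hom g =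
        j'.left ≫ pullback.fst G.hom (v ≫ g)) ↔
      j.left.ker.comap (bm G v g (v ≫ g) rfl) = j'.left.ker := by
  obtain ⟨hci, hker⟩ := ker_bc_cc G v g _ rfl j
  haveI := hci
  let n := (Over.pullback v).map j ≫ cc G v g (v ≫ g) rfl
  have hfst : n.left ≫ pullback.fst G.hom (v ≫ g) =
      ((Over.pullback v).map j).left ≫ pullback.fst (Red.bc g G).hom v ≫ pullback.fst G.hom g := by
    rw [Over.comp_left, Category.assoc]
    exact congrArg (_ ≫ ·) (cc_left_fst G v g _ rfl)
  constructor
  · rintro ⟨φ, h1, h2⟩
    have : φ.hom ≫ n.left = j'.left := by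
      apply pullback.hom_ext
      · rw [Category.assoc, hfst]; exact h2
      · rw [Category.assoc]
        exact ((congrArg (φ.hom ≫ ·) (Over.w n)).trans h1).trans (Over.w j').symm
    rw [← hker, ← this]
    exact (Scheme.Hom.ker_comp_of_isIso φ.hom n.left).symm
  · intro h
    rw [← hker] at h
    haveI := IsClosedImmersion.isIso_lift n.left j'.left h
    let φ := IsClosedImmersion.lift n.left j'.left h.le
    refine ⟨asIso φ, ?_, ?_⟩
    · show φ ≫ (Red.bc v K).hom = _
      rw [← Over.w n, IsClosedImmersion.lift_fac_assoc]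
      exact Over.w j'
    · show φ ≫ _ = _
      rw [← hfst, IsClosedImmersion.lift_fac_assoc]

/-- A family with the universal property gives the subgroup with the universal property. -/
theorem existsUnique_of_rep {X : Scheme.{u}} (u : Fam G X) {T : Scheme.{u}} (f : T ⟶ S) {K' : Over T} [GrpObj K']
    (j' : K' ⟶ Red.bc f G) [IsMonHom j'] [IsClosedImmersion j'.left] (hK : SGA3x.IsMultTypeFT K')
    (h : ∃! v : T ⟶ X, Fam.pull v u = ⟨f, j'.left.ker, isSub_ker j' hK⟩) :
    ∃! v : T ⟶ X, v ≫ u.1 = f ∧ ∃ φ : K'.left ≅ (Red.bc v (subK u.2.1)).left,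
      φ.hom ≫ (Red.bc v (subK u.2.1)).hom = K'.hom ∧
      φ.hom ≫ ((Over.pullback v).map (subj u.2.1)).left ≫ pullback.fst (Red.bc u.1 G).hom v ≫
        pullback.fst G.hom u.1 = j'.left ≫ pullback.fst G.hom f := by
  haveI : IsClosedImmersion (subj u.2.1).left := inferInstanceAs (IsClosedImmersion u.2.1.subschemeι)
  refine (existsUnique_congr fun v => ?_).mp h
  constructor
  · intro hv
    have hf : v ≫ u.1 = f := congrArg Sigma.fst hv
    subst hf
    refine ⟨rfl, (phi_iff (subj u.2.1) v j').mpr ?_⟩
    rw [show (subj u.2.1).left.ker = u.2.1 from Scheme.IdealSheafData.ker_subschemeι _]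
    exact Subtype.ext_iff.mp (eq_of_heq (Sigma.ext_iff.mp hv).2)
  · rintro ⟨rfl, hφ⟩
    have := (phi_iff (subj u.2.1) v j').mp hφ
    rw [show (subj u.2.1).left.ker = u.2.1 from Scheme.IdealSheafData.ker_subschemeι _] at this
    exact congrArg (Sigma.mk (v ≫ u.1)) (Subtype.ext this)

end Groth.Agent.Deform.SubMT
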