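import Groth.Agent.Deform.SubMT.Finite
import Groth.Agent.Deform.SubMT.Grp
import Groth.Agent.SrcDescent.Scheme
import Mathlib.RingTheory.Finiteness.ModuleFinitePresentation
import Mathlib.AlgebraicGeometry.Morphisms.UniversallyOpen

/-!
# Charts: data and quotients

A chart consists of a type `M`, a finite level `q : M → N` and an open piece of the finite subgroups of type `N` on
which the subgroups of type `M` are determined by their level; the automorphisms of `N` act freely and the chart is the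
image of the piece in the quotient.
-/

set_option autoImplicit false
set_option linter.style.haveILetI false
set_option backward.isDefEq.respectTransparency false
set_option backward.isDefEq.respectTransparency.types false
set_option maxHeartbeats 600000

universe u

open CategoryTheory CategoryTheory.Limits AlgebraicGeometry TopologicalSpace Opposite
open MonoidalCategory CartesianMonoidalCategory MonObj GrpObj
open TensorProduct

namespace Groth.Agent.Deform.SubMT

open HomMT

variable {S : Scheme.{u}} {G : Over S} [GrpObj G] [IsAffineHom G.hom]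

theorem fp_AV (V : S.affineOpens) [LocallyOfFinitePresentation G.hom] :
    Algebra.FinitePresentation (RV V) (AV G V) := by
  have h : LocallyOfFinitePresentation (Spec.map (CommRingCat.ofHom (algebraMap (RV V) (AV G V)))) :=
    MorphismProperty.of_isPullback (KV G V).sq ‹_›
  exact RingHom.finitePresentation_algebraMap.mp
    ((HasRingHomProperty.Spec_iff (P := @LocallyOfFinitePresentation)).mp h)

theorem smooth_AV (V : S.affineOpens) [Smooth G.hom] : Algebra.Smooth (RV V) (AV G V) := by
  have h : Smooth (Spec.map (CommRingCat.ofHom (algebraMap (RV V) (AV G V)))) :=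
    MorphismProperty.of_isPullback (KV G V).sq ‹_›
  exact RingHom.smooth_algebraMap.mp ((HasRingHomProperty.Spec_iff (P := @Smooth)).mp h)

section Galois

variable {R : Type u} [CommRing R] {C : Type u} [CommRing C] [Algebra R C] {Γ : Type} [Group Γ] [Fintype Γ]
  [MulSemiringAction Γ C] [SMulCommClass Γ R C] [Algebra.IsInvariant R C Γ]

include Γ in
/-- The quotient by a free action is etale. -/
theorem etale_of_isFree (hinj : Function.Injective (algebraMap R C)) (hf : IsFree C Γ) :
    Etale (Spec.map (CommRingCat.ofHom (algebraMap R C))) ∧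
      Surjective (Spec.map (CommRingCat.ofHom (algebraMap R C))) := by
  obtain ⟨hfin, hproj⟩ := finite_projective (Γ := Γ) hinj hf
  haveI : Module.FinitePresentation R C := Module.finitePresentation_of_projective R C
  haveI : Algebra.FinitePresentation R C := inferInstance
  haveI hfl := faithfullyFlat (Γ := Γ) hinj hf
  haveI : Algebra.FormallyUnramified R C := by
    rw [Algebra.FormallyUnramified.iff_exists_tensorProduct]
    obtain ⟨e, h1, h2⟩ := exists_galoisElem (R := R) hf
    refine ⟨e, fun x => (theta_bijective hf).1 (funext fun g => ?_), ?_⟩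
    · show theta g _ = theta g 0
      rw [map_mul, map_sub, theta_tmul, theta_tmul, map_zero, _root_.one_mul, smul_one, _root_.mul_one]
      by_cases hg : g = 1
      · subst hg
        rw [one_smul, sub_self, zero_mul]
      · rw [h2 g hg, mul_zero]
    · refine Eq.trans ?_ h1
      congr 1
      refine Algebra.TensorProduct.ext (AlgHom.ext fun a => ?_) (AlgHom.ext fun a => ?_)
      · simp [theta_tmul]
      · simp [theta_tmul]
  refine ⟨Etale.iff_flat_and_formallyUnramified.mpr ⟨?_, ?_, ?_⟩, ⟨fun P => ?_⟩⟩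
  · exact (HasRingHomProperty.Spec_iff (P := @Flat)).mpr (RingHom.flat_algebraMap_iff.mpr inferInstance)
  · exact (HasRingHomProperty.Spec_iff (P := @FormallyUnramified)).mpr
      (RingHom.formallyUnramified_algebraMap.mpr inferInstance)
  · exact (HasRingHomProperty.Spec_iff (P := @LocallyOfFinitePresentation)).mpr
      (RingHom.finitePresentation_algebraMap.mpr inferInstance)
  · exact PrimeSpectrum.comap_surjective_of_faithfullyFlat P

end Galois

variable (G) in
/-- The data of a chart over an affine open. -/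
structure Chart (V : S.affineOpens) where
  /-- the type -/
  M : Type
  [iM : AddCommGroup M]
  fgM : AddGroup.FG M
  /-- the level -/
  N : Type
  [iN : AddCommGroup N]
  [finN : Finite N]
  /-- the reduction -/
  q : M →+ N
  surj : Function.Surjective q
  aut : ∀ h : M ≃+ M, ∃ a : N ≃+ N, ∀ m, q (h m) = a (q m)
  /-- the subgroups of the level -/
  F : FinRep (RV V) (AV G V) N
  /-- the condition -/
  P : ∀ (B : Type u) [CommRing B] [Algebra (RV V) B], (AV G V →ₐ[RV V] MA M B) → Prop
  locus : ∀ (B : Type u) [CommRing B] [Algebra (RV V) B] (ψ : AV G V →ₐ[RV V] MA M B), Mult ψ → Srj ψ →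
    ∃ g : B, ∀ (B' : Type u) [CommRing B'] [Algebra (RV V) B'] (σ : B →ₐ[RV V] B'),
      P B' ((push σ).comp ψ) ↔ IsUnit (σ g)
  /-- the equation of the piece -/
  g0 : F.C
  unit : ∀ (B : Type u) [CommRing B] [Algebra (RV V) B] (ψ : AV G V →ₐ[RV V] MA M B) (σ : F.C →ₐ[RV V] B),
    Mult ψ → Srj ψ → P B ψ → (push σ).comp F.φ = (reM q).comp ψ → IsUnit (σ g0)
  lift : ∀ (B : Type u) [CommRing B] [Algebra (RV V) B] (σ : F.C →ₐ[RV V] B), IsUnit (σ g0) →
    ∃ ψ : AV G V →ₐ[RV V] MA M B, Mult ψ ∧ Srj ψ ∧ P B ψ ∧ (reM q).comp ψ = (push σ).comp F.φ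
  sep : ∀ (B : Type u) [CommRing B] [Algebra (RV V) B] [Nontrivial B] (ψ ψ' : AV G V →ₐ[RV V] MA M B) (a : N ≃+ N),
    Mult ψ → Srj ψ → P B ψ → Mult ψ' → Srj ψ' → P B ψ' →
    (reM q).comp ψ' = (reM a.toAddMonoidHom).comp ((reM q).comp ψ) →
    ∃ h : M ≃+ M, ψ' = (reM h.toAddMonoidHom).comp ψ
  inj : ∀ (B : Type u) [CommRing B] [Algebra (RV V) B] (ψ ψ' : AV G V →ₐ[RV V] MA M B),
    Mult ψ → Srj ψ → P B ψ → Mult ψ' → Srj ψ' → P B ψ' → (reM q).comp ψ' = (reM q).comp ψ → ψ' = ψ

attribute [instance] Chart.iM Chart.iN Chart.finN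

namespace Chart

variable {V : S.affineOpens} (c : Chart G V)

/-- The piece. -/
abbrev O : Type u := Localization.Away c.g0

/-- The map to the piece. -/
noncomputable abbrev loc : c.F.C →ₐ[RV V] c.O := IsScalarTower.toAlgHom (RV V) c.F.C c.O

theorem exists_ψu : ∃ ψ : AV G V →ₐ[RV V] MA c.M c.O, Mult ψ ∧ Srj ψ ∧ c.P c.O ψ ∧
    (reM c.q).comp ψ = (push c.loc).comp c.F.φ :=
  c.lift c.O c.loc (IsLocalization.Away.algebraMap_isUnit c.g0)

/-- The universal map. -/
noncomputable def ψu : AV G V →ₐ[RV V] MA c.M c.O := c.exists_ψu.choose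

theorem ψu_mult : Mult c.ψu := c.exists_ψu.choose_spec.1

theorem ψu_srj : Srj c.ψu := c.exists_ψu.choose_spec.2.1

theorem ψu_P : c.P c.O c.ψu := c.exists_ψu.choose_spec.2.2.1

theorem ψu_spec : (reM c.q).comp c.ψu = (push c.loc).comp c.F.φ := c.exists_ψu.choose_spec.2.2.2

theorem P_map {B B' : Type u} [CommRing B] [Algebra (RV V) B] [CommRing B'] [Algebra (RV V) B']
    {ψ : AV G V →ₐ[RV V] MA c.M B} (hm : Mult ψ) (hs : Srj ψ) (hP : c.P B ψ) (σ : B →ₐ[RV V] B') :
    c.P B' ((push σ).comp ψ) := by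
  obtain ⟨g, hg⟩ := c.locus B ψ hm hs
  have h := (hg B (AlgHom.id _ B)).mp (by rw [push_id_comp]; exact hP)
  exact (hg B' σ).mpr (h.map σ)
where
  push_id_comp : ∀ {M : Type} [AddCommGroup M] {B : Type u} [CommRing B] [Algebra (RV V) B]
      (ψ : AV G V →ₐ[RV V] MA M B), (push (AlgHom.id (RV V) B)).comp ψ = ψ := fun ψ =>
    AlgHom.ext fun x => by ext k; simp [push]

/-- The classifier of a point of the piece. -/
theorem exists_classify {B : Type u} [CommRing B] [Algebra (RV V) B] {ψ : AV G V →ₐ[RV V] MA c.M B} (hm : Mult ψ)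
    (hs : Srj ψ) (hP : c.P B ψ) : ∃ σ : c.O →ₐ[RV V] B, (push σ).comp c.ψu = ψ := by
  obtain ⟨σC, hσC, -⟩ := c.F.univ B _ (mult_reM hm c.q) (hs.reindex c.surj)
  have hu : IsUnit (σC c.g0) := c.unit B ψ σC hm hs hP hσC
  let σ : c.O →ₐ[RV V] B := IsLocalization.Away.liftAlgHom c.g0 hu
  have hσ : σ.comp c.loc = σC := AlgHom.ext fun x => IsLocalization.Away.lift_eq c.g0 hu x
  refine ⟨σ, c.inj B ψ _ hm hs hP (c.ψu_mult.map σ) (c.ψu_srj.map c.ψu_mult σ) (c.P_map c.ψu_mult c.ψu_srj c.ψu_P σ) ?_⟩
  rw [← AlgHom.comp_assoc, ← push_reM, AlgHom.comp_assoc, ψu_spec, ← AlgHom.comp_assoc, push_comp, hσ, hσC]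

theorem inv_injective : Function.Injective (algebraMap c.F.inv c.F.C) := Subtype.val_injective

/-- The map of the piece to the quotient of all subgroups of the level. -/
noncomputable def o : Spec (CommRingCat.of c.O) ⟶ Spec (CommRingCat.of c.F.inv) :=
  Spec.map (CommRingCat.ofHom (algebraMap c.F.C c.O)) ≫
    Spec.map (CommRingCat.ofHom (algebraMap c.F.inv c.F.C))

instance etale_o : Etale c.o := by
  haveI := (etale_of_isFree c.inv_injective c.F.isFree).1
  haveI : IsOpenImmersion (Spec.map (CommRingCat.ofHom (algebraMap c.F.C c.O))) :=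
    IsOpenImmersion.of_isLocalization c.g0
  exact inferInstanceAs (Etale (_ ≫ _))

/-- The chart. -/
noncomputable def Qo : (Spec (CommRingCat.of c.F.inv)).Opens := ⟨Set.range c.o, c.o.isOpenMap.isOpen_range⟩

/-- The chart as a scheme. -/
noncomputable abbrev Q : Scheme.{u} := c.Qo.toScheme

/-- The presentation of the chart. -/
noncomputable def oQ : Spec (CommRingCat.of c.O) ⟶ c.Q :=
  IsOpenImmersion.lift c.Qo.ι c.o (by rw [Scheme.Opens.range_ι]; exact subset_rfl)

theorem oQ_ι : c.oQ ≫ c.Qo.ι = c.o := IsOpenImmersion.lift_fac _ _ _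

instance etale_oQ : Etale c.oQ := by
  haveI : Etale (c.oQ ≫ c.Qo.ι) := by rw [oQ_ι]; infer_instance
  exact Etale.of_comp c.oQ c.Qo.ι

instance surjective_oQ : Surjective c.oQ := ⟨fun z => by
  obtain ⟨x, hx⟩ := z.2
  refine ⟨x, c.Qo.ι.isOpenEmbedding.injective ?_⟩
  rw [← Scheme.Hom.comp_apply, oQ_ι]
  exact hx⟩

/-- The structure map of the chart. -/
noncomputable def str : c.Q ⟶ S := c.Qo.ι ≫ bb (βV V) c.F.inv

theorem oQ_str : c.oQ ≫ c.str = bb (βV V) c.O := by
  rw [str, ← Category.assoc, oQ_ι, o, Category.assoc, ← Spec.map_comp_assoc, ← Spec.map_comp_assoc,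
    ← CommRingCat.ofHom_comp, ← CommRingCat.ofHom_comp]
  rfl

/-- Points of the piece with the same image in the chart define the same subgroup. -/
theorem ker_eq_of_inv {B : Type u} [CommRing B] [Algebra (RV V) B] (σ σ' : c.O →ₐ[RV V] B)
    (h : ∀ r : c.F.inv, σ (c.loc r) = σ' (c.loc r)) :
    (pt (KV G V) B ((push σ).comp c.ψu)).left.ker = (pt (KV G V) B ((push σ').comp c.ψu)).left.ker := by
  obtain ⟨ε, hsum, hε⟩ := exists_translate (R := c.F.inv) (Γ := Gam c.N) c.F.isFree
    (σ.comp c.loc).toRingHom (σ'.comp c.loc).toRingHom h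
  let f : ∀ g, Spec (CommRingCat.of (Localization.Away (ε g))) ⟶ Spec (CommRingCat.of B) := fun g =>
    Spec.map (CommRingCat.ofHom (algebraMap B (Localization.Away (ε g))))
  haveI : ∀ g, IsOpenImmersion (f g) := fun g => IsOpenImmersion.of_isLocalization (ε g)
  have hcov : ∀ z : Spec (CommRingCat.of B), ∃ g y, f g y = z := fun z => by
    by_contra! hall
    have hmem : ∀ g, ε g ∈ z.asIdeal := fun g => by
      by_contra hg
      have : z ∈ Set.range (PrimeSpectrum.comap (algebraMap B (Localization.Away (ε g)))) := by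
        rw [PrimeSpectrum.localization_away_comap_range (Localization.Away (ε g)) (ε g)]
        exact hg
      obtain ⟨y, hy⟩ := this
      exact hall g y hy
    exact z.isPrime.ne_top ((Ideal.eq_top_iff_one _).mpr (hsum ▸ Ideal.sum_mem _ fun g _ => hmem g))
  let L : ∀ g, B →ₐ[RV V] Localization.Away (ε g) := fun g => IsScalarTower.toAlgHom (RV V) B _
  haveI : ∀ g, Flat (bm G (Spec.map (CommRingCat.ofHom (L g).toRingHom)) _ _ (spec_bb (βV V) (L g))) := fun g => by
    haveI : IsOpenImmersion (Spec.map (CommRingCat.ofHom (L g).toRingHom)) := inferInstanceAs (IsOpenImmersion (f g))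
    exact MorphismProperty.of_isPullback (P := @Flat) (isPullback_bm (spec_bb (βV V) (L g))).flip inferInstance
  refine DescLib.eq_of_flat_family
    (fun g : ULift.{u} (Gam c.N) => bm G (Spec.map (CommRingCat.ofHom (L g.down).toRingHom)) _ _
      (spec_bb (βV V) (L g.down))) (fun x => ?_) fun g => ?_
  · obtain ⟨g, y, hy⟩ := hcov (pullback.snd G.hom (bb (βV V) B) x)
    obtain ⟨w, hw, -⟩ := Scheme.Pullback.exists_preimage_pullback (f := pullback.snd G.hom (bb (βV V) B)) (g := f g)
      x y hy.symm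
    refine ⟨⟨g⟩, (isPullback_bm (spec_bb (βV V) (L g))).isoPullback.inv w, ?_⟩
    rw [← Scheme.Hom.comp_apply, IsPullback.isoPullback_inv_fst]
    exact hw
  have hm₁ := c.ψu_mult.map σ
  have hs₁ := c.ψu_srj.map c.ψu_mult σ
  have hm₂ := c.ψu_mult.map σ'
  have hs₂ := c.ψu_srj.map c.ψu_mult σ'
  rw [← ker_push _ (L g.down) hs₁, ← ker_push _ (L g.down) hs₂]
  rcases subsingleton_or_nontrivial (Localization.Away (ε g.down)) with hB | hB
  · congr 3
    exact AlgHom.ext fun x => by
      ext k
      exact Subsingleton.elim _ _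
  have hlev : ∀ τ : c.O →ₐ[RV V] B, (reM c.q).comp ((push (L g.down)).comp ((push τ).comp c.ψu)) =
      (push ((L g.down).comp (τ.comp c.loc))).comp c.F.φ := fun τ => by
    rw [← AlgHom.comp_assoc, ← push_reM, AlgHom.comp_assoc, ← AlgHom.comp_assoc (reM c.q), ← push_reM,
      AlgHom.comp_assoc, ψu_spec, ← AlgHom.comp_assoc, ← AlgHom.comp_assoc, push_comp, push_comp]
    rfl
  have htw : (L g.down).comp (σ'.comp c.loc) =
      ((L g.down).comp (σ.comp c.loc)).comp (c.F.twist (Multiplicative.toAdd g.down).symm) := AlgHom.ext fun x => by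
    have h1 := congrArg (L g.down) (hε g.down x)
    rw [map_mul, map_mul] at h1
    exact (IsLocalization.Away.algebraMap_isUnit (ε g.down)).mul_left_cancel h1
  obtain ⟨e, he⟩ := c.sep _ _ _ (Multiplicative.toAdd g.down).symm (hm₁.map (L g.down)) (hs₁.map hm₁ _)
    (c.P_map hm₁ hs₁ (c.P_map c.ψu_mult c.ψu_srj c.ψu_P σ) _) (hm₂.map (L g.down)) (hs₂.map hm₂ _)
    (c.P_map hm₂ hs₂ (c.P_map c.ψu_mult c.ψu_srj c.ψu_P σ') _) (by
      rw [hlev, hlev, htw, ← push_comp, AlgHom.comp_assoc, FinRep.twist_spec, ← AlgHom.comp_assoc, push_reM,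
        AlgHom.comp_assoc])
  rw [he, ker_reM]

end Chart

end Groth.Agent.Deform.SubMT
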