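import Groth.Agent.Deform.HomMT.Chart
import Mathlib.Data.Finset.NAry

/-!
# Charts of homomorphisms out of two diagonalisable groups

A homomorphism of character groups which is injective on a bounded set identifies the chart of `F` with the chart of
the image of `F`.
-/

set_option autoImplicit false

universe u

open TensorProduct WithConv

namespace Groth.Agent.Deform.SubMT

open HomMT

/-- The supports are contained in `E`. -/
def SuppIn {M : Type} [AddCommGroup M] {B : Type u} [CommRing B] (E : Finset M) (x : MA M B) : Prop :=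
  ∀ m ∉ E, x.coeff (Multiplicative.ofAdd m) = 0

section Supp

variable {M : Type} [AddCommGroup M] {B : Type u} [CommRing B] {E E' : Finset M} {x y : MA M B}

theorem SuppIn.mono (h : SuppIn E x) (hE : E ⊆ E') : SuppIn E' x := fun m hm => h m fun hm' => hm (hE hm')

theorem SuppIn.add (hx : SuppIn E x) (hy : SuppIn E y) : SuppIn E (x + y) := fun m hm => by
  simp [hx m hm, hy m hm]

theorem SuppIn.sum {ι : Type*} (s : Finset ι) (f : ι → MA M B) (h : ∀ i ∈ s, SuppIn E (f i)) :
    SuppIn E (∑ i ∈ s, f i) := fun m hm => by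
  simp [MonoidAlgebra.coeff_sum, Finsupp.coe_finsetSum, Finset.sum_apply, Finset.sum_eq_zero fun i hi => h i hi m hm]

theorem suppIn_zero : SuppIn E (0 : MA M B) := fun m _ => rfl

theorem suppIn_single {m : M} (hm : m ∈ E) (r : B) : SuppIn E (MonoidAlgebra.single (Multiplicative.ofAdd m) r) :=
  fun m' hm' => by
    classical
    rw [MonoidAlgebra.coeff_single, Finsupp.single_apply, if_neg fun e => hm' ?_]
    obtain rfl := Multiplicative.ofAdd.injective e
    exact hm

open Classical in
theorem SuppIn.mul (hx : SuppIn E x) (hy : SuppIn E' y) :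
    SuppIn (Finset.image₂ (· + ·) E E') (x * y) := by
  rw [eq_sum_of_vanish E x hx, eq_sum_of_vanish E' y hy, Finset.sum_mul_sum]
  refine SuppIn.sum _ _ fun a ha => SuppIn.sum _ _ fun b hb => ?_
  rw [MonoidAlgebra.single_mul_single, ← ofAdd_add]
  exact suppIn_single (Finset.mem_image₂_of_mem ha hb) _

theorem exists_suppIn (x : MA M B) : ∃ E : Finset M, SuppIn E x := by
  classical
  exact ⟨x.coeff.support.image Multiplicative.toAdd, fun m hm => Finsupp.notMem_support_iff.mp fun h =>
    hm (Finset.mem_image.mpr ⟨_, h, rfl⟩)⟩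

end Supp

variable {R : Type u} [CommRing R] {A : Type u} [CommRing A] [Bialgebra R A] {M N : Type} [AddCommGroup M]
  [AddCommGroup N] {B : Type u} [CommRing B] [Algebra R B]

/-- The map of group algebras. -/
noncomputable abbrev reM (q : M →+ N) : MA M B →ₐ[R] MA N B :=
  MonoidAlgebra.mapDomainAlgHom R B (AddMonoidHom.toMultiplicative q)

theorem coeff_reM {q : M →+ N} {E : Finset M} {x : MA M B} (hx : SuppIn E x) (hq : Set.InjOn q E) {m : M}
    (hm : m ∈ E) : (reM (R := R) q x).coeff (Multiplicative.ofAdd (q m)) = x.coeff (Multiplicative.ofAdd m) := by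
  classical
  rw [eq_sum_of_vanish E x hx, map_sum]
  simp only [MonoidAlgebra.coeff_sum, Finsupp.coe_finsetSum, Finset.sum_apply]
  refine Finset.sum_congr rfl fun a ha => ?_
  show (MonoidAlgebra.mapDomain _ (MonoidAlgebra.single _ _)).coeff _ = _
  rw [MonoidAlgebra.mapDomain_single, MonoidAlgebra.coeff_single, MonoidAlgebra.coeff_single, Finsupp.single_apply,
    Finsupp.single_apply]
  refine if_congr ⟨fun h => congrArg Multiplicative.ofAdd (hq ha hm (Multiplicative.ofAdd.injective h)),
    fun h => ?_⟩ rfl rfl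
  show Multiplicative.ofAdd (q a) = _
  rw [Multiplicative.ofAdd.injective h]

theorem coeff_reM_of_notMem {q : M →+ N} {E : Finset M} {x : MA M B} (hx : SuppIn E x) {n : N}
    (hn : ∀ m ∈ E, q m ≠ n) : (reM (R := R) q x).coeff (Multiplicative.ofAdd n) = 0 := by
  classical
  rw [eq_sum_of_vanish E x hx, map_sum]
  simp only [MonoidAlgebra.coeff_sum, Finsupp.coe_finsetSum, Finset.sum_apply]
  refine Finset.sum_eq_zero fun a ha => ?_
  show (MonoidAlgebra.mapDomain _ (MonoidAlgebra.single _ _)).coeff _ = _
  rw [MonoidAlgebra.mapDomain_single, MonoidAlgebra.coeff_single, Finsupp.single_apply]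
  exact if_neg fun h => hn a ha (Multiplicative.ofAdd.injective h)

theorem eq_of_reM {q : M →+ N} {E : Finset M} {x y : MA M B} (hx : SuppIn E x) (hy : SuppIn E y)
    (hq : Set.InjOn q E) (h : reM (R := R) q x = reM (R := R) q y) : x = y := by
  refine MonoidAlgebra.ext (Finsupp.ext fun k => ?_)
  by_cases hk : Multiplicative.toAdd k ∈ E
  · rw [← ofAdd_toAdd k, ← coeff_reM (R := R) hx hq hk, ← coeff_reM (R := R) hy hq hk, h]
  · rw [← ofAdd_toAdd k, hx _ hk, hy _ hk]

/-- Compatibility with the comultiplications is preserved. -/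
theorem mult_reM {ψ : A →ₐ[R] MA M B} (h : Mult ψ) (q : M →+ N) : Mult ((reM q).comp ψ) := by
  let q₂ : MA2 M B →ₐ[R] MA2 N B := MonoidAlgebra.mapDomainAlgHom R B
    ((AddMonoidHom.toMultiplicative q).prodMap (AddMonoidHom.toMultiplicative q))
  have e : ∀ (τ : Multiplicative M →* Multiplicative M × Multiplicative M)
      (τ' : Multiplicative N →* Multiplicative N × Multiplicative N),
      (((AddMonoidHom.toMultiplicative q).prodMap (AddMonoidHom.toMultiplicative q)).comp τ =
        τ'.comp (AddMonoidHom.toMultiplicative q)) →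
      q₂.comp (MonoidAlgebra.mapDomainAlgHom R B τ) = (MonoidAlgebra.mapDomainAlgHom R B τ').comp (reM q) :=
    fun τ τ' hτ => by
      simp only [q₂, ← MonoidAlgebra.mapDomainAlgHom_comp, hτ]
  have h' := congrArg q₂.comp h
  rw [AlgHom.comp_convMul_distrib, ofConv_toConv, ofConv_toConv, ← AlgHom.comp_assoc, ← AlgHom.comp_assoc,
    ← AlgHom.comp_assoc, e _ (MonoidHom.inl _ _) (by ext <;> simp), e _ (MonoidHom.inr _ _) (by ext <;> simp),
    e _ ((MonoidHom.id _).prod (MonoidHom.id _)) (by ext <;> simp)] at h'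
  exact h'

variable (D : Stable R A)

/-- The supports of all values are bounded in terms of those of the generators. -/
theorem exists_bound (F : Finset M) (x : A) :
    ∃ E : Finset M, ∀ (B : Type u) [CommRing B] [Algebra R B] (ψ : A →ₐ[R] MA M B),
      (∀ j, SuppIn F (ψ (D.v j))) → SuppIn E (ψ x) := by
  classical
  have hx : x ∈ Algebra.adjoin R (Set.range D.v) := D.gen ▸ Algebra.mem_top
  induction hx using Algebra.adjoin_induction with
  | mem y hy =>
    obtain ⟨j, rfl⟩ := hy
    exact ⟨F, fun B _ _ ψ h => h j⟩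
  | algebraMap r =>
    refine ⟨{0}, fun B _ _ ψ _ => ?_⟩
    rw [AlgHom.commutes, show algebraMap R (MA M B) r = MonoidAlgebra.single (Multiplicative.ofAdd (0 : M))
      (algebraMap R B r) from rfl]
    exact suppIn_single (Finset.mem_singleton_self 0) _
  | add y z _ _ hy hz =>
    obtain ⟨E, hE⟩ := hy
    obtain ⟨E', hE'⟩ := hz
    refine ⟨E ∪ E', fun B _ _ ψ h => ?_⟩
    rw [map_add]
    exact ((hE B ψ h).mono Finset.subset_union_left).add ((hE' B ψ h).mono Finset.subset_union_right)
  | mul y z _ _ hy hz =>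
    obtain ⟨E, hE⟩ := hy
    obtain ⟨E', hE'⟩ := hz
    exact ⟨_, fun B _ _ ψ h => by rw [map_mul]; exact (hE B ψ h).mul (hE' B ψ h)⟩

theorem suppIn_v {F : Finset M} {ψ : A →ₐ[R] MA M B} (h : Mult ψ) (hF : Good D F ψ) (j : Fin D.n) :
    SuppIn F (ψ (D.v j)) := fun _ hm => coef_eq_zero D h hF hm j

theorem conv_v (ψ : A →ₐ[R] MA M B) (j : Fin D.n) :
    (toConv ((inlA R M B).comp ψ) * toConv ((inrA R M B).comp ψ)).ofConv (D.v j) =
      ∑ i, inlA R M B (ψ (D.v i)) * inrA R M B (ψ (D.a i j)) := by
  show (toConv ((inlA R M B).comp ψ) * toConv ((inrA R M B).comp ψ)) (D.v j) = _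
  rw [AlgHom.convMul_apply, D.comul_v, map_sum]
  simp

/-- Compatibility on the coefficients of the generators. -/
theorem mult_iff_coeff (ψ : A →ₐ[R] MA M B) :
    Mult ψ ↔ ∀ j (m m' : Multiplicative M),
      ∑ i, (ψ (D.v i)).coeff m * (ψ (D.a i j)).coeff m' =
        (dgnA R M B (ψ (D.v j))).coeff (m, m') := by
  refine ⟨fun h j m m' => ?_, fun h => ext_v D fun j => ?_⟩
  · have h' := congrArg (fun x : MA2 M B => x.coeff (m, m')) (DFunLike.congr_fun h (D.v j))
    simp only [AlgHom.comp_apply] at h'
    rw [← h', conv_v, MonoidAlgebra.coeff_sum, Finsupp.coe_finsetSum, Finset.sum_apply]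
    exact Finset.sum_congr rfl fun i _ => by rw [coeff_inl_mul_inr]
  · refine MonoidAlgebra.ext (Finsupp.ext fun ⟨m, m'⟩ => ?_)
    rw [conv_v, AlgHom.comp_apply, ← h j m m', MonoidAlgebra.coeff_sum, Finsupp.coe_finsetSum, Finset.sum_apply]
    exact Finset.sum_congr rfl fun i _ => by rw [coeff_inl_mul_inr]

theorem coeff_dgn_ne {m m' : Multiplicative M} (h : m ≠ m') (x : MA M B) : (dgnA R M B x).coeff (m, m') = 0 := by
  classical
  show (MonoidAlgebra.mapDomain _ x).coeff (m, m') = 0
  refine Finsupp.mapDomain_notin_range _ _ ?_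
  rintro ⟨a, ha⟩
  exact h ((congrArg Prod.fst ha).symm.trans (congrArg Prod.snd ha))

open Classical in
/-- A map of character groups injective on a bounded set identifies the charts. -/
theorem exists_reindex [Algebra.FinitePresentation R A] (F : Finset M) :
    ∃ E : Finset M, F ⊆ E ∧ ∀ {N : Type} [AddCommGroup N] (q : M →+ N), Set.InjOn q E →
      ∀ (B : Type u) [CommRing B] [Algebra R B],
        (∀ ψ : A →ₐ[R] MA M B, Mult ψ → Good D F ψ → Good D (F.image q) ((reM q).comp ψ)) ∧
        (∀ φ : A →ₐ[R] MA N B, Mult φ → Good D (F.image q) φ →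
          ∃ ψ : A →ₐ[R] MA M B, Mult ψ ∧ Good D F ψ ∧ (reM q).comp ψ = φ) := by
  let π : MvPolynomial (Fin D.n) R →ₐ[R] A := MvPolynomial.aeval D.v
  have hπ : Function.Surjective π := by
    rw [← AlgHom.range_eq_top, ← Algebra.adjoin_range_eq_range_aeval, D.gen]
  obtain ⟨s, hs⟩ := Algebra.FinitePresentation.ker_fG_of_surjective π hπ
  choose Ea hEa using fun p : Fin D.n × Fin D.n => exists_bound D F (D.a p.1 p.2)
  have hpoly : ∀ f : MvPolynomial (Fin D.n) R, ∃ E : Finset M, ∀ (B : Type u) [CommRing B] [Algebra R B]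
      (w : Fin D.n → MA M B), (∀ j, SuppIn F (w j)) → SuppIn E (MvPolynomial.aeval w f) := by
    intro f
    induction f using MvPolynomial.induction_on with
    | C r =>
      refine ⟨{0}, fun B _ _ w _ => ?_⟩
      rw [MvPolynomial.aeval_C, show algebraMap R (MA M B) r = MonoidAlgebra.single (Multiplicative.ofAdd (0 : M))
        (algebraMap R B r) from rfl]
      exact suppIn_single (Finset.mem_singleton_self 0) _
    | add f g hf hg =>
      obtain ⟨E, hE⟩ := hf
      obtain ⟨E', hE'⟩ := hg
      refine ⟨E ∪ E', fun B _ _ w h => ?_⟩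
      rw [map_add]
      exact ((hE B w h).mono Finset.subset_union_left).add ((hE' B w h).mono Finset.subset_union_right)
    | mul_X f j hf =>
      obtain ⟨E, hE⟩ := hf
      refine ⟨Finset.image₂ (· + ·) E F, fun B _ _ w h => ?_⟩
      rw [map_mul, MvPolynomial.aeval_X]
      exact (hE B w h).mul (h j)
  choose Ef hEf using hpoly
  let E : Finset M := F ∪ Finset.univ.biUnion Ea ∪ s.biUnion Ef
  have hFE : F ⊆ E := Finset.subset_union_left.trans Finset.subset_union_left
  refine ⟨E, hFE, fun {N} _ q hq B _ _ => ⟨fun ψ hm hg n hn => ?_, fun φ hm hg => ?_⟩⟩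
  · have hsupp : ∀ i j, SuppIn E (ψ (D.a i j)) := fun i j =>
      (hEa (i, j) B ψ (suppIn_v D hm hg)).mono
        ((Finset.subset_biUnion_of_mem Ea (Finset.mem_univ (i, j))).trans
          (Finset.subset_union_right.trans Finset.subset_union_left))
    by_cases hn' : ∃ m ∈ E, q m = n
    · obtain ⟨m, hm', rfl⟩ := hn'
      have he : rho D ((reM q).comp ψ) (q m) = rho D ψ m := by
        rw [rho, rho]
        congr 2
        ext i j
        exact coeff_reM (R := R) (hsupp i j) hq hm'
      rw [he]
      exact hg m fun h => hn (Finset.mem_image_of_mem q h)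
    · have he : rho D ((reM q).comp ψ) n = 1 := by
        rw [rho, show (Matrix.of fun i j => coef ((reM q).comp ψ) n (D.a i j)) = 0 from ?_, sub_zero, Matrix.det_one]
        ext i j
        exact coeff_reM_of_notMem (R := R) (hsupp i j) fun m hm' e => hn' ⟨m, hm', e⟩
      rw [he]
      exact isUnit_one
  · let w : Fin D.n → MA M B := fun j =>
      ∑ m ∈ F, MonoidAlgebra.single (Multiplicative.ofAdd m) (coef φ (q m) (D.v j))
    have hw : ∀ j, SuppIn F (w j) := fun j => SuppIn.sum _ _ fun m hm' => suppIn_single hm' _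
    have hqw : ∀ j, reM (R := R) q (w j) = φ (D.v j) := fun j => by
      rw [eq_sum_of_vanish (F.image q) (φ (D.v j)) (suppIn_v D hm hg j),
        Finset.sum_image fun a ha b hb e => hq (hFE ha) (hFE hb) e, map_sum]
      refine Finset.sum_congr rfl fun m _ => ?_
      show MonoidAlgebra.mapDomain _ (MonoidAlgebra.single _ _) = _
      rw [MonoidAlgebra.mapDomain_single]
      rfl
    let θ : MvPolynomial (Fin D.n) R →ₐ[R] MA M B := MvPolynomial.aeval w
    have hθ : (reM q).comp θ = φ.comp π := MvPolynomial.algHom_ext fun j => by simp [θ, π, hqw]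
    have hker : RingHom.ker π ≤ RingHom.ker θ := by
      show RingHom.ker π.toRingHom ≤ _
      rw [← hs, Ideal.span_le]
      intro f hf
      have hf0 : π f = 0 := (hs ▸ Ideal.subset_span hf : f ∈ RingHom.ker π.toRingHom)
      have hsE : SuppIn E (θ f) := (hEf f B w hw).mono
        ((Finset.subset_biUnion_of_mem Ef hf).trans Finset.subset_union_right)
      refine eq_of_reM (R := R) hsE suppIn_zero hq ?_
      rw [map_zero, ← AlgHom.comp_apply, hθ, AlgHom.comp_apply, hf0, map_zero]
    let ψ : A →ₐ[R] MA M B := (Ideal.Quotient.liftₐ (RingHom.ker π) θ fun x hx => hker hx).comp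
      (Ideal.quotientKerAlgEquivOfSurjective hπ).symm.toAlgHom
    have hψπ : ∀ x, ψ (π x) = θ x := fun x => by
      show Ideal.Quotient.liftₐ (RingHom.ker π) θ (fun x hx => hker hx)
        ((Ideal.quotientKerAlgEquivOfSurjective hπ).symm (π x)) = _
      rw [show (Ideal.quotientKerAlgEquivOfSurjective hπ).symm (π x) = Ideal.Quotient.mk _ x from
        (AlgEquiv.symm_apply_eq _).mpr rfl]
      rfl
    have hψv : ∀ j, ψ (D.v j) = w j := fun j => by
      have := hψπ (MvPolynomial.X j)
      simpa [π, θ] using this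
    have hqψ : (reM q).comp ψ = φ := ext_v D fun j => by rw [AlgHom.comp_apply, hψv, hqw]
    have hsupp : ∀ i j, SuppIn E (ψ (D.a i j)) := fun i j =>
      (hEa (i, j) B ψ fun k => (hψv k).symm ▸ hw k).mono
        ((Finset.subset_biUnion_of_mem Ea (Finset.mem_univ (i, j))).trans
          (Finset.subset_union_right.trans Finset.subset_union_left))
    have hvE : ∀ j, SuppIn E (ψ (D.v j)) := fun j => ((hψv j).symm ▸ hw j : SuppIn F (ψ (D.v j))).mono hFE
    refine ⟨ψ, (mult_iff_coeff D ψ).mpr fun j m m' => ?_, fun m hm' => ?_, hqψ⟩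
    · by_cases hmm : Multiplicative.toAdd m ∈ E ∧ Multiplicative.toAdd m' ∈ E
      · have h := (mult_iff_coeff D φ).mp hm j (Multiplicative.ofAdd (q m.toAdd)) (Multiplicative.ofAdd (q m'.toAdd))
        simp only [← hqψ, AlgHom.comp_apply, coeff_reM (hvE _) hq hmm.1, coeff_reM (hsupp _ _) hq hmm.2,
          ofAdd_toAdd] at h
        rw [h]
        by_cases e : m = m'
        · subst e
          rw [coeff_dgn, coeff_dgn, coeff_reM (hvE _) hq hmm.1, ofAdd_toAdd]
        · rw [coeff_dgn_ne e, coeff_dgn_ne fun h' => e (Multiplicative.toAdd.injective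
            (hq hmm.1 hmm.2 (Multiplicative.ofAdd.injective h')))]
      · have hl : ∑ i, (ψ (D.v i)).coeff m * (ψ (D.a i j)).coeff m' = 0 := by
          refine Finset.sum_eq_zero fun i _ => ?_
          rcases not_and_or.mp hmm with h | h
          · rw [show (ψ (D.v i)).coeff m = 0 from hvE i _ h, zero_mul]
          · rw [show (ψ (D.a i j)).coeff m' = 0 from hsupp i j _ h, mul_zero]
        rw [hl]
        by_cases e : m = m'
        · subst e
          rw [coeff_dgn]
          exact (hvE j _ fun h => hmm ⟨h, h⟩).symm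
        · rw [coeff_dgn_ne e]
    · by_cases hmE : m ∈ E
      · have he : rho D ψ m = rho D φ (q m) := by
          rw [rho, rho]
          congr 2
          ext i j
          show coef ψ m _ = coef φ (q m) _
          simp only [coef, ← hqψ, AlgHom.comp_apply, coeff_reM (R := R) (hsupp i j) hq hmE]
        rw [he]
        refine hg _ fun h => ?_
        obtain ⟨m₁, hm₁, e⟩ := Finset.mem_image.mp h
        exact hm' (hq (hFE hm₁) hmE e ▸ hm₁)
      · have he : rho D ψ m = 1 := by
          rw [rho, show (Matrix.of fun i j => coef ψ m (D.a i j)) = 0 from ?_, sub_zero, Matrix.det_one]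
          ext i j
          exact hsupp i j m hmE
        rw [he]
        exact isUnit_one

end Groth.Agent.Deform.SubMT
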