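import Groth.Agent.Deform.SubMT.Chart

/-!
# The scheme of the families lying in given charts

The families which at every point lie in one of the given charts form a Zariski sheaf; it is glued from the charts, so
it is representable, and the charts are jointly surjective open subschemes of the representing scheme.
-/

set_option autoImplicit false
set_option linter.style.haveILetI false
set_option backward.isDefEq.respectTransparency false
set_option backward.isDefEq.respectTransparency.types false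
set_option maxHeartbeats 600000

universe u

open CategoryTheory CategoryTheory.Limits AlgebraicGeometry TopologicalSpace Opposite

namespace Groth.Agent.Deform.SubMT

variable {S : Scheme.{u}} {G : Over S} [GrpObj G] [IsAffineHom G.hom]

theorem Chart.inChart_univ {V : S.affineOpens} (c : Chart G V) (z : c.Q) : c.InChart c.univ z :=
  ⟨c.Q.residueField z, inferInstance, c.Q.fromSpecResidueField z, c.Q.fromSpecResidueField z,
    ⟨IsLocalRing.closedPoint _, Scheme.fromSpecResidueField_apply z _⟩, rfl⟩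

theorem Chart.inChart_pull {V : S.affineOpens} (c : Chart G V) {T T' : Scheme.{u}} (f : T' ⟶ T) {e : Fam G T}
    {t' : T'} (h : c.InChart e (f t')) : c.InChart (Fam.pull f e) t' := by
  obtain ⟨K, _, x, v, ⟨k, hk⟩, hv⟩ := h
  obtain ⟨z, hz, -⟩ := Scheme.Pullback.exists_preimage_pullback (f := f) (g := x) t' k hk.symm
  let i := (pullback f x).fromSpecResidueField z
  refine ⟨(pullback f x).residueField z, inferInstance, i ≫ pullback.fst f x, i ≫ pullback.snd f x ≫ v,
    ⟨IsLocalRing.closedPoint _, ?_⟩, ?_⟩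
  · rw [Scheme.Hom.comp_apply]
    exact (congrArg (fun q => pullback.fst f x q) (Scheme.fromSpecResidueField_apply z _)).trans hz
  · rw [← Category.assoc, Fam.pull_comp, hv, ← Fam.pull_comp, ← Fam.pull_comp, Category.assoc, Category.assoc,
      pullback.condition]

theorem Chart.inChart_of_pull {V : S.affineOpens} (c : Chart G V) {T T' : Scheme.{u}} (f : T' ⟶ T) {e : Fam G T}
    {t' : T'} (h : c.InChart (Fam.pull f e) t') : c.InChart e (f t') := by
  obtain ⟨K, _, x, v, ⟨k, hk⟩, hv⟩ := h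
  exact ⟨K, inferInstance, x ≫ f, v, ⟨k, by rw [Scheme.Hom.comp_apply, hk]⟩, by rw [hv, ← Fam.pull_comp]⟩

variable {κ : Type u} {V : κ → S.affineOpens} (c : ∀ i, Chart G (V i))

/-- Every point of the base lies in one of the charts. -/
def Covered {T : Scheme.{u}} (e : Fam G T) : Prop := ∀ t : T, ∃ i, (c i).InChart e t

theorem Covered.pull {T T' : Scheme.{u}} {e : Fam G T} (h : Covered c e) (f : T' ⟶ T) :
    Covered c (Fam.pull f e) := fun t' => by
  obtain ⟨i, hi⟩ := h (f t')
  exact ⟨i, (c i).inChart_pull f hi⟩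

theorem covered_univ (i : κ) : Covered c (c i).univ := fun z => ⟨i, (c i).inChart_univ z⟩

/-- The covered families. -/
noncomputable def subFunctor : Scheme.{u}ᵒᵖ ⥤ Type u where
  obj T := { e : Fam G T.unop // Covered c e }
  map h := ↾fun e => ⟨Fam.pull h.unop e.1, e.2.pull c h.unop⟩
  map_id T := by
    refine ConcreteCategory.hom_ext _ _ fun e => ?_
    exact Subtype.ext (Fam.pull_id e.1)
  map_comp h h' := by
    refine ConcreteCategory.hom_ext _ _ fun e => ?_
    exact Subtype.ext (Fam.pull_comp h'.unop h.unop e.1)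

theorem isSheaf_subFunctor : Presieve.IsSheaf Scheme.zariskiTopology (subFunctor c) := by
  have hG := isSheaf G
  rw [Precoverage.isSheaf_toGrothendieck_iff_of_isStableUnderBaseChange_of_small.{u}] at hG ⊢
  intro T (𝒰 : Scheme.OpenCover.{u} T) x hx
  let y : Presieve.FamilyOfElements (functor G) 𝒰.presieve₀ := fun Y f hf => (x f hf).1
  have hy : y.Compatible := fun Y₁ Y₂ Z g₁ g₂ f₁ f₂ h₁ h₂ h => congrArg Subtype.val (hx g₁ g₂ h₁ h₂ h)
  obtain ⟨e, he, huniq⟩ := hG 𝒰 y hy
  have hcov : Covered c e := fun t => by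
    obtain ⟨j, z, hz⟩ := 𝒰.exists_eq t
    obtain ⟨i, hi⟩ := (x (𝒰.f j) (.mk j)).2 z
    refine ⟨i, hz ▸ (c i).inChart_of_pull (𝒰.f j) ?_⟩
    have h : Fam.pull (𝒰.f j) e = (x (𝒰.f j) (.mk j)).1 := he (𝒰.f j) (.mk j)
    rw [h]
    exact hi
  refine ⟨⟨e, hcov⟩, fun Y f hf => Subtype.ext (he f hf), fun e' he' => Subtype.ext ?_⟩
  exact huniq e'.1 fun Y f hf => congrArg Subtype.val (he' f hf)

/-- The classifying map of a chart. -/
noncomputable def subNat (i : κ) : yoneda.obj (c i).Q ⟶ subFunctor c :=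
  yonedaEquiv.symm ⟨(c i).univ, covered_univ c i⟩

theorem subNat_app (i : κ) (T : Scheme.{u}) (v : T ⟶ (c i).Q) :
    ((subNat c i).app (op T) v).1 = Fam.pull v (c i).univ := rfl

theorem isOpenImmersion_subNat (i : κ) : IsOpenImmersion.presheaf (subNat c i) := by
  refine MorphismProperty.relative.of_exists fun T t => ?_
  let e : { e : Fam G T // Covered c e } := yonedaEquiv t
  have ht : ∀ (W : Scheme.{u}) (h : W ⟶ T), (t.app (op W) h).1 = Fam.pull h e.1 := fun W h =>
    congrArg Subtype.val (congrArg (fun t => t.app (op W) h) (yonedaEquiv.symm_apply_apply t)).symm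
  obtain ⟨Ω, ι₀, hmem, hι₀⟩ := (c i).exists_loc e.1
  refine ⟨Ω, yoneda.map ι₀, Ω.ι, ?_, inferInstance⟩
  refine IsPullback.of_forall_isPullback_app fun W => (Types.isPullback_iff _ _ _ _).2 ⟨?_, ?_, ?_⟩
  · refine ConcreteCategory.hom_ext _ _ fun l => Subtype.ext ?_
    show Fam.pull (l ≫ ι₀) (c i).univ = (t.app W (l ≫ Ω.ι)).1
    rw [ht, Fam.pull_comp, Fam.pull_comp, hι₀]
  · rintro l l' ⟨-, h⟩
    exact (cancel_mono Ω.ι).1 h
  · intro (a₀ : W.unop ⟶ (c i).Q) (h : W.unop ⟶ T) hah
    have hah' : Fam.pull a₀ (c i).univ = Fam.pull h e.1 := (congrArg Subtype.val hah).trans (ht _ h)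
    have hrange : Set.range h ⊆ Set.range Ω.ι := by
      rw [Scheme.Opens.range_ι]
      rintro _ ⟨z, rfl⟩
      refine hmem _ ⟨W.unop.residueField z, inferInstance, W.unop.fromSpecResidueField z ≫ h,
        W.unop.fromSpecResidueField z ≫ a₀, ⟨IsLocalRing.closedPoint _, ?_⟩, ?_⟩
      · rw [Scheme.Hom.comp_apply]
        exact congrArg (fun q => h q) (Scheme.fromSpecResidueField_apply z _)
      · rw [Fam.pull_comp, hah', ← Fam.pull_comp]
    refine ⟨IsOpenImmersion.lift Ω.ι h hrange, ?_, IsOpenImmersion.lift_fac _ _ _⟩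
    show IsOpenImmersion.lift Ω.ι h hrange ≫ ι₀ = a₀
    refine (c i).mono ?_
    rw [Fam.pull_comp, hι₀, ← Fam.pull_comp, IsOpenImmersion.lift_fac, hah']

instance isLocallySurjective_subNat :
    Presheaf.IsLocallySurjective Scheme.zariskiTopology (Sigma.desc (subNat c)) := by
  refine ⟨fun {T} e => ?_⟩
  choose i hi using fun t => e.2 t
  choose Ω ι₀ hmem hι₀ using fun t => (c (i t)).exists_loc e.1
  let 𝒰 := T.openCoverOfIsOpenCover Ω
    (TopologicalSpace.IsOpenCover.mk (top_le_iff.1 fun t _ => Opens.mem_iSup.2 ⟨t, hmem t t (hi t)⟩))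
  refine GrothendieckTopology.superset_covering _ ?_ (Scheme.Cover.mem_grothendieckTopology 𝒰)
  rw [Sieve.generate_le_iff]
  rintro W v ⟨t⟩
  refine ⟨(Sigma.ι (fun j => yoneda.obj (c j).Q) (i t)).app _ (ι₀ t), ?_⟩
  rw [← CategoryTheory.NatTrans.comp_app_apply, Sigma.ι_desc]
  exact Subtype.ext (hι₀ t)

/-- The covered families are represented; the charts are open and cover. -/
theorem exists_rep : ∃ (X : Scheme.{u}) (p : X ⟶ S) (u : Fam G X),
    u.1 = p ∧ Covered c u ∧
      (∀ (T : Scheme.{u}) (e : Fam G T), Covered c e → ∃! v : T ⟶ X, Fam.pull v u = e) ∧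
      ∃ w : ∀ i, (c i).Q ⟶ X, (∀ i, IsOpenImmersion (w i)) ∧ (∀ i, Fam.pull (w i) u = (c i).univ) ∧
        ∀ (i : κ) (x : X), x ∈ Set.range (w i) ↔ (c i).InChart u x := by
  let F : Sheaf Scheme.zariskiTopology (Type u) :=
    ⟨subFunctor c, (isSheaf_iff_isSheaf_of_type _ _).2 (isSheaf_subFunctor c)⟩
  obtain ⟨X, ⟨r⟩⟩ := Scheme.LocalRepresentability.isRepresentable (F := F) (X := fun i => (c i).Q)
    (f := subNat c) (isOpenImmersion_subNat c)
  let u := r.homEquiv (𝟙 X)
  have hr : ∀ {T : Scheme.{u}} (m : T ⟶ X), (r.homEquiv m).1 = Fam.pull m u.1 := fun m =>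
    congrArg Subtype.val (r.homEquiv_eq m)
  have huniv : ∀ (T : Scheme.{u}) (e : Fam G T), Covered c e → ∃! v : T ⟶ X, Fam.pull v u.1 = e := fun T e he => by
    obtain ⟨v, hv, huniq⟩ := r.homEquiv.bijective.existsUnique (⟨e, he⟩ : { e : Fam G T // Covered c e })
    exact ⟨v, (hr v).symm.trans (congrArg Subtype.val hv),
      fun v' hv' => huniq v' (Subtype.ext ((hr v').trans hv'))⟩
  choose w hw _ using fun i => huniv _ _ (covered_univ c i)
  have hopen : ∀ i, IsOpenImmersion (w i) ∧ Set.range (w i) = {x | (c i).InChart u.1 x} := fun i => by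
    obtain ⟨Ω, ι₀, hmem, hι₀⟩ := (c i).exists_loc u.1
    have h1 : ι₀ ≫ w i = Ω.ι := (huniv _ _ (u.2.pull c Ω.ι)).unique (by rw [Fam.pull_comp, hw, hι₀]) rfl
    have hr' : Set.range (w i) ⊆ Set.range Ω.ι := by
      rw [Scheme.Opens.range_ι]
      rintro _ ⟨z, rfl⟩
      exact hmem _ ((c i).inChart_of_pull (w i) (by rw [hw]; exact (c i).inChart_univ z))
    let l := IsOpenImmersion.lift Ω.ι (w i) hr'
    have h2 : l ≫ ι₀ = 𝟙 _ := (c i).mono (by
      rw [Fam.pull_comp, hι₀, ← Fam.pull_comp, IsOpenImmersion.lift_fac, hw, Fam.pull_id])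
    have h3 : ι₀ ≫ l = 𝟙 _ := (cancel_mono Ω.ι).mp (by
      rw [Category.assoc, IsOpenImmersion.lift_fac, h1, Category.id_comp])
    haveI : IsIso l := ⟨ι₀, h2, h3⟩
    have h4 : w i = l ≫ Ω.ι := (IsOpenImmersion.lift_fac _ _ _).symm
    refine ⟨h4 ▸ inferInstance, Set.Subset.antisymm ?_ fun x hx => ?_⟩
    · rintro _ ⟨z, rfl⟩
      exact (c i).inChart_of_pull (w i) (by rw [hw]; exact (c i).inChart_univ z)
    · refine ⟨ι₀ ⟨x, hmem x hx⟩, ?_⟩
      rw [← Scheme.Hom.comp_apply, h1]
      rfl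
  refine ⟨X, u.1.1, u.1, rfl, u.2, huniv, w, fun i => (hopen i).1, hw, fun i x => ?_⟩
  rw [(hopen i).2]
  rfl

end Groth.Agent.Deform.SubMT
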