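import Groth.Agent.Deform.SubMT.Exist
import Groth.Agent.Deform.Transporter
import Groth.Agent.SrcDescent.LocalAtSource

/-!
# Separatedness and smoothness of the scheme of subgroups

The locus where two families agree is closed: it is the pullback along the unit of the strict transporter.
-/

set_option autoImplicit false
set_option linter.style.haveILetI false
set_option backward.isDefEq.respectTransparency false
set_option backward.isDefEq.respectTransparency.types false
set_option maxHeartbeats 600000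

universe u

open CategoryTheory CategoryTheory.Limits AlgebraicGeometry TopologicalSpace Opposite
open MonoidalCategory CartesianMonoidalCategory MonObj GrpObj

namespace Groth.Agent.Deform.SubMT

attribute [local instance] CategoryTheory.Hom.monoid CategoryTheory.Hom.group

variable {S : Scheme.{u}} {G : Over S} [GrpObj G] [IsAffineHom G.hom]

omit [GrpObj G] [IsAffineHom G.hom] in
theorem exists_factor_iff {T : Scheme.{u}} {g : T ⟶ S} (Z : (pullback G.hom g).IdealSheafData) {X : Over T}
    (x : X ⟶ Red.bc g G) : (∃ y, y ≫ subj Z = x) ↔ Z.comap x.left = ⊥ := by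
  constructor
  · rintro ⟨y, rfl⟩
    rw [Over.comp_left, Scheme.IdealSheafData.comap_comp]
    exact (congrArg (·.comap y.left) (DescLib.comap_subschemeι Z)).trans (Scheme.IdealSheafData.comap_bot _)
  · intro hx
    have hle : Z.subschemeι.ker ≤ x.left.ker := by
      rw [Scheme.IdealSheafData.ker_subschemeι, ← Scheme.IdealSheafData.map_bot,
        Scheme.IdealSheafData.le_map_iff_comap_le, hx]
    refine ⟨Over.homMk (IsClosedImmersion.lift _ x.left hle) ?_,
      Over.OverMorphism.ext (IsClosedImmersion.lift_fac _ _ _)⟩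
    show _ ≫ Z.subschemeι ≫ pullback.snd G.hom g = _
    rw [IsClosedImmersion.lift_fac_assoc]
    exact Over.w x

theorem le_of_comap_eq_bot {P : Scheme.{u}} {I J : P.IdealSheafData} (h : J.comap I.subschemeι = ⊥) : J ≤ I := by
  rw [← Scheme.IdealSheafData.ker_subschemeι I, ← Scheme.IdealSheafData.map_bot,
    Scheme.IdealSheafData.le_map_iff_comap_le, h]

/-- The locus where two families agree is closed. -/
theorem exists_eq_locus [Smooth G.hom] {P : Scheme.{u}} (e₁ e₂ : Fam G P) (h : e₁.1 = e₂.1) :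
    ∃ (Z : Scheme.{u}) (j : Z ⟶ P), IsClosedImmersion j ∧
      ∀ (W : Scheme.{u}) (a : W ⟶ P), Fam.pull a e₁ = Fam.pull a e₂ ↔ ∃ l, l ≫ j = a := by
  obtain ⟨g, Z₁, hZ₁⟩ := e₁
  obtain ⟨g', Z₂, hZ₂⟩ := e₂
  obtain rfl : g = g' := h
  obtain ⟨i₁, hm₁, hK₁⟩ := exists_grp hZ₁
  obtain ⟨i₂, hm₂, hK₂⟩ := exists_grp hZ₂
  letI := i₁
  letI := i₂
  haveI := hm₁
  haveI := hm₂
  haveI : Smooth (Red.bc g G).hom := inferInstanceAs (Smooth (pullback.snd G.hom g))
  haveI : IsAffineHom (Red.bc g G).hom := MorphismProperty.pullback_snd (P := @IsAffineHom) G.hom g ‹_›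
  haveI : IsClosedImmersion (subj Z₁).left := inferInstanceAs (IsClosedImmersion Z₁.subschemeι)
  haveI : Mono (subj Z₁) := Over.mono_of_mono_left _
  obtain ⟨T, j, hj, -, hT⟩ := Deform.exists_transporter_eq hK₁ hK₂ (subj Z₁) (subj Z₂)
  haveI := hj
  let ε : P ⟶ (Red.bc g G).left := η[Red.bc g G].left
  refine ⟨pullback j.left ε, pullback.snd j.left ε, MorphismProperty.pullback_snd _ _ ‹_›, fun W a => ?_⟩
  let X : Over P := Over.mk a
  have hone : ((1 : X ⟶ Red.bc g G)).left = a ≫ ε := by
    rw [Hom.one_def, Over.comp_left]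
    rfl
  have hiff : (∃ l, l ≫ pullback.snd j.left ε = a) ↔ ∃ t : X ⟶ T, t ≫ j = 1 := by
    constructor
    · rintro ⟨l, hl⟩
      have h1 : (l ≫ pullback.fst j.left ε) ≫ j.left = (1 : X ⟶ Red.bc g G).left := by
        rw [hone, ← hl, Category.assoc, Category.assoc, pullback.condition]
      exact ⟨Over.homMk (l ≫ pullback.fst j.left ε) (by
        rw [← Over.w j, ← Category.assoc, h1, Over.w]), Over.OverMorphism.ext h1⟩
    · rintro ⟨t, ht⟩
      exact ⟨pullback.lift t.left a (by rw [← hone, ← ht, Over.comp_left]), pullback.lift_snd _ _ _⟩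
  rw [hiff, hT]
  simp only [MonObj.comp_one, _root_.one_mul, inv_one, _root_.mul_one]
  -- points of the pulled back family
  have hp : ∀ {X' : Over P} (x : X' ⟶ X) (y : X' ⟶ Red.bc g G) (Z : (pullback G.hom g).IdealSheafData),
      Z.comap y.left = (Z.comap (bm G a g (a ≫ g) rfl)).comap
        (pullback.lift (y.left ≫ pullback.fst G.hom g) x.left (by
          rw [Category.assoc, pullback.condition, ← Category.assoc]
          exact (congrArg (· ≫ g) ((Over.w y).trans (Over.w x).symm)).trans (Category.assoc _ _ _))) := by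
    intro X' x y Z
    rw [← Scheme.IdealSheafData.comap_comp]
    congr 1
    apply pullback.hom_ext
    · rw [Category.assoc, bm_fst, pullback.lift_fst]
    · rw [Category.assoc, bm_snd, pullback.lift_snd_assoc]
      exact (Over.w y).trans (Over.w x).symm
  constructor
  · intro heq X' x
    have hZ : Z₁.comap (bm G a g (a ≫ g) rfl) = Z₂.comap (bm G a g (a ≫ g) rfl) :=
      Subtype.ext_iff.mp (eq_of_heq (Sigma.ext_iff.mp heq).2)
    constructor
    · intro h₁
      obtain ⟨h₂, hh⟩ := (exists_factor_iff Z₂ (h₁ ≫ subj Z₁)).mpr (by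
        rw [hp x, ← hZ, ← hp x]
        exact (exists_factor_iff Z₁ _).mp ⟨h₁, rfl⟩)
      exact ⟨h₂, hh.symm⟩
    · intro h₂
      obtain ⟨h₁, hh⟩ := (exists_factor_iff Z₁ (h₂ ≫ subj Z₂)).mpr (by
        rw [hp x, hZ, ← hp x]
        exact (exists_factor_iff Z₂ _).mp ⟨h₂, rfl⟩)
      exact ⟨h₁, hh.symm⟩
  · intro hall
    have key : ∀ (A B : (pullback G.hom g).IdealSheafData),
        (∀ (X' : Over P) (_ : X' ⟶ X) (k : X' ⟶ Red.bc g G), A.comap k.left = ⊥ → B.comap k.left = ⊥) →
        B.comap (bm G a g (a ≫ g) rfl) ≤ A.comap (bm G a g (a ≫ g) rfl) := by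
      intro A B hAB
      refine le_of_comap_eq_bot ?_
      let sι := (A.comap (bm G a g (a ≫ g) rfl)).subschemeι
      let X' : Over P := Over.mk (sι ≫ pullback.snd G.hom (a ≫ g) ≫ a)
      let x : X' ⟶ X := Over.homMk (sι ≫ pullback.snd G.hom (a ≫ g)) (Category.assoc _ _ _)
      let k : X' ⟶ Red.bc g G := Over.homMk (sι ≫ bm G a g (a ≫ g) rfl) (by
        show (sι ≫ bm G a g (a ≫ g) rfl) ≫ pullback.snd G.hom g = _
        rw [Category.assoc, bm_snd]; rfl)
      have h1 := hAB X' x k (by
        show A.comap (sι ≫ bm G a g (a ≫ g) rfl) = ⊥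
        rw [Scheme.IdealSheafData.comap_comp]
        exact DescLib.comap_subschemeι _)
      change B.comap (sι ≫ bm G a g (a ≫ g) rfl) = ⊥ at h1
      rwa [Scheme.IdealSheafData.comap_comp] at h1
    refine congrArg (Sigma.mk (a ≫ g)) (Subtype.ext (le_antisymm ?_ ?_))
    · refine key Z₂ Z₁ fun X' x k hk => ?_
      obtain ⟨h₂, rfl⟩ := (exists_factor_iff Z₂ k).mpr hk
      obtain ⟨h₁, hh⟩ := (hall X' x).2 h₂
      exact (exists_factor_iff Z₁ _).mp ⟨h₁, hh.symm⟩
    · refine key Z₁ Z₂ fun X' x k hk => ?_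
      obtain ⟨h₁, rfl⟩ := (exists_factor_iff Z₁ k).mpr hk
      obtain ⟨h₂, hh⟩ := (hall X' x).1 h₁
      exact (exists_factor_iff Z₂ _).mp ⟨h₂, hh.symm⟩

variable {κ : Type u} {V : κ → S.affineOpens} (c : ∀ i, Chart G (V i))

/-- The scheme of subgroups of a smooth group is separated. -/
theorem isSeparated_of_univ [Smooth G.hom] {X : Scheme.{u}} (u : Fam G X) (hu : Covered c u)
    (huniv : ∀ (T : Scheme.{u}) (e : Fam G T), Covered c e → ∃! v : T ⟶ X, Fam.pull v u = e) :
    IsSeparated u.1 := by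
  let a := pullback.fst u.1 u.1
  let b := pullback.snd u.1 u.1
  obtain ⟨Z, j, hj, hZ⟩ := exists_eq_locus (Fam.pull a u) (Fam.pull b u) pullback.condition
  haveI := hj
  let Δ := pullback.diagonal u.1
  obtain ⟨l, hl⟩ := (hZ X Δ).mp (by rw [← Fam.pull_comp, ← Fam.pull_comp, pullback.diagonal_fst, pullback.diagonal_snd])
  have hab : j ≫ a = j ≫ b := by
    refine (huniv _ _ (hu.pull c (j ≫ b))).unique ?_ rfl
    rw [Fam.pull_comp, (hZ Z j).mpr ⟨𝟙 _, Category.id_comp _⟩, ← Fam.pull_comp]
  have h1 : l ≫ j ≫ a = 𝟙 X := by rw [reassoc_of% hl]; exact pullback.diagonal_fst _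
  have h2 : j ≫ a ≫ Δ = j := by
    apply pullback.hom_ext
    · simp [Δ, a]
    · simp only [Δ, Category.assoc, pullback.diagonal_snd, Category.comp_id]
      exact hab
  haveI : IsIso l := ⟨j ≫ a, h1, (cancel_mono j).mp (by rw [Category.assoc, Category.assoc, hl, h2, Category.id_comp])⟩
  exact ⟨by rw [show pullback.diagonal u.1 = l ≫ j from hl.symm]; infer_instance⟩

/-- A chart of a smooth group is smooth. -/
theorem Chart.smooth_str [Smooth G.hom] {V : S.affineOpens} (c : Chart G V) : Smooth c.str := by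
  haveI := smooth_AV (G := G) V
  haveI : Algebra.Smooth (RV V) c.F.C := c.F.smooth
  haveI : Algebra.Smooth c.F.C c.O := Algebra.Smooth.of_isLocalization_Away c.g0
  haveI : Algebra.Smooth (RV V) c.O := Algebra.Smooth.comp (RV V) c.F.C c.O
  haveI : Smooth (Spec.map (CommRingCat.ofHom (algebraMap (RV V) c.O))) :=
    (HasRingHomProperty.Spec_iff (P := @Smooth)).mpr (RingHom.smooth_algebraMap.mpr inferInstance)
  refine SrcDescent.smooth_of_smooth_comp c.oQ c.str ?_
  rw [c.oQ_str]
  infer_instance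

/-- A scheme covered by charts of a smooth group is smooth. -/
theorem smooth_of_charts [Smooth G.hom] {X : Scheme.{u}} (u : Fam G X) (w : ∀ i, (c i).Q ⟶ X)
    [∀ i, IsOpenImmersion (w i)] (hw : ∀ i, Fam.pull (w i) u = (c i).univ)
    (hcov : ∀ x : X, ∃ i, x ∈ Set.range (w i)) : Smooth u.1 := by
  refine IsZariskiLocalAtSource.of_openCover (P := @Smooth)
    (Scheme.Cover.mkOfCovers κ (fun i => (c i).Q) w hcov fun _ => inferInstance) fun i => ?_
  have : w i ≫ u.1 = (c i).str := congrArg Sigma.fst (hw i)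
  show Smooth (w i ≫ u.1)
  rw [this]
  exact (c i).smooth_str

end Groth.Agent.Deform.SubMT
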