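import Groth.Agent.Deform.SubMT.Main
import Groth.Agent.SmoothSecLib.Basic
import Mathlib.RingTheory.Localization.Away.Basic

/-!
# Etale slices through a rational point

A smooth morphism has, through a point with trivial residue extension, a section over an etale neighbourhood with
trivial residue extension.
-/

set_option autoImplicit false
set_option linter.style.haveILetI false
set_option backward.isDefEq.respectTransparency false
set_option backward.isDefEq.respectTransparency.types false
set_option maxHeartbeats 600000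

universe u

open CategoryTheory CategoryTheory.Limits AlgebraicGeometry TensorProduct

namespace Groth.Agent.Deform.SubMT

/-- A standard smooth algebra has, through a point in a field of fractions, a section over an etale algebra. -/
theorem exists_slice_ring (R A k : Type u) [CommRing R] [CommRing A] [Algebra R A] [Algebra.IsStandardSmooth R A]
    [Field k] [Algebra R k] (hfrac : ∀ c : k, ∃ y z : R, algebraMap R k z ≠ 0 ∧ algebraMap R k y = c * algebraMap R k z)
    (a : A →ₐ[R] k) :
    ∃ (R' : Type u) (_ : CommRing R') (_ : Algebra R R') (χ : R' →ₐ[R] k) (h : A →ₐ[R] R'),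
      Algebra.Etale R R' ∧ χ.comp h = a := by
  classical
  obtain ⟨ι, σ, _, _, ⟨P⟩⟩ := ‹Algebra.IsStandardSmooth R A›.out
  have : Algebra.IsStandardSmoothOfRelativeDimension P.dimension R A :=
    ⟨ι, σ, inferInstance, inferInstance, P, rfl⟩
  obtain ⟨g, hg⟩ := Algebra.IsStandardSmoothOfRelativeDimension.exists_etale_mvPolynomial (n := P.dimension) R A
  let M := MvPolynomial (Fin P.dimension) R
  choose y z hz hyz using fun i => hfrac (a (g (MvPolynomial.X i)))
  let t : R := ∏ i, z i
  have ht : IsUnit (algebraMap R k t) := by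
    rw [map_prod]
    exact (IsUnit.mk0 _ (Finset.prod_ne_zero_iff.2 fun i _ => hz i))
  let R₂ := Localization.Away t
  let ψ₂ : R₂ →ₐ[R] k := IsLocalization.Away.liftAlgHom t (f := Algebra.ofId R k) ht
  have hzu : ∀ i, IsUnit (algebraMap R R₂ (z i)) := fun i =>
    isUnit_of_dvd_unit (map_dvd _ (Finset.dvd_prod_of_mem z (Finset.mem_univ i)))
      (IsLocalization.Away.algebraMap_isUnit (S := R₂) t)
  let b : Fin P.dimension → R₂ := fun i => algebraMap R R₂ (y i) * ↑(hzu i).unit⁻¹
  have hb : ∀ i, ψ₂ (b i) = a (g (MvPolynomial.X i)) := by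
    intro i
    have h1 : ψ₂ (b i) * ψ₂ (algebraMap R R₂ (z i)) = ψ₂ (algebraMap R R₂ (y i)) := by
      rw [← map_mul, mul_assoc, IsUnit.val_inv_mul, mul_one]
    rw [AlgHom.commutes, AlgHom.commutes, hyz] at h1
    exact mul_right_cancel₀ (hz i) h1
  let : Algebra M A := g.toRingHom.toAlgebra
  have : IsScalarTower R M A := IsScalarTower.of_algebraMap_eq fun r => (g.commutes r).symm
  have : Algebra.Etale M A := hg
  let β : M →ₐ[R] R₂ := MvPolynomial.aeval b
  let : Algebra M R₂ := β.toRingHom.toAlgebra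
  have : IsScalarTower R M R₂ := IsScalarTower.of_algebraMap_eq fun r => (β.commutes r).symm
  let : Algebra M k := (ψ₂.comp β).toRingHom.toAlgebra
  have : IsScalarTower R M k := IsScalarTower.of_algebraMap_eq fun r => ((ψ₂.comp β).commutes r).symm
  have : Algebra.Etale R R₂ := Algebra.Etale.of_isLocalizationAway t
  let R₃ := R₂ ⊗[M] A
  have : Algebra.Etale R R₃ := Algebra.Etale.comp R R₂ R₃
  have hga : a.comp g = ψ₂.comp β := MvPolynomial.algHom_ext fun i => by
    show a (g (MvPolynomial.X i)) = ψ₂ (β (MvPolynomial.X i))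
    rw [show β (MvPolynomial.X i) = b i from MvPolynomial.aeval_X b i, hb]
  let χ : R₃ →ₐ[M] k := Algebra.TensorProduct.lift (S := M)
    ({ ψ₂.toRingHom with commutes' := fun _ => rfl } : R₂ →ₐ[M] k)
    ({ a.toRingHom with commutes' := fun m => AlgHom.congr_fun hga m } : A →ₐ[M] k)
    fun _ _ => Commute.all _ _
  refine ⟨R₃, inferInstance, inferInstance, χ.restrictScalars R,
    (Algebra.TensorProduct.includeRight : A →ₐ[M] R₃).restrictScalars R, inferInstance, AlgHom.ext fun x => ?_⟩
  show χ ((1 : R₂) ⊗ₜ[M] x) = a x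
  rw [Algebra.TensorProduct.lift_tmul, map_one, one_mul]
  rfl

/-- A smooth morphism has a section over an etale neighbourhood through a rational point. -/
theorem exists_slice {X S : Scheme.{u}} (f : X ⟶ S) [Smooth f] (s : S) (m : Spec (S.residueField s) ⟶ X)
    (hm : m ≫ f = S.fromSpecResidueField s) :
    ∃ (S' : Scheme.{u}) (e : S' ⟶ S) (σ : Spec (S.residueField s) ⟶ S') (h : S' ⟶ X),
      Etale e ∧ σ ≫ e = S.fromSpecResidueField s ∧ h ≫ f = e ∧ σ ≫ h = m := by
  let x := m (IsLocalRing.closedPoint (S.residueField s))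
  obtain ⟨U, hU, V, hV, hx, e, hsm⟩ := Smooth.exists_isStandardSmooth f x
  have hsU : s ∈ U := by
    have h1 : f x = s := by
      rw [← Scheme.Hom.comp_apply, hm]
      exact Scheme.fromSpecResidueField_apply s _
    exact h1 ▸ e hx
  let φ := f.appLE U V e
  let : Algebra Γ(S, U) Γ(X, V) := φ.hom.toAlgebra
  have : Algebra.IsStandardSmooth Γ(S, U) Γ(X, V) := hsm
  let germ := S.presheaf.germ U s hsU ≫ S.residue s
  have hgerm : S.fromSpecResidueField s = Spec.map germ ≫ hU.fromSpec := by
    rw [Spec.map_comp, Category.assoc, ← IsAffineOpen.fromSpecStalk, IsAffineOpen.fromSpecStalk_eq_fromSpecStalk]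
    rfl
  let : Algebra Γ(S, U) (S.residueField s) := germ.hom.toAlgebra
  have hrange : Set.range m ⊆ Set.range hV.fromSpec := by
    rw [hV.range_fromSpec]
    rintro _ ⟨z, rfl⟩
    rw [Subsingleton.elim z (IsLocalRing.closedPoint _)]
    exact hx
  obtain ⟨α, hα⟩ : ∃ α, Spec.map α = IsOpenImmersion.lift hV.fromSpec m hrange := ⟨_, Spec.map_preimage _⟩
  have hmα : m = Spec.map α ≫ hV.fromSpec := by rw [hα, IsOpenImmersion.lift_fac]
  have hφα : φ ≫ α = germ := by
    apply Spec.map_injective
    rw [← cancel_mono hU.fromSpec, Spec.map_comp, Category.assoc, IsAffineOpen.SpecMap_appLE_fromSpec f hU hV e,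
      ← Category.assoc, ← hmα, hm, hgerm]
  let a : Γ(X, V) →ₐ[Γ(S, U)] S.residueField s :=
    { α.hom with commutes' := fun r => congr($hφα r) }
  letI : Algebra Γ(S, U) (S.presheaf.stalk s) := (S.presheaf.germ U s hsU).hom.toAlgebra
  haveI := hU.isLocalization_stalk ⟨s, hsU⟩
  obtain ⟨R', _, _, χ, h, het, hχ⟩ := exists_slice_ring Γ(S, U) Γ(X, V) (S.residueField s) (fun c => by
    obtain ⟨w, rfl⟩ := S.residue_surjective s c
    obtain ⟨⟨y, z⟩, hyz⟩ := IsLocalization.surj (hU.primeIdealOf ⟨s, hsU⟩).asIdeal.primeCompl w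
    refine ⟨y, z, fun h0 => ?_, ?_⟩
    · exact (IsUnit.map (S.residue s).hom
        (IsLocalization.map_units (S.presheaf.stalk s) z)).ne_zero h0
    · show (S.residue s) ((S.presheaf.germ U s hsU) y) = (S.residue s) w * (S.residue s) ((S.presheaf.germ U s hsU) z)
      rw [← map_mul]
      exact congrArg (S.residue s) hyz.symm) a
  let τ : Spec (CommRingCat.of R') ⟶ Spec Γ(S, U) :=
    Spec.map (CommRingCat.ofHom (algebraMap Γ(S, U) R'))
  have : Etale τ := by
    rw [HasRingHomProperty.Spec_iff (P := @Etale), CommRingCat.hom_ofHom, RingHom.etale_algebraMap]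
    exact het
  refine ⟨Spec (CommRingCat.of R'), τ ≫ hU.fromSpec, Spec.map (CommRingCat.ofHom χ.toRingHom),
    Spec.map (CommRingCat.ofHom h.toRingHom) ≫ hV.fromSpec, inferInstance, ?_, ?_, ?_⟩
  · rw [hgerm, ← Category.assoc, ← Spec.map_comp]
    congr 2
    ext r
    exact χ.commutes r
  · rw [Category.assoc, ← IsAffineOpen.SpecMap_appLE_fromSpec f hU hV e, ← Spec.map_comp_assoc]
    congr 2
    ext r
    exact h.commutes r
  · rw [hmα, ← Category.assoc, ← Spec.map_comp]
    congr 2
    ext r
    exact DFunLike.congr_fun hχ r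

variable {S : Scheme.{u}} {G : Over S} [GrpObj G] [IsAffineHom G.hom]

/-- A family which pulls back to a subgroup gives an isomorphism of subgroups. -/
theorem exists_phi_of_pull_eq {X T : Scheme.{u}} (u : Fam G X) (v : T ⟶ X) {f : T ⟶ S} {K' : Over T} [GrpObj K']
    (j' : K' ⟶ Red.bc f G) [IsMonHom j'] [IsClosedImmersion j'.left] (hK : SGA3x.IsMultTypeFT K')
    (h : Fam.pull v u = ⟨f, j'.left.ker, isSub_ker j' hK⟩) :
    ∃ φ : K'.left ≅ (Red.bc v (subK u.2.1)).left,
      φ.hom ≫ (Red.bc v (subK u.2.1)).hom = K'.hom ∧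
      φ.hom ≫ ((Over.pullback v).map (subj u.2.1)).left ≫ pullback.fst (Red.bc u.1 G).hom v ≫
        pullback.fst G.hom u.1 = j'.left ≫ pullback.fst G.hom f := by
  haveI : IsClosedImmersion (subj u.2.1).left := inferInstanceAs (IsClosedImmersion u.2.1.subschemeι)
  have hf : v ≫ u.1 = f := congrArg Sigma.fst h
  subst hf
  refine (phi_iff (subj u.2.1) v j').mpr ?_
  rw [show (subj u.2.1).left.ker = u.2.1 from Scheme.IdealSheafData.ker_subschemeι _]
  exact Subtype.ext_iff.mp (eq_of_heq (Sigma.ext_iff.mp h).2)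

end Groth.Agent.Deform.SubMT
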