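import Groth.Agent.Deform.SubMT.Reindex
import Mathlib.RingTheory.LocalRing.ResidueField.Ideal

/-!
# Compatible algebra maps which define closed subgroups

A compatible map `A → B[M]` defines a closed subgroup when `B ⊗ A → B[M]` is surjective; this means that for each
character the coefficients generate the unit ideal. Two such maps with the same kernel differ, locally on the base, by an
isomorphism of the character groups.
-/

set_option autoImplicit false

universe u

open TensorProduct WithConv

namespace Groth.Agent.Deform.SubMT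

open HomMT

variable {R : Type u} [CommRing R] {A : Type u} [CommRing A] [Bialgebra R A] {M M' : Type} [AddCommGroup M]
  [AddCommGroup M'] {B B' : Type u} [CommRing B] [Algebra R B] [CommRing B'] [Algebra R B']

/-- The extension to the base change. -/
noncomputable def full (ψ : A →ₐ[R] MA M B) : B ⊗[R] A →ₐ[B] MA M B :=
  Algebra.TensorProduct.lift (Algebra.ofId B (MA M B)) ψ fun _ _ => .all _ _

theorem full_tmul (ψ : A →ₐ[R] MA M B) (b : B) (x : A) : full ψ (b ⊗ₜ x) = b • ψ x := by
  simp [full, Algebra.ofId_apply, Algebra.smul_def]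

theorem full_one_tmul (ψ : A →ₐ[R] MA M B) (x : A) : full ψ (1 ⊗ₜ x) = ψ x := by rw [full_tmul, one_smul]

/-- The homomorphism defines a closed subgroup. -/
def Srj (ψ : A →ₐ[R] MA M B) : Prop := Function.Surjective (full ψ)

/-- The ideal of the coefficients of `e_m`. -/
noncomputable def coefIdeal (ψ : A →ₐ[R] MA M B) (m : M) : Ideal B := Ideal.span (Set.range (coef ψ m))

/-- The linear form `z ↦ ∑ z_{k, m} e_k`. -/
noncomputable def slice (m : Multiplicative M) : MA2 M B →ₗ[B] MA M B :=
  ((MonoidAlgebra.coeffLinearEquiv B).symm.toLinearMap.comp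
    (Finsupp.lcomapDomain (fun k : Multiplicative M => (k, m)) fun _ _ h => congrArg Prod.fst h)).comp
      (MonoidAlgebra.coeffLinearEquiv B).toLinearMap

theorem coeff_slice (m k : Multiplicative M) (z : MA2 M B) : (slice m z).coeff k = z.coeff (k, m) := rfl

theorem slice_inl_mul_inr (m : Multiplicative M) (p q : MA M B) :
    slice m (inlA R M B p * inrA R M B q) = q.coeff m • p := by
  ext k
  rw [coeff_slice, coeff_inl_mul_inr, MonoidAlgebra.coeff_smul, Finsupp.smul_apply, smul_eq_mul, mul_comm]

theorem slice_dgn (m : Multiplicative M) (p : MA M B) :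
    slice m (dgnA R M B p) = MonoidAlgebra.single m (p.coeff m) := by
  classical
  ext k
  rw [coeff_slice, MonoidAlgebra.coeff_single, Finsupp.single_apply]
  split_ifs with h
  · subst h
    exact coeff_dgn p m
  · exact coeff_dgn_ne (fun e => h e.symm) p

/-- The projections of a value lie in the image. -/
theorem single_coef_mem {ψ : A →ₐ[R] MA M B} (h : Mult ψ) (m : M) (x : A) :
    MonoidAlgebra.single (Multiplicative.ofAdd m) (coef ψ m x) ∈ (full ψ).range := by
  have h' := congrArg (slice (Multiplicative.ofAdd m)) (DFunLike.congr_fun h x)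
  rw [AlgHom.comp_apply, slice_dgn] at h'
  rw [show coef ψ m x = (ψ x).coeff (Multiplicative.ofAdd m) from rfl, ← h']
  show slice _ ((toConv ((inlA R M B).comp ψ) * toConv ((inrA R M B).comp ψ)) x) ∈ _
  rw [AlgHom.convMul_apply]
  generalize Coalgebra.comul (R := R) x = z
  induction z using TensorProduct.induction_on with
  | zero => simp
  | add a b ha hb => rw [map_add, map_add]; exact add_mem ha hb
  | tmul a b =>
    rw [Algebra.TensorProduct.lift_tmul, AlgHom.comp_apply, AlgHom.comp_apply, slice_inl_mul_inr]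
    exact ⟨(ψ b).coeff (Multiplicative.ofAdd m) ⊗ₜ a, full_tmul ψ _ a⟩

theorem coeff_full_mem (ψ : A →ₐ[R] MA M B) (m : M) (z : B ⊗[R] A) :
    (full ψ z).coeff (Multiplicative.ofAdd m) ∈ coefIdeal ψ m := by
  induction z using TensorProduct.induction_on with
  | zero => simp
  | add a b ha hb => rw [map_add, MonoidAlgebra.coeff_add, Finsupp.add_apply]; exact add_mem ha hb
  | tmul b x =>
    rw [full_tmul, MonoidAlgebra.coeff_smul, Finsupp.smul_apply, smul_eq_mul]
    exact Ideal.mul_mem_left _ _ (Ideal.subset_span ⟨x, rfl⟩)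

theorem coefIdeal_eq_top {ψ : A →ₐ[R] MA M B} (hs : Srj ψ) (m : M) : coefIdeal ψ m = ⊤ := by
  obtain ⟨z, hz⟩ := hs (MonoidAlgebra.single (Multiplicative.ofAdd m) 1)
  refine (Ideal.eq_top_iff_one _).mpr ?_
  have h := coeff_full_mem ψ m z
  rw [hz] at h
  simpa using h

theorem single_mem_of_top {ψ : A →ₐ[R] MA M B} (h : Mult ψ) {m : M} (hm : coefIdeal ψ m = ⊤) (r : B) :
    MonoidAlgebra.single (Multiplicative.ofAdd m) r ∈ (full ψ).range := by
  have hr : r ∈ coefIdeal ψ m := hm ▸ Submodule.mem_top
  rw [coefIdeal, Ideal.span] at hr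
  induction hr using Submodule.span_induction with
  | mem y hy =>
    obtain ⟨x, rfl⟩ := hy
    exact single_coef_mem h m x
  | zero => rw [MonoidAlgebra.single_zero]; exact zero_mem _
  | add y y' _ _ hy hy' => rw [MonoidAlgebra.single_add]; exact add_mem hy hy'
  | smul b y _ hy =>
    rw [← MonoidAlgebra.smul_single]
    exact Subalgebra.smul_mem _ hy b

/-- Monoid generators with coefficients generating the unit ideal suffice. -/
theorem srj_of_gens {ψ : A →ₐ[R] MA M B} (h : Mult ψ) (G : Set M) (hG : AddSubmonoid.closure G = ⊤)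
    (hm : ∀ m ∈ G, coefIdeal ψ m = ⊤) : Srj ψ := by
  have key : ∀ m : M, MonoidAlgebra.single (Multiplicative.ofAdd m) (1 : B) ∈ (full ψ).range := fun m => by
    have hmem : m ∈ AddSubmonoid.closure G := hG ▸ AddSubmonoid.mem_top m
    induction hmem using AddSubmonoid.closure_induction with
    | mem y hy => exact single_mem_of_top h (hm y hy) 1
    | zero => rw [ofAdd_zero, ← MonoidAlgebra.one_def]; exact one_mem _
    | add y y' _ _ hy hy' =>
      have := mul_mem hy hy'
      rwa [MonoidAlgebra.single_mul_single, one_mul, ← ofAdd_add] at this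
  refine fun y => ?_
  induction y using MonoidAlgebra.induction_linear with
  | zero => exact ⟨0, map_zero _⟩
  | add a b ha hb =>
    obtain ⟨p, rfl⟩ := ha
    obtain ⟨q, rfl⟩ := hb
    exact ⟨p + q, map_add _ _ _⟩
  | single k r =>
    obtain ⟨z, hz⟩ := Subalgebra.smul_mem _ (key (Multiplicative.toAdd k)) r
    exact ⟨z, hz.trans (by rw [MonoidAlgebra.smul_single, smul_eq_mul, mul_one, ofAdd_toAdd])⟩

theorem srj_iff {ψ : A →ₐ[R] MA M B} (h : Mult ψ) : Srj ψ ↔ ∀ m, coefIdeal ψ m = ⊤ :=
  ⟨coefIdeal_eq_top, fun h' => srj_of_gens h Set.univ (AddSubmonoid.closure_univ) fun m _ => h' m⟩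

theorem coef_push (σ : B →ₐ[R] B') (ψ : A →ₐ[R] MA M B) (m : M) (x : A) :
    coef ((push σ).comp ψ) m x = σ (coef ψ m x) := by simp [coef, push]

theorem coefIdeal_push (σ : B →ₐ[R] B') (ψ : A →ₐ[R] MA M B) (m : M) :
    coefIdeal ((push σ).comp ψ) m = (coefIdeal ψ m).map σ.toRingHom := by
  rw [coefIdeal, coefIdeal, Ideal.map_span, ← Set.range_comp]
  congr 1

theorem Srj.map {ψ : A →ₐ[R] MA M B} (hs : Srj ψ) (h : Mult ψ) (σ : B →ₐ[R] B') : Srj ((push σ).comp ψ) :=
  (srj_iff (h.map σ)).mpr fun m => by rw [coefIdeal_push, coefIdeal_eq_top hs, Ideal.map_top]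

theorem full_reM (ψ : A →ₐ[R] MA M B) (q : M →+ M') (z : B ⊗[R] A) :
    full ((reM q).comp ψ) z = reM (R := B) q (full ψ z) := by
  induction z using TensorProduct.induction_on with
  | zero => simp
  | add a b ha hb => rw [map_add, map_add, map_add, ha, hb]
  | tmul b x =>
    rw [full_tmul, full_tmul, map_smul]
    rfl

theorem Srj.reindex {ψ : A →ₐ[R] MA M B} (hs : Srj ψ) {q : M →+ M'} (hq : Function.Surjective q) :
    Srj ((reM q).comp ψ) := by
  intro y
  induction y using MonoidAlgebra.induction_linear with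
  | zero => exact ⟨0, map_zero _⟩
  | add a b ha hb =>
    obtain ⟨p, rfl⟩ := ha
    obtain ⟨p', rfl⟩ := hb
    exact ⟨p + p', map_add _ _ _⟩
  | single k r =>
    obtain ⟨m, hm⟩ := hq (Multiplicative.toAdd k)
    obtain ⟨z, hz⟩ := hs (MonoidAlgebra.single (Multiplicative.ofAdd m) r)
    refine ⟨z, ?_⟩
    rw [full_reM, hz]
    show MonoidAlgebra.mapDomain _ (MonoidAlgebra.single _ r) = _
    rw [MonoidAlgebra.mapDomain_single]
    show MonoidAlgebra.single (Multiplicative.ofAdd (q m)) r = _
    rw [hm, ofAdd_toAdd]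

theorem reM_comp {P : Type} [AddCommGroup P] (q : M →+ M') (q' : M' →+ P) :
    (reM (R := R) (B := B) q').comp (reM q) = reM (q'.comp q) := by
  rw [← MonoidAlgebra.mapDomainAlgHom_comp]
  rfl

theorem push_reM (σ : B →ₐ[R] B') (q : M →+ M') :
    (push σ).comp (reM q) = (reM q).comp (push (M := M) σ) :=
  AlgHom.ext fun x => by
    induction x using MonoidAlgebra.induction_linear with
    | zero => simp
    | add a b ha hb => rw [map_add, map_add, ha, hb]
    | single k r =>
      show push σ (MonoidAlgebra.mapDomain _ (MonoidAlgebra.single k r)) =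
        MonoidAlgebra.mapDomain _ (push σ (MonoidAlgebra.single k r))
      rw [MonoidAlgebra.mapDomain_single, push_single, push_single, MonoidAlgebra.mapDomain_single]

section Compare

open scoped Classical

/-- An isomorphism of group algebras compatible with compatible maps carries characters to group-like elements. -/
theorem coeff_mul_coeff {ψ : A →ₐ[R] MA M B} {ψ' : A →ₐ[R] MA M' B} (h : Mult ψ) (h' : Mult ψ') (hs : Srj ψ)
    (Θ : MA M B →ₐ[B] MA M' B) (hΘ : ∀ x, Θ (ψ x) = ψ' x) (m : Multiplicative M) (a b : Multiplicative M') :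
    (Θ (MonoidAlgebra.single m 1)).coeff a * (Θ (MonoidAlgebra.single m 1)).coeff b =
      if a = b then (Θ (MonoidAlgebra.single m 1)).coeff a else 0 := by
  let P : MA2 M B →ₐ[B] MA2 M' B := MonoidAlgebra.lift B _ _
    ((((inlA B M' B).comp Θ).toMonoidHom.comp (MonoidAlgebra.of B (Multiplicative M))).coprod
      (((inrA B M' B).comp Θ).toMonoidHom.comp (MonoidAlgebra.of B (Multiplicative M))))
  have hl : P.comp (inlA B M B) = (inlA B M' B).comp Θ := MonoidAlgebra.algHom_ext (fun k => by
    show P (MonoidAlgebra.mapDomain _ (MonoidAlgebra.single k 1)) = _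
    rw [MonoidAlgebra.mapDomain_single, MonoidAlgebra.lift_single, one_smul]
    simp [← MonoidAlgebra.one_def]) (by ext)
  have hr : P.comp (inrA B M B) = (inrA B M' B).comp Θ := MonoidAlgebra.algHom_ext (fun k => by
    show P (MonoidAlgebra.mapDomain _ (MonoidAlgebra.single k 1)) = _
    rw [MonoidAlgebra.mapDomain_single, MonoidAlgebra.lift_single, one_smul]
    simp [← MonoidAlgebra.one_def]) (by ext)
  have hψ' : ψ' = (Θ.restrictScalars R).comp ψ := AlgHom.ext fun x => (hΘ x).symm
  have key : (P.comp (dgnA B M B)).comp (full ψ) = ((dgnA B M' B).comp Θ).comp (full ψ) := by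
    refine Algebra.TensorProduct.ext (by ext) (AlgHom.ext fun x => ?_)
    show P (dgnA B M B (full ψ (1 ⊗ₜ x))) = dgnA B M' B (Θ (full ψ (1 ⊗ₜ x)))
    rw [full_one_tmul, hΘ]
    have e1 := congrArg ((P.restrictScalars R).comp ·) h
    have e2 := DFunLike.congr_fun (e1.symm) x
    refine e2.trans ((DFunLike.congr_fun (AlgHom.comp_convMul_distrib (P.restrictScalars R)
      (toConv ((inlA R M B).comp ψ)) (toConv ((inrA R M B).comp ψ))) x).trans ?_)
    rw [ofConv_toConv, ofConv_toConv,
      show (P.restrictScalars R).comp ((inlA R M B).comp ψ) = (inlA R M' B).comp ψ' from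
        AlgHom.ext fun y => (DFunLike.congr_fun hl (ψ y)).trans (congrArg (inlA B M' B) (hΘ y)),
      show (P.restrictScalars R).comp ((inrA R M B).comp ψ) = (inrA R M' B).comp ψ' from
        AlgHom.ext fun y => (DFunLike.congr_fun hr (ψ y)).trans (congrArg (inrA B M' B) (hΘ y))]
    exact DFunLike.congr_fun h' x
  obtain ⟨z, hz⟩ := hs (MonoidAlgebra.single m 1)
  have h2 := congrArg (fun w : MA2 M' B => w.coeff (a, b)) (DFunLike.congr_fun key z)
  simp only [AlgHom.comp_apply, hz] at h2
  have h3 : P (dgnA B M B (MonoidAlgebra.single m 1)) =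
      inlA B M' B (Θ (MonoidAlgebra.single m 1)) * inrA B M' B (Θ (MonoidAlgebra.single m 1)) := by
    show P (MonoidAlgebra.mapDomain _ (MonoidAlgebra.single m 1)) = _
    rw [MonoidAlgebra.mapDomain_single, MonoidAlgebra.lift_single, one_smul]
    rfl
  rw [h3, coeff_inl_mul_inr] at h2
  rw [h2]
  split_ifs with hab
  · subst hab
    exact coeff_dgn _ _
  · exact coeff_dgn_ne hab _

/-- The coefficients of a group-like value sum to one. -/
theorem sum_coeff_eq_one {Θ : MA M B →ₐ[B] MA M' B} {m : Multiplicative M}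
    (h : ∀ a b, (Θ (MonoidAlgebra.single m 1)).coeff a * (Θ (MonoidAlgebra.single m 1)).coeff b =
      if a = b then (Θ (MonoidAlgebra.single m 1)).coeff a else 0) :
    ∑ a ∈ (Θ (MonoidAlgebra.single m 1)).coeff.support, (Θ (MonoidAlgebra.single m 1)).coeff a = 1 := by
  set z := Θ (MonoidAlgebra.single m (1 : B)) with hz
  set e := ∑ a ∈ z.coeff.support, z.coeff a
  have h1 : e • z = z := by
    ext k
    rw [MonoidAlgebra.coeff_smul, Finsupp.smul_apply, smul_eq_mul, Finset.sum_mul]
    by_cases hk : k ∈ z.coeff.support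
    · rw [Finset.sum_eq_single k (fun a _ ha => by rw [h, if_neg ha]) (fun h' => absurd hk h'), h, if_pos rfl]
    · rw [Finsupp.notMem_support_iff.mp hk]
      simp
  have hu : IsUnit z := (IsUnit.map Θ (by
    refine ⟨⟨MonoidAlgebra.single m 1, MonoidAlgebra.single m⁻¹ 1, ?_, ?_⟩, rfl⟩ <;>
      simp [MonoidAlgebra.one_def]))
  rw [Algebra.smul_def] at h1
  have h2 : algebraMap B (MA M' B) e = 1 := hu.mul_right_cancel (h1.trans (one_mul z).symm)
  have h3 := congrArg (fun w : MA M' B => w.coeff 1) h2
  simpa [MonoidAlgebra.coe_algebraMap, MonoidAlgebra.one_def] using h3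

/-- At a prime one coefficient survives. -/
theorem exists_notMem_coeff {Θ : MA M B →ₐ[B] MA M' B} {m : Multiplicative M}
    (h : ∀ a b, (Θ (MonoidAlgebra.single m 1)).coeff a * (Θ (MonoidAlgebra.single m 1)).coeff b =
      if a = b then (Θ (MonoidAlgebra.single m 1)).coeff a else 0) (p : Ideal B) [p.IsPrime] :
    ∃! a, (Θ (MonoidAlgebra.single m 1)).coeff a ∉ p := by
  obtain ⟨a, ha⟩ : ∃ a, (Θ (MonoidAlgebra.single m 1)).coeff a ∉ p := by
    by_contra! hall
    exact Ideal.IsPrime.ne_top ‹_› ((Ideal.eq_top_iff_one _).mpr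
      (sum_coeff_eq_one h ▸ Ideal.sum_mem _ fun a _ => hall a))
  refine ⟨a, ha, fun b hb => by_contra fun hne => ?_⟩
  have := h a b
  rw [if_neg (Ne.symm hne)] at this
  exact (Ideal.IsPrime.mem_or_mem ‹_› (this ▸ p.zero_mem)).elim ha hb

/-- Near a prime an isomorphism compatible with compatible maps comes from an isomorphism of character groups. -/
theorem exists_iso_near [AddGroup.FG M] {ψ : A →ₐ[R] MA M B} {ψ' : A →ₐ[R] MA M' B} (h : Mult ψ) (h' : Mult ψ')
    (hs : Srj ψ) (hs' : Srj ψ') (Θ : MA M B ≃ₐ[B] MA M' B) (hΘ : ∀ x, Θ (ψ x) = ψ' x) (p : Ideal B) [p.IsPrime] :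
    ∃ g : B, g ∉ p ∧ ∃ e : M ≃+ M', ∀ (B' : Type u) [CommRing B'] [Algebra R B'] (σ : B →ₐ[R] B'),
      IsUnit (σ g) → (push σ).comp ψ' = (reM e.toAddMonoidHom).comp ((push σ).comp ψ) := by
  have hΘ' : ∀ x, Θ.symm (ψ' x) = ψ x := fun x => by rw [← hΘ, AlgEquiv.symm_apply_apply]
  have hg := fun m => coeff_mul_coeff h h' hs Θ.toAlgHom hΘ m
  have hg' := fun m => coeff_mul_coeff h' h hs' Θ.symm.toAlgHom hΘ' m
  choose f hf hf₁ using fun m : M => exists_notMem_coeff (hg (Multiplicative.ofAdd m)) p
  choose f' hf' hf₁' using fun m : M' => exists_notMem_coeff (hg' (Multiplicative.ofAdd m)) p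
  let K := p.ResidueField
  let π : B →+* K := algebraMap B p.ResidueField
  have hπ : ∀ x, π x = 0 ↔ x ∈ p := fun x => by
    rw [← RingHom.mem_ker, Ideal.ker_algebraMap_residueField]
  letI : Algebra B K := inferInstance
  -- the values in the residue field
  have hval : ∀ (P Q : Type) [AddCommGroup P] [AddCommGroup Q] (T : MA P B →ₐ[B] MA Q B) (j : P → Multiplicative Q),
      (∀ m a b, (T (MonoidAlgebra.single m 1)).coeff a * (T (MonoidAlgebra.single m 1)).coeff b =
        if a = b then (T (MonoidAlgebra.single m 1)).coeff a else 0) →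
      (∀ m, (T (MonoidAlgebra.single (Multiplicative.ofAdd m) 1)).coeff (j m) ∉ p) →
      ∀ m, MonoidAlgebra.mapRingHom (Multiplicative Q) π (T (MonoidAlgebra.single (Multiplicative.ofAdd m) 1)) =
        MonoidAlgebra.single (j m) 1 := by
    intro P Q _ _ T j hT hj m
    ext k
    simp only [MonoidAlgebra.coeff_mapRingHom, MonoidAlgebra.coeff_single, Finsupp.single_apply]
    have h1 := hT (Multiplicative.ofAdd m) k (j m)
    by_cases hk : j m = k
    · subst hk
      rw [if_pos rfl] at h1 ⊢
      have h2 : π ((T (MonoidAlgebra.single (Multiplicative.ofAdd m) 1)).coeff (j m)) ≠ 0 := fun e => hj m ((hπ _).mp e)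
      exact mul_right_cancel₀ h2 (by rw [← map_mul, h1, one_mul])
    · rw [if_neg hk]
      rw [if_neg (Ne.symm hk)] at h1
      exact (hπ _).mpr ((Ideal.IsPrime.mem_or_mem ‹_› (h1 ▸ p.zero_mem)).resolve_right (hj m))
  have hv := hval M M' Θ.toAlgHom f hg hf
  have hv' := hval M' M Θ.symm.toAlgHom f' hg' hf'
  have hadd : ∀ a b, f (a + b) = f a * f b := fun a b => by
    have h1 := hv (a + b)
    rw [ofAdd_add, show (MonoidAlgebra.single (Multiplicative.ofAdd a * Multiplicative.ofAdd b) (1 : B)) =
      MonoidAlgebra.single (Multiplicative.ofAdd a) 1 * MonoidAlgebra.single (Multiplicative.ofAdd b) 1 by simp,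
      map_mul, map_mul, hv, hv, MonoidAlgebra.single_mul_single, one_mul] at h1
    exact (MonoidAlgebra.single_left_injective one_ne_zero h1).symm
  let e0 : M →+ M' := AddMonoidHom.mk' (fun m => Multiplicative.toAdd (f m)) fun a b => by rw [hadd]; rfl
  -- the inverse
  have hinv : ∀ (P Q : Type) [AddCommGroup P] [AddCommGroup Q] (T : MA P B →ₐ[B] MA Q B) (T' : MA Q B →ₐ[B] MA P B)
      (j : P → Multiplicative Q) (j' : Q → Multiplicative P), (∀ x, T' (T x) = x) →
      (∀ m, MonoidAlgebra.mapRingHom (Multiplicative Q) π (T (MonoidAlgebra.single (Multiplicative.ofAdd m) 1)) =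
        MonoidAlgebra.single (j m) 1) →
      (∀ m, MonoidAlgebra.mapRingHom (Multiplicative P) π (T' (MonoidAlgebra.single (Multiplicative.ofAdd m) 1)) =
        MonoidAlgebra.single (j' m) 1) →
      ∀ m, j' (Multiplicative.toAdd (j m)) = Multiplicative.ofAdd m := by
    intro P Q _ _ T T' j j' hTT hT hT' m
    let L : MA Q B →+* MA P K := (MonoidAlgebra.mapRingHom (Multiplicative P) π).comp T'.toRingHom
    have hL : ∀ y, L y = ∑ k ∈ y.coeff.support, π (y.coeff k) • MonoidAlgebra.single (j' k.toAdd) 1 := fun y => by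
      conv_lhs => rw [← MonoidAlgebra.sum_coeff_single y, Finsupp.sum, map_sum]
      refine Finset.sum_congr rfl fun k _ => ?_
      rw [show MonoidAlgebra.single k (y.coeff k) = y.coeff k • MonoidAlgebra.single (Multiplicative.ofAdd k.toAdd) 1 by
        rw [MonoidAlgebra.smul_single, smul_eq_mul, mul_one, ofAdd_toAdd]]
      show MonoidAlgebra.mapRingHom (Multiplicative P) π (T' _) = _
      rw [map_smul, Algebra.smul_def, map_mul, hT', Algebra.smul_def]
      congr 1
      simp [MonoidAlgebra.coe_algebraMap]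
    have h1 := hL (T (MonoidAlgebra.single (Multiplicative.ofAdd m) 1))
    have h2 : L (T (MonoidAlgebra.single (Multiplicative.ofAdd m) 1)) =
        MonoidAlgebra.single (Multiplicative.ofAdd m) 1 := by
      show MonoidAlgebra.mapRingHom (Multiplicative P) π (T' (T _)) = _
      rw [hTT]
      simp
    have h3 : ∀ k, π ((T (MonoidAlgebra.single (Multiplicative.ofAdd m) 1)).coeff k) =
        (MonoidAlgebra.single (j m) (1 : K)).coeff k := fun k => by rw [← hT]; simp
    rw [h2, Finset.sum_eq_single (j m) (fun k _ hk => by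
        rw [h3, MonoidAlgebra.coeff_single, Finsupp.single_apply, if_neg (Ne.symm hk), zero_smul])
      (fun hk => by rw [Finsupp.notMem_support_iff.mp hk, map_zero, zero_smul]), h3, MonoidAlgebra.coeff_single,
      Finsupp.single_eq_same, one_smul] at h1
    exact (MonoidAlgebra.single_left_injective one_ne_zero h1).symm
  have he1 := hinv M M' Θ.toAlgHom Θ.symm.toAlgHom f f' Θ.symm_apply_apply hv hv'
  have he2 := hinv M' M Θ.symm.toAlgHom Θ.toAlgHom f' f Θ.apply_symm_apply hv' hv
  let e : M ≃+ M' :=
    { e0 with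
      invFun := fun m => Multiplicative.toAdd (f' m)
      left_inv := fun m => congrArg Multiplicative.toAdd (he1 m)
      right_inv := fun m => congrArg Multiplicative.toAdd (he2 m) }
  haveI : AddMonoid.FG M := AddGroup.fg_iff_addMonoid_fg.mp ‹_›
  obtain ⟨s, hs₀⟩ := (AddMonoid.fg_iff.mp ‹AddMonoid.FG M›)
  obtain ⟨hsgen, hsfin⟩ := hs₀
  refine ⟨∏ m ∈ hsfin.toFinset, (Θ (MonoidAlgebra.single (Multiplicative.ofAdd m) 1)).coeff (f m), ?_, e,
    fun B' _ _ σ hu => ?_⟩
  · rw [Ideal.IsPrime.prod_mem_iff]
    exact fun ⟨m, _, hm⟩ => hf m hm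
  rw [map_prod, IsUnit.prod_iff] at hu
  have hgen : ∀ m ∈ s, push σ (Θ (MonoidAlgebra.single (Multiplicative.ofAdd m) 1)) =
      MonoidAlgebra.single (Multiplicative.ofAdd (e m)) 1 := fun m hm => by
    have hu' := hu m (hsfin.mem_toFinset.mpr hm)
    ext k
    simp only [push, MonoidAlgebra.coeff_mapAlgHom, MonoidAlgebra.coeff_single, Finsupp.single_apply]
    have h1 := congrArg σ (hg (Multiplicative.ofAdd m) k (f m))
    rw [map_mul] at h1
    have he : Multiplicative.ofAdd (e m) = f m := rfl
    rw [he]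
    by_cases hk : f m = k
    · subst hk
      rw [if_pos rfl] at h1 ⊢
      exact hu'.mul_right_cancel (h1.trans (one_mul _).symm)
    · rw [if_neg (Ne.symm hk), map_zero] at h1
      rw [if_neg hk]
      exact (IsUnit.mul_left_eq_zero hu').mp h1
  have hall : ∀ y : MA M B, push σ (Θ y) = reM (R := R) e.toAddMonoidHom (push σ y) := by
    have hone : ∀ m : M, push σ (Θ (MonoidAlgebra.single (Multiplicative.ofAdd m) 1)) =
        MonoidAlgebra.single (Multiplicative.ofAdd (e m)) 1 := fun m => by
      have hmem : m ∈ AddSubmonoid.closure s := hsgen ▸ AddSubmonoid.mem_top m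
      induction hmem using AddSubmonoid.closure_induction with
      | mem y hy => exact hgen y hy
      | zero =>
        show push σ (Θ (MonoidAlgebra.single (1 : Multiplicative M) 1)) = MonoidAlgebra.single (Multiplicative.ofAdd (e 0)) 1
        rw [← MonoidAlgebra.one_def, map_one, map_one, e.map_zero, ofAdd_zero]
        rfl
      | add a b _ _ ha hb =>
        rw [ofAdd_add, show (MonoidAlgebra.single (Multiplicative.ofAdd a * Multiplicative.ofAdd b) (1 : B)) =
          MonoidAlgebra.single (Multiplicative.ofAdd a) 1 * MonoidAlgebra.single (Multiplicative.ofAdd b) 1 by simp,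
          map_mul, map_mul, ha, hb, MonoidAlgebra.single_mul_single, one_mul, map_add, ofAdd_add]
    intro y
    induction y using MonoidAlgebra.induction_linear with
    | zero => simp
    | add a b ha hb => rw [map_add, map_add, map_add, map_add, ha, hb]
    | single k r =>
      show push σ (Θ (MonoidAlgebra.single k r)) = MonoidAlgebra.mapDomain _ (push σ (MonoidAlgebra.single k r))
      rw [push_single, MonoidAlgebra.mapDomain_single,
        show MonoidAlgebra.single k r = algebraMap B (MA M B) r * MonoidAlgebra.single (Multiplicative.ofAdd k.toAdd) 1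
          by simp [MonoidAlgebra.coe_algebraMap],
        map_mul, AlgEquiv.commutes, map_mul, hone,
        show algebraMap B (MA M' B) r = MonoidAlgebra.single 1 r by simp [MonoidAlgebra.coe_algebraMap], push_single,
        MonoidAlgebra.single_mul_single, one_mul, mul_one]
      rfl
  exact AlgHom.ext fun x => by
    show push σ (ψ' x) = reM (R := R) e.toAddMonoidHom (push σ (ψ x))
    rw [← hΘ, hall]

end Compare

end Groth.Agent.Deform.SubMT
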