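import Groth.Agent.Deform.MaxTori.Rep
import Groth.Agent.Deform.SubMT.FiniteMain
import Groth.Agent.Deform.SubMT.Main
import Groth.Prelude.Def_RedSub
import Groth.Prelude.Def_Mor2
import Mathlib.AlgebraicGeometry.AlgClosed.Basic

/-!
# Finite subgroups of multiplicative type of the type of a given one

The subgroups whose geometric fibres have the type of those of a given finite group of multiplicative type form an open
and closed part of the scheme of finite subgroups, which is affine over the base.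
-/

set_option autoImplicit false
set_option linter.style.haveILetI false
set_option backward.isDefEq.respectTransparency false
set_option backward.isDefEq.respectTransparency.types false
set_option maxHeartbeats 600000

universe u

open CategoryTheory CategoryTheory.Limits AlgebraicGeometry TopologicalSpace
open MonoidalCategory CartesianMonoidalCategory MonObj GrpObj

namespace Groth.Agent.Deform.SubMT

open HomMT

variable {S : Scheme.{u}}

/-- Geometric fibres of an etale-locally diagonalisable group. -/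
theorem nonempty_geom_DS {T W : Scheme.{u}} {H : Over T} [GrpObj H] (w : W ⟶ T) [Etale w] {M : Type} [AddCommGroup M]
    (d : Grp.mk (Red.bc w H) ≅ Grp.mk (Red.DS W M)) {K : Type u} [Field K] [IsAlgClosed K]
    (z : Spec (CommRingCat.of K) ⟶ T) (hz : z (IsLocalRing.closedPoint K) ∈ Set.range w) :
    Nonempty (Grp.mk (Red.bc z H) ≅ Grp.mk (Red.DS (Spec (CommRingCat.of K)) M)) := by
  obtain ⟨p, hp⟩ := hz
  obtain ⟨y, -, -⟩ := Scheme.Pullback.exists_preimage_pullback (f := w) (g := z) p _ hp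
  let f := pullback.snd w z
  haveI : Etale f := MorphismProperty.pullback_snd (P := @Etale) w z ‹_›
  have hd : DiscreteTopology ↥(pullback w z) := by
    have h1 := f.isDiscrete_preimage_singleton (IsLocalRing.closedPoint K)
    rw [show f ⁻¹' {IsLocalRing.closedPoint K} = Set.univ from
      Set.eq_univ_of_forall fun x => Subsingleton.elim _ _] at h1
    exact isDiscrete_univ_iff.1 h1
  have hy : IsClosed ({y} : Set ↥(pullback w z)) := isClosed_discrete _
  let a := pointOfClosedPoint f y hy ≫ pullback.fst w z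
  have ha : a ≫ w = z := by
    simp only [a, Category.assoc, pullback.condition]
    rw [← Category.assoc]
    exact (congrArg (· ≫ z) (pointOfClosedPoint_comp f y hy)).trans (Category.id_comp z)
  obtain ⟨b₁⟩ := GrpSchLib.MultTypeBC.bc_bc a w H
  obtain ⟨b₂⟩ := GrpSchLib.MultTypeBC.bc_iso a d
  obtain ⟨b₃⟩ := GrpSchLib.MultTypeBC.bc_DS a M
  obtain ⟨b₄⟩ := GrpSchLib.MultTypeBC.bc_congr ha H
  exact ⟨b₄.symm ≪≫ b₁.symm ≪≫ b₂ ≪≫ b₃⟩

theorem geomPt_closedPoint (s : S) : Red.geomPt s (IsLocalRing.closedPoint _) = s := by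
  rw [Red.geomPt, Scheme.Hom.comp_apply]
  exact Scheme.fromSpecResidueField_apply s _

/-- The type of a group of multiplicative type at a point is unique. -/
theorem grp_type_unique {T W W' : Scheme.{u}} {H : Over T} [GrpObj H] (w : W ⟶ T) (w' : W' ⟶ T) [Etale w] [Etale w']
    {M M' : Type} [AddCommGroup M] [AddGroup.FG M] [AddCommGroup M']
    (d : Grp.mk (Red.bc w H) ≅ Grp.mk (Red.DS W M)) (d' : Grp.mk (Red.bc w' H) ≅ Grp.mk (Red.DS W' M')) {t : T}
    (ht : t ∈ Set.range w) (ht' : t ∈ Set.range w') : Nonempty (M ≃+ M') := by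
  obtain ⟨a⟩ := nonempty_geom_DS w d (Red.geomPt t) ((geomPt_closedPoint t).symm ▸ ht)
  obtain ⟨a'⟩ := nonempty_geom_DS w' d' (Red.geomPt t) ((geomPt_closedPoint t).symm ▸ ht')
  exact nonempty_addEquiv_of_DS (a.symm ≪≫ a')

/-- A group of multiplicative type with finite fibres has finite types. -/
theorem finite_type_of_finite_fibres {W : Scheme.{u}} {H : Over S} [GrpObj H]
    (hHf : ∀ s : S, IsFinite (H.hom.fiberToSpecResidueField s)) (w : W ⟶ S) [Etale w] {M : Type} [AddCommGroup M]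
    (d : Grp.mk (Red.bc w H) ≅ Grp.mk (Red.DS W M)) (p : W) : Finite M := by
  obtain ⟨a⟩ := nonempty_geom_DS w d (Red.geomPt (w p)) ⟨p, (geomPt_closedPoint _).symm⟩
  let x := Spec.map (CommRingCat.ofHom (algebraMap (S.residueField (w p)) (AlgebraicClosure (S.residueField (w p)))))
  haveI : IsFinite (pullback.snd H.hom (S.fromSpecResidueField (w p))) := hHf (w p)
  have h0 : IsFinite (pullback.snd H.hom (Red.geomPt (w p))) := by
    rw [← pullbackLeftPullbackSndIso_inv_snd_snd H.hom (S.fromSpecResidueField (w p)) x]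
    infer_instance
  refine finite_of_isFinite_DS (B := AlgebraicClosure (S.residueField (w p))) M ?_
  let o : Red.bc (Red.geomPt (w p)) H ≅ Red.DS (Spec (CommRingCat.of (AlgebraicClosure (S.residueField (w p))))) M :=
    (Grp.forget _).mapIso a
  haveI : IsIso o.inv.left := ((Over.forget _).mapIso o).isIso_inv
  haveI : IsFinite (Red.bc (Red.geomPt (w p)) H).hom := h0
  rw [← Over.w o.inv]
  infer_instance

variable {G : Over S} [GrpObj G] [IsAffineHom G.hom]

/-- The scheme of finite subgroups of multiplicative type with the affine pieces of given type. -/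
theorem exists_finite_rep_types [LocallyOfFinitePresentation G.hom] :
    ∃ (X : Scheme.{u}) (u : Fam G X), LocallyOfFinitePresentation u.1 ∧
      (∀ (T : Scheme.{u}) (e : Fam G T), (∀ t : T, ∃ (V : S.affineOpens) (B : Type u) (_ : CommRing B)
        (_ : Algebra (RV V) B) (w : Spec (CommRingCat.of B) ⟶ T) (M : Type) (_ : AddCommGroup M)
        (ψ : AV G V →ₐ[RV V] MA M B), t ∈ Set.range w ∧ Finite M ∧ IsTriv G e.1 e.2.1 V w ψ) →
        ∃! v : T ⟶ X, Fam.pull v u = e) ∧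
      ∀ (W : S.affineOpens) (N : Type) [AddCommGroup N] [Finite N], ∃ U : X.Opens, IsAffineOpen U ∧
        ∀ y, y ∈ U ↔ u.1 y ∈ W.1 ∧ ∃ (V : S.affineOpens) (B : Type u) (_ : CommRing B)
          (_ : Algebra (RV V) B) (w : Spec (CommRingCat.of B) ⟶ X) (M : Type) (_ : AddCommGroup M) (_ : AddGroup.FG M)
          (ψ : AV G V →ₐ[RV V] MA M B), Etale w ∧ y ∈ Set.range w ∧ IsTriv G u.1 u.2.1 V w ψ ∧ Nonempty (M ≃+ N) := by
  obtain ⟨κ, V, c, hfin, hg0, hch⟩ := exists_charts_finite (G := G)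
  obtain ⟨X, p, u, rfl, hu, huniv, w, hwo, hw, hrange⟩ := exists_rep c
  haveI := hwo
  have hwstr : ∀ i, w i ≫ u.1 = (c i).str := fun i => congrArg Sigma.fst (hw i)
  refine ⟨X, u, ?_, fun T e he => huniv T e fun t => ?_, fun W N _ _ => ?_⟩
  · refine IsZariskiLocalAtSource.of_openCover (P := @LocallyOfFinitePresentation)
      (Scheme.Cover.mkOfCovers κ (fun i => (c i).Q) w (fun x => ?_) fun _ => inferInstance) fun i => ?_
    · obtain ⟨i, hi⟩ := hu x
      exact ⟨i, (hrange i x).mpr hi⟩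
    · show LocallyOfFinitePresentation (w i ≫ u.1)
      rw [hwstr]
      exact (c i).lfp_str
  · obtain ⟨V', B', _, _, w', M', _, ψ', ⟨q', hq'⟩, hfM, htr'⟩ := he t
    obtain ⟨W, hW, htW, -⟩ := exists_isAffineOpen_mem_and_subset (X := S) (x := e.1 t) (U := ⊤) trivial
    obtain ⟨B, _, _, w₁, M, _, ψ, -, ⟨q, rfl⟩, -, htr⟩ := exists_triv e.2.2 ⟨W, hW⟩ t htW
    haveI := hfM
    haveI : AddGroup.FG M' := Module.Finite.iff_addGroup_fg.mp inferInstance
    obtain ⟨a⟩ := type_unique e.2.2 htr' htr q' q hq'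
    haveI := Finite.of_equiv _ a.toEquiv
    obtain ⟨i, -, -, hi⟩ := hch ⟨W, hW⟩ M
    exact ⟨i, hi T e B w₁ M ψ htr ⟨AddEquiv.refl M⟩ q⟩
  · obtain ⟨i, hiV, ⟨hiN⟩, hiU⟩ := hch W N
    haveI := (c i).isAffine_Q (hg0 i)
    refine ⟨(w i).opensRange, isAffineOpen_opensRange _, fun y => ⟨fun hy => ?_, ?_⟩⟩
    · have hy' := (hrange i y).mp hy
      refine ⟨hiV ▸ (c i).inChart_mem hy', ?_⟩
      obtain ⟨B, _, _, e, M, _, ψ, he, ⟨q, hq⟩, hM, htr⟩ := exists_triv u.2.2 (V i) y ((c i).inChart_mem hy')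
      obtain ⟨a⟩ := (c i).nonempty_addEquiv htr q (hq.symm ▸ hy')
      exact ⟨_, B, inferInstance, inferInstance, e, M, inferInstance, hM, ψ, he, ⟨q, hq⟩, htr, ⟨a.symm.trans hiN⟩⟩
    · rintro ⟨hyW, V', B', _, _, e', M', _, hM', ψ', -, ⟨q', hq'⟩, htr', ⟨h'⟩⟩
      obtain ⟨B, _, _, e, M, _, ψ, -, ⟨q, rfl⟩, -, htr⟩ := exists_triv u.2.2 W y hyW
      obtain ⟨a⟩ := type_unique u.2.2 htr' htr q' q hq'
      exact (hrange i _).mpr (hiU X u B e M ψ htr ⟨a.symm.trans h'⟩ q)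

variable (H : Over S) [GrpObj H]

/-- The type of the family at the point is that of `H`. -/
def Good {T : Scheme.{u}} (e : Fam G T) (t : T) : Prop :=
  ∃ (V : S.affineOpens) (B : Type u) (_ : CommRing B) (_ : Algebra (RV V) B) (w : Spec (CommRingCat.of B) ⟶ T)
    (M : Type) (_ : AddCommGroup M) (_ : AddGroup.FG M) (ψ : AV G V →ₐ[RV V] MA M B),
    Etale w ∧ t ∈ Set.range w ∧ IsTriv G e.1 e.2.1 V w ψ ∧
      ∃ (W : Scheme.{u}) (a : W ⟶ S) (N : Type) (_ : AddCommGroup N) (_ : AddGroup.FG N),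
        Etale a ∧ e.1 t ∈ Set.range a ∧ Nonempty (Grp.mk (Red.bc a H) ≅ Grp.mk (Red.DS W N)) ∧ Nonempty (M ≃+ N)

variable {H}

theorem isOpen_good {T : Scheme.{u}} (e : Fam G T) : IsOpen {t | Good H e t} := by
  refine isOpen_iff_forall_mem_open.mpr ?_
  rintro t ⟨V, B, i₁, i₂, w, M, i₃, i₄, ψ, hw, ht, htr, W, a, N, i₅, i₆, ha, hta, d, h⟩
  haveI := hw
  haveI := ha
  exact ⟨Set.range w ∩ e.1 ⁻¹' Set.range a,
    fun y hy => ⟨V, B, i₁, i₂, w, M, i₃, i₄, ψ, hw, hy.1, htr, W, a, N, i₅, i₆, ha, hy.2, d, h⟩,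
    w.isOpenMap.isOpen_range.inter (a.isOpenMap.isOpen_range.preimage e.1.continuous), ht, hta⟩

theorem isClosed_good (hH : SGA3x.IsMultTypeFT H) {T : Scheme.{u}} (e : Fam G T) : IsClosed {t | Good H e t} := by
  rw [← isOpen_compl_iff]
  refine isOpen_iff_forall_mem_open.mpr fun t ht => ?_
  obtain ⟨W, a, N, iN, ha, hta, hN, ⟨d⟩⟩ := QuasiIsotrivial.exists_etale_split hH (e.1 t)
  obtain ⟨V, B, i₁, i₂, w, M, i₃, ψ, hw, htw, hM, htr⟩ := e.2.2 t
  haveI := hw
  haveI := ha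
  haveI := hN
  haveI := hM
  refine ⟨Set.range w ∩ e.1 ⁻¹' Set.range a, ?_, w.isOpenMap.isOpen_range.inter
    (a.isOpenMap.isOpen_range.preimage e.1.continuous), htw, hta⟩
  rintro y ⟨⟨q, hq⟩, hya⟩ ⟨V', B', _, _, w', M', _, _, ψ', -, ⟨q', hq'⟩, htr', W', a', N', _, _, ha', hya', ⟨d'⟩, ⟨h'⟩⟩
  haveI := ha'
  obtain ⟨x⟩ := type_unique e.2.2 htr htr' q q' (hq.trans hq'.symm)
  obtain ⟨z⟩ := grp_type_unique a' a d' d hya' hya
  exact ht ⟨V, B, i₁, i₂, w, M, i₃, hM, ψ, hw, htw, htr, W, a, N, iN, hN, ha, hta, ⟨d⟩, ⟨x.trans (h'.trans z)⟩⟩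

theorem good_pull {T T' : Scheme.{u}} (f : T' ⟶ T) {e : Fam G T} {x : T'} (h : Good H e (f x)) :
    Good H (Fam.pull f e) x := by
  obtain ⟨V, B, _, _, w, M, _, _, ψ, hw, ⟨b, hb⟩, htr, W, a, N, iN, hN, ha, hta, d, h⟩ := h
  haveI := hw
  obtain ⟨z, hz, -⟩ := Scheme.Pullback.exists_preimage_pullback (f := f) (g := w) x b hb.symm
  obtain ⟨B', _, _, σ, j, hj, ⟨z', hz'⟩, hjx⟩ := exists_affine_refine (R := RV V) (pullback.snd f w) z
  refine ⟨V, B', inferInstance, inferInstance, j ≫ pullback.fst f w, M, inferInstance, inferInstance, _, inferInstance,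
    ⟨z', by rw [Scheme.Hom.comp_apply, hz', hz]⟩, htr.map σ f rfl _ ?_, W, a, N, iN, hN, ha, ?_, d, h⟩
  · rw [Category.assoc, pullback.condition, reassoc_of% hjx]
  · show (f ≫ e.1) x ∈ _
    rw [Scheme.Hom.comp_apply]
    exact hta

theorem good_of_pull {T T' : Scheme.{u}} (f : T' ⟶ T) {e : Fam G T} {x : T'}
    (h : Good H (Fam.pull f e) x) : Good H e (f x) := by
  obtain ⟨V, B, _, _, w, M, _, _, ψ, -, ⟨p, hp⟩, htr, W₀, a₀, N, iN, hN, ha, hta, d, ⟨h⟩⟩ := h
  obtain ⟨W, hxV'⟩ : ∃ W : S.affineOpens, e.1 (f x) ∈ W.1 := by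
    obtain ⟨V', hV', hxV', -⟩ :=
      exists_isAffineOpen_mem_and_subset (X := S) (x := e.1 (f x)) (U := ⊤) trivial
    exact ⟨⟨V', hV'⟩, hxV'⟩
  obtain ⟨B', _, _, w', M', _, ψ', hw', ⟨p', hp'⟩, hM', htr'⟩ := exists_triv e.2.2 W (f x) hxV'
  obtain ⟨z, hz, -⟩ := Scheme.Pullback.exists_preimage_pullback (f := f) (g := w') x p' hp'.symm
  obtain ⟨B'', _, _, σ, j, hj, ⟨z', hz'⟩, hjx⟩ := exists_affine_refine (R := RV W)
    (pullback.snd f w') z
  have htr'' : IsTriv G (Fam.pull f e).1 (Fam.pull f e).2.1 W (j ≫ pullback.fst f w')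
      ((push σ).comp ψ') := htr'.map σ f rfl _ (by rw [Category.assoc, pullback.condition, reassoc_of% hjx])
  haveI := hM'
  obtain ⟨a⟩ := type_unique (Fam.pull f e).2.2 htr'' htr z' p (by rw [Scheme.Hom.comp_apply, hz', hz, hp])
  refine ⟨_, B', inferInstance, inferInstance, w', M', inferInstance, hM', ψ', hw', ⟨p', hp'⟩, htr', W₀, a₀, N, iN, hN,
    ha, ?_, d, ⟨a.trans h⟩⟩
  rw [← Scheme.Hom.comp_apply]
  exact hta

/-- At a good point the geometric fibre is that of `H`. -/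
theorem nonempty_iso_of_good {T : Scheme.{u}} {e : Fam G T} [GrpObj (subK e.2.1)] [IsMonHom (subj e.2.1)] {t : T}
    (h : Good H e t) :
    Nonempty (Grp.mk (Red.geomFibre t (subK e.2.1)) ≅ Grp.mk (Red.bc (Red.geomPt t ≫ e.1) H)) := by
  obtain ⟨V, B, _, _, w, M, _, _, ψ, hw, ht, htr, W, a, N, iN, hN, ha, hta, ⟨d⟩, ⟨h⟩⟩ := h
  haveI := hw
  haveI := ha
  obtain ⟨d₀⟩ := nonempty_iso_of_triv htr
  obtain ⟨b⟩ := nonempty_geom_DS w d₀ (Red.geomPt t) ((geomPt_closedPoint t).symm ▸ ht)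
  obtain ⟨b'⟩ := nonempty_geom_DS a d (Red.geomPt t ≫ e.1) (by
    rw [Scheme.Hom.comp_apply, geomPt_closedPoint]; exact hta)
  obtain ⟨c⟩ := Deform.SplitQuot.nonempty_DS_congr
    (S := Spec (CommRingCat.of (AlgebraicClosure (T.residueField t)))) h
  exact ⟨b ≪≫ c.symm ≪≫ b'.symm⟩

/-- A point where the geometric fibre is that of `H` is good. -/
theorem good_of_iso (hH : SGA3x.IsMultTypeFT H) {T : Scheme.{u}} {f : T ⟶ S} {K' : Over T} [GrpObj K']
    (j' : K' ⟶ Red.bc f G) [IsMonHom j'] [IsClosedImmersion j'.left] (hK : SGA3x.IsMultTypeFT K') (t : T)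
    (h : Nonempty (Grp.mk (Red.geomFibre t K') ≅ Grp.mk (Red.bc (Red.geomPt t ≫ f) H))) :
    Good H (⟨f, j'.left.ker, isSub_ker j' hK⟩ : Fam G T) t := by
  obtain ⟨i⟩ := h
  obtain ⟨W, a, N, iN, ha, hta, hN, ⟨d⟩⟩ := QuasiIsotrivial.exists_etale_split hH (f t)
  obtain ⟨V, B, _, _, w, M, _, ψ, hw, htw, hM, htr⟩ := isSub_ker j' hK t
  haveI := ha
  haveI := hw
  haveI := hM
  obtain ⟨iK, hmon, -⟩ := exists_grp (isSub_ker j' hK)
  letI := iK
  haveI := hmon
  obtain ⟨d₀⟩ := nonempty_iso_of_triv htr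
  obtain ⟨o⟩ := MaxTori.nonempty_iso_subK j'
  obtain ⟨o'⟩ := GrpSchLib.MultTypeBC.bc_iso (Red.geomPt t) o
  obtain ⟨b⟩ := nonempty_geom_DS w d₀ (Red.geomPt t) ((geomPt_closedPoint t).symm ▸ htw)
  obtain ⟨b'⟩ := nonempty_geom_DS a d (Red.geomPt t ≫ f) (by
    rw [Scheme.Hom.comp_apply, geomPt_closedPoint]; exact hta)
  obtain ⟨x⟩ := nonempty_addEquiv_of_DS (b.symm ≪≫ o'.symm ≪≫ i ≪≫ b')
  exact ⟨V, B, inferInstance, inferInstance, w, M, inferInstance, hM, ψ, hw, htw, htr, W, a, N, iN, hN, ha, hta, ⟨d⟩,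
    ⟨x⟩⟩

/-- A good point has a finite type. -/
theorem finite_of_good (hHf : ∀ s : S, IsFinite (H.hom.fiberToSpecResidueField s)) {T : Scheme.{u}} {e : Fam G T}
    {t : T} (h : Good H e t) : ∃ (V : S.affineOpens) (B : Type u) (_ : CommRing B) (_ : Algebra (RV V) B)
      (w : Spec (CommRingCat.of B) ⟶ T) (M : Type) (_ : AddCommGroup M) (ψ : AV G V →ₐ[RV V] MA M B),
      t ∈ Set.range w ∧ Finite M ∧ IsTriv G e.1 e.2.1 V w ψ := by
  obtain ⟨V, B, _, _, w, M, _, _, ψ, hw, ht, htr, W, a, N, iN, hN, ha, ⟨p, hp⟩, ⟨d⟩, ⟨h⟩⟩ := h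
  haveI := ha
  haveI := finite_type_of_finite_fibres hHf a d p
  exact ⟨V, B, inferInstance, inferInstance, w, M, inferInstance, ψ, ht, Finite.of_equiv _ h.symm.toEquiv, htr⟩

omit [GrpObj G] [IsAffineHom G.hom] in
/-- Two closed subschemes with the same points are equal. -/
theorem ker_eq_of_lifts {P : Scheme.{u}} {I J : P.IdealSheafData}
    (h : ∀ (X : Scheme.{u}) (x : X ⟶ P), I.comap x = ⊥ ↔ J.comap x = ⊥) : I = J :=
  le_antisymm (le_of_comap_eq_bot ((h _ _).mpr (DescLib.comap_subschemeι J)))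
    (le_of_comap_eq_bot ((h _ _).mp (DescLib.comap_subschemeι I)))

omit [GrpObj G] [IsAffineHom G.hom] in
/-- Factorisation through a closed immersion. -/
theorem exists_lift_iff_comap {Q P X : Scheme.{u}} (i : Q ⟶ P) [IsClosedImmersion i] (x : X ⟶ P) :
    (∃ p, p ≫ i = x) ↔ i.ker.comap x = ⊥ := by
  constructor
  · rintro ⟨p, rfl⟩
    rw [Scheme.IdealSheafData.comap_comp,
      show i.ker.comap i = ⊥ by
        rw [eq_bot_iff, ← Scheme.IdealSheafData.le_map_iff_comap_le, Scheme.IdealSheafData.map_bot],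
      Scheme.IdealSheafData.comap_bot]
  · intro hx
    have hle : i.ker ≤ x.ker := by
      rw [← Scheme.IdealSheafData.map_bot x, Scheme.IdealSheafData.le_map_iff_comap_le, hx]
    exact ⟨IsClosedImmersion.lift i x hle, IsClosedImmersion.lift_fac _ _ _⟩

/-- The subgroup given by a point of the scheme has the same points as the pullback. -/
theorem samePoints_iff {X T : Scheme.{u}} (u : Fam G X) (v : T ⟶ X) {f : T ⟶ S} (hv : v ≫ u.1 = f) {K' : Over T}
    [GrpObj K'] (j' : K' ⟶ Red.bc f G) [IsMonHom j'] [IsClosedImmersion j'.left] (hK : SGA3x.IsMultTypeFT K') :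
    (∀ (Y : Scheme.{u}) (y : Y ⟶ T) (c : Y ⟶ G.left),
      (∃ p : Y ⟶ K'.left, p ≫ K'.hom = y ∧ p ≫ j'.left ≫ pullback.fst G.hom f = c) ↔
      (∃ p : Y ⟶ (subK u.2.1).left, p ≫ (subK u.2.1).hom = y ≫ v ∧
        p ≫ (subj u.2.1).left ≫ pullback.fst G.hom u.1 = c)) ↔
      Fam.pull v u = ⟨f, j'.left.ker, isSub_ker j' hK⟩ := by
  subst hv
  have hL : ∀ (Y : Scheme.{u}) (x : Y ⟶ pullback G.hom (v ≫ u.1)),
      (∃ p : Y ⟶ K'.left, p ≫ K'.hom = x ≫ pullback.snd G.hom (v ≫ u.1) ∧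
        p ≫ j'.left ≫ pullback.fst G.hom (v ≫ u.1) = x ≫ pullback.fst G.hom (v ≫ u.1)) ↔
      j'.left.ker.comap x = ⊥ := fun Y x => by
    rw [← exists_lift_iff_comap]
    refine exists_congr fun p => ⟨fun ⟨h1, h2⟩ => ?_, fun h => ?_⟩
    · apply pullback.hom_ext
      · rw [Category.assoc]; exact h2
      · rw [Category.assoc]; exact ((congrArg (p ≫ ·) (Over.w j')).trans h1)
    · subst h
      rw [Category.assoc, Category.assoc]
      exact ⟨(congrArg (p ≫ ·) (Over.w j')).symm, rfl⟩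
  have hR : ∀ (Y : Scheme.{u}) (x : Y ⟶ pullback G.hom (v ≫ u.1)),
      (∃ p : Y ⟶ (subK u.2.1).left, p ≫ (subK u.2.1).hom = (x ≫ pullback.snd G.hom (v ≫ u.1)) ≫ v ∧
        p ≫ (subj u.2.1).left ≫ pullback.fst G.hom u.1 = x ≫ pullback.fst G.hom (v ≫ u.1)) ↔
      (Fam.pull v u).2.1.comap x = ⊥ := fun Y x => by
    show _ ↔ ((u.2.1).comap (bm G v u.1 (v ≫ u.1) rfl)).comap x = ⊥
    rw [← Scheme.IdealSheafData.comap_comp, ← Scheme.IdealSheafData.ker_subschemeι u.2.1, ← exists_lift_iff_comap,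
      Scheme.IdealSheafData.ker_subschemeι]
    refine exists_congr fun p => ⟨fun ⟨h1, h2⟩ => ?_, fun h => ?_⟩
    · apply pullback.hom_ext
      · rw [Category.assoc, Category.assoc, bm_fst]; exact h2
      · rw [Category.assoc, Category.assoc, bm_snd]; exact h1.trans (Category.assoc _ _ _)
    · refine ⟨?_, ?_⟩
      · show p ≫ u.2.1.subschemeι ≫ pullback.snd G.hom u.1 = _
        rw [reassoc_of% h, bm_snd, Category.assoc]
      · show p ≫ u.2.1.subschemeι ≫ _ = _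
        rw [reassoc_of% h, bm_fst]
  constructor
  · intro h
    refine congrArg (Sigma.mk (v ≫ u.1)) (Subtype.ext (ker_eq_of_lifts fun Y x => ?_))
    exact (hR Y x).symm.trans ((h Y _ _).symm.trans (hL Y x))
  · intro h Y y c
    have hker : (Fam.pull v u).2.1 = j'.left.ker := Subtype.ext_iff.mp (eq_of_heq (Sigma.ext_iff.mp h).2)
    by_cases hc : c ≫ G.hom = y ≫ v ≫ u.1
    · let x := pullback.lift c y hc
      have e1 : x ≫ pullback.fst G.hom (v ≫ u.1) = c := pullback.lift_fst _ _ _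
      have e2 : x ≫ pullback.snd G.hom (v ≫ u.1) = y := pullback.lift_snd _ _ _
      have h1 := hL Y x
      have h2 := hR Y x
      rw [e1, e2] at h1 h2
      rw [h1, ← hker]
      exact h2.symm
    · constructor
      · rintro ⟨p, hp1, hp2⟩
        refine absurd ?_ hc
        rw [← hp2, ← hp1, Category.assoc, Category.assoc, pullback.condition]
        exact congrArg (p ≫ ·) ((Category.assoc _ _ _).symm.trans (congrArg (· ≫ v ≫ u.1) (Over.w j')))
      · rintro ⟨p, hp1, hp2⟩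
        refine absurd ?_ hc
        rw [← hp2]
        show (p ≫ (subj u.2.1).left ≫ pullback.fst G.hom u.1) ≫ G.hom = _
        rw [Category.assoc, Category.assoc, pullback.condition]
        exact ((congrArg (p ≫ ·) ((Category.assoc _ _ _).symm.trans (congrArg (· ≫ u.1) (Over.w (subj u.2.1))))).trans
          ((Category.assoc _ _ _).symm.trans ((congrArg (· ≫ u.1) hp1).trans (Category.assoc _ _ _))))

/-- The scheme of subgroups of the type of `H`. -/
theorem exists_twist [Smooth G.hom] (hH : SGA3x.IsMultTypeFT H)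
    (hHf : ∀ s : S, IsFinite (H.hom.fiberToSpecResidueField s)) :
    ∃ (M : Over S) (Hu : Over M.left) (_ : GrpObj Hu) (hu : Hu ⟶ Red.bc M.hom G) (_ : IsMonHom hu) (_ : Mono hu),
      Mor2.IsQuasiAffine M.hom ∧ LocallyOfFinitePresentation M.hom ∧ SGA3x.IsMultTypeFT Hu ∧
      (∀ m : ↥M.left, Nonempty (Grp.mk (Red.geomFibre m Hu) ≅ Grp.mk (Red.bc (Red.geomPt m ≫ M.hom) H))) ∧
      ∀ (S' : Scheme.{u}) (f : S' ⟶ S) (H' : Over S') [GrpObj H'] (h' : H' ⟶ Red.bc f G) [IsMonHom h'] [Mono h'],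
        SGA3x.IsMultTypeFT H' →
        (∀ s' : S', Nonempty (Grp.mk (Red.geomFibre s' H') ≅ Grp.mk (Red.bc (Red.geomPt s' ≫ f) H))) →
        ∃! g : S' ⟶ M.left, g ≫ M.hom = f ∧ RedSub.SamePoints G f h' M hu g := by
  obtain ⟨X, u, hlfp, huniv, htypes⟩ := exists_finite_rep_types (G := G)
  haveI := hlfp
  let Ω : X.Opens := ⟨{x | Good H u x}, isOpen_good u⟩
  let e := Fam.pull Ω.ι u
  obtain ⟨iK, hmon, hK⟩ := exists_grp e.2.2
  letI := iK
  haveI := hmon
  haveI : Mono (subj e.2.1).left := inferInstanceAs (Mono e.2.1.subschemeι)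
  haveI : Mono (subj e.2.1) := Over.mono_of_mono_left _
  have haff : IsAffineHom e.1 := by
    refine isAffineHom_of_forall_exists_isAffineOpen e.1 fun s => ?_
    obtain ⟨W', a, N, iN, ha, hsa, hN, ⟨d⟩⟩ := QuasiIsotrivial.exists_etale_split hH s
    haveI := ha
    obtain ⟨W, hW, hsW, hWa⟩ :=
      exists_isAffineOpen_mem_and_subset (x := s) (U := ⟨Set.range a, a.isOpenMap.isOpen_range⟩) hsa
    obtain ⟨p, hp⟩ := hsa
    haveI := finite_type_of_finite_fibres hHf a d p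
    obtain ⟨U, hU, hUmem⟩ := htypes ⟨W, hW⟩ N
    refine ⟨W, hsW, hW, ?_⟩
    show IsAffineOpen ((Ω.ι ≫ u.1) ⁻¹ᵁ W)
    rw [← Ω.ι.isAffineOpen_iff_of_isOpenImmersion]
    convert hU using 1
    rw [Scheme.Hom.comp_preimage, Scheme.Hom.image_preimage_eq_opensRange_inf, Scheme.Opens.opensRange_ι]
    refine TopologicalSpace.Opens.ext (Set.ext fun y => ?_)
    rw [SetLike.mem_coe, SetLike.mem_coe, hUmem]
    constructor
    · rintro ⟨⟨V, B, _, _, w, M, _, hM, ψ, hw, hy, htr, W'', a', N', iN', hN', ha', hya', ⟨d'⟩, ⟨h⟩⟩, hyW⟩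
      haveI := ha'
      obtain ⟨z⟩ := grp_type_unique a' a d' d hya' (hWa hyW)
      exact ⟨hyW, V, B, inferInstance, inferInstance, w, M, inferInstance, hM, ψ, hw, hy, htr, ⟨h.trans z⟩⟩
    · rintro ⟨hyW, V, B, _, _, w, M, _, hM, ψ, hw, hy, htr, h⟩
      exact ⟨⟨V, B, inferInstance, inferInstance, w, M, inferInstance, hM, ψ, hw, hy, htr, W', a, N, iN, hN, ha,
        hWa hyW, ⟨d⟩, h⟩, hyW⟩
  refine ⟨Over.mk e.1, subK e.2.1, iK, subj e.2.1, hmon, inferInstance, ?_, ?_, hK,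
    fun m => nonempty_iso_of_good (good_pull Ω.ι m.2), fun S' f H' _ h' _ _ hH' hiso => ?_⟩
  · haveI := haff
    refine ⟨inferInstanceAs (QuasiCompact e.1), fun V hV => ?_⟩
    haveI : IsAffine (e.1 ⁻¹ᵁ V : Scheme.{u}) := hV.preimage e.1
    exact (inferInstance : Scheme.IsQuasiAffine (e.1 ⁻¹ᵁ V : Scheme.{u}))
  · exact inferInstanceAs (LocallyOfFinitePresentation (Ω.ι ≫ u.1))
  · haveI : IsSeparated (Red.bc f G).hom := isSeparated_bc f
    haveI : LocallyOfFiniteType (Red.bc f G).hom := inferInstanceAs (LocallyOfFiniteType (pullback.snd G.hom f))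
    haveI : QuasiCompact (Red.bc f G).hom := inferInstanceAs (QuasiCompact (pullback.snd G.hom f))
    haveI : IsClosedImmersion h'.left := Luna.MonoClosed.isClosedImmersion_multType hH' h'
    have hgood : ∀ t, Good H (⟨f, h'.left.ker, isSub_ker h' hH'⟩ : Fam G S') t := fun t =>
      good_of_iso hH h' hH' t (hiso t)
    obtain ⟨v, hv, hv'⟩ := huniv S' ⟨f, h'.left.ker, isSub_ker h' hH'⟩ fun t => finite_of_good hHf (hgood t)
    have hvΩ : Set.range v ⊆ Set.range Ω.ι := by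
      rintro _ ⟨t, rfl⟩
      rw [Scheme.Opens.range_ι]
      exact good_of_pull v (hv.symm ▸ hgood t)
    let g := IsOpenImmersion.lift Ω.ι v hvΩ
    have hg : g ≫ Ω.ι = v := IsOpenImmersion.lift_fac _ _ _
    have hge : Fam.pull g e = ⟨f, h'.left.ker, isSub_ker h' hH'⟩ := by
      rw [← Fam.pull_comp, hg]; exact hv
    refine ⟨g, ⟨congrArg Sigma.fst hge, (samePoints_iff e g (congrArg Sigma.fst hge) h' hH').mpr hge⟩, ?_⟩
    rintro g' ⟨hg', hsp⟩
    have h2 := (samePoints_iff e g' hg' h' hH').mp hsp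
    rw [← Fam.pull_comp] at h2
    rw [← cancel_mono Ω.ι, hg]
    exact hv' _ h2

end Groth.Agent.Deform.SubMT
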